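import Mathlib

/-!
# The group `GL(2,3)` as quadruples of residues modulo three
-/

set_option autoImplicit false
set_option synthInstance.maxSize 1024

namespace CfsgLib.GLTwoThree

/-- A `2 × 2` matrix over the field of three elements. -/
abbrev Q := ZMod 3 × ZMod 3 × ZMod 3 × ZMod 3

def det (q : Q) : ZMod 3 := q.1 * q.2.2.2 - q.2.1 * q.2.2.1

def tr (q : Q) : ZMod 3 := q.1 + q.2.2.2

def qmul (x y : Q) : Q :=
  (x.1 * y.1 + x.2.1 * y.2.2.1, x.1 * y.2.1 + x.2.1 * y.2.2.2,
    x.2.2.1 * y.1 + x.2.2.2 * y.2.2.1, x.2.2.1 * y.2.1 + x.2.2.2 * y.2.2.2)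

def qinv (x : Q) : Q :=
  (det x * x.2.2.2, -(det x * x.2.1), -(det x * x.2.2.1), det x * x.1)

abbrev qI : Q := (1, 0, 0, 1)
abbrev qT : Q := (2, 0, 0, 2)
abbrev qS : Q := (1, 0, 0, 2)
abbrev qZ : Q := (1, 1, 0, 1)
abbrev qTZ : Q := (2, 2, 0, 2)
abbrev qF : Q := (0, 2, 1, 0)
abbrev qA : Q := (1, 1, 2, 1)
abbrev qA' : Q := (2, 1, 2, 2)

/-- Representatives of the eight classes. -/
def rep (k : Fin 8) : Q := ([qI, qT, qS, qZ, qTZ, qF, qA, qA'] : List Q).getD k.val qI

/-- The class of an invertible matrix. -/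
def cls (q : Q) : Fin 8 :=
  if q = qI then 0 else if q = qT then 1 else
  if det q = 1 then (if tr q = 2 then 3 else if tr q = 1 then 4 else 5)
  else (if tr q = 0 then 2 else if tr q = 2 then 6 else 7)

/-- The invertible matrices. -/
def good : Finset Q := Finset.univ.filter fun q => det q ≠ 0

/-- The normalizer of the cyclic subgroup of order eight. -/
def sd : Finset Q := good.filter fun q =>
  qmul q qA = qmul qA q ∨ qmul q qA = qmul (qmul qA (qmul qA qA)) q

/-- The upper triangular matrices. -/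
def bor : Finset Q := good.filter fun q => q.2.2.1 = 0

theorem good_mul : ∀ x ∈ good, ∀ y ∈ good, qmul x y ∈ good := by decide +kernel

theorem good_inv : ∀ x ∈ good, qinv x ∈ good ∧ qmul x (qinv x) = qI ∧ qmul (qinv x) x = qI := by
  decide +kernel

theorem good_rep : ∀ k, rep k ∈ good := by decide +kernel

theorem card_good : good.card = 48 := by decide +kernel

theorem card_sd : sd.card = 16 := by decide +kernel

theorem card_bor : bor.card = 12 := by decide +kernel

theorem sd_good : ∀ x ∈ sd, x ∈ good := by decide +kernel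

theorem bor_good : ∀ x ∈ bor, x ∈ good := by decide +kernel

theorem sd_mul : ∀ x ∈ sd, ∀ y ∈ sd, qmul x y ∈ sd := by decide +kernel

theorem sd_inv : ∀ x ∈ sd, qinv x ∈ sd := by decide +kernel

theorem bor_mul : ∀ x ∈ bor, ∀ y ∈ bor, qmul x y ∈ bor := by decide +kernel

theorem bor_inv : ∀ x ∈ bor, qinv x ∈ bor := by decide +kernel

theorem qI_good : qI ∈ good := by decide +kernel
theorem qI_sd : qI ∈ sd := by decide +kernel
theorem qI_bor : qI ∈ bor := by decide +kernel
theorem qT_sd : qT ∈ sd := by decide +kernel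
theorem qS_sd : qS ∈ sd := by decide +kernel
theorem qA_sd : qA ∈ sd := by decide +kernel

theorem cls_conj : ∀ q ∈ good, ∃ c ∈ good, qmul c q = qmul (rep (cls q)) c := by decide +kernel

theorem count_good : ∀ k : Fin 8,
    (good.filter fun q => cls q = k).card = ([1, 1, 12, 8, 8, 6, 6, 6] : List ℕ).getD k.val 0 := by
  decide +kernel

theorem count_sd : ∀ k : Fin 8,
    (sd.filter fun q => cls q = k).card = ([1, 1, 4, 0, 0, 6, 2, 2] : List ℕ).getD k.val 0 := by
  decide +kernel

theorem count_bor : ∀ k : Fin 8,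
    (bor.filter fun q => cls q = k).card = ([1, 1, 6, 2, 2, 0, 0, 0] : List ℕ).getD k.val 0 := by
  decide +kernel

theorem central_eq : ∀ x ∈ good, (∀ y ∈ good, qmul x y = qmul y x) → x = qI ∨ x = qT := by
  decide +kernel

theorem sd_central : ∀ x ∈ sd, qmul x qA = qmul qA x → qmul x qS = qmul qS x → x = qI ∨ x = qT := by
  decide +kernel

theorem invol_cases : ∀ x ∈ good, qmul x x = qI → x = qI ∨ x = qT ∨ cls x = 2 := by decide +kernel

theorem powers : qmul qA qA = qF ∧ qmul qF qF = qT ∧ qmul qT qT = qI ∧ qmul qS qS = qI ∧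
    qinv qA = qA' ∧ qinv qF = qmul qF qT ∧ qmul qT qS = qmul qS qT := by decide +kernel

theorem no_invert_A : ∀ x ∈ good, qmul x qA ≠ qmul qA' x := by decide +kernel

theorem invert_F : ∃ x ∈ good, qmul x qF = qmul (qinv qF) x := by decide +kernel

theorem cent_F : (good.filter fun x => qmul x qF = qmul qF x).card = 8 := by decide +kernel

theorem cent_A : (good.filter fun x => qmul x qA = qmul qA x).card = 8 := by decide +kernel

theorem pairs_F : (good.filter fun x => qmul x x = qI ∧ x ≠ qI ∧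
    qmul (qmul x qF) (qmul x qF) = qI ∧ qmul x qF ≠ qI).card = 4 := by decide +kernel

theorem pairs_A : (good.filter fun x => qmul x x = qI ∧ x ≠ qI ∧
    qmul (qmul x qA) (qmul x qA) = qI ∧ qmul x qA ≠ qI).card = 0 := by decide +kernel

/-- Reflections generate. -/
theorem refl_generate : ∀ q ∈ good, ∃ x ∈ good.filter (fun x => cls x = 2 ∨ x = qI),
    ∃ y ∈ good.filter (fun x => cls x = 2 ∨ x = qI), ∃ z ∈ good.filter (fun x => cls x = 2 ∨ x = qI),
    ∃ w ∈ good.filter (fun x => cls x = 2 ∨ x = qI), qmul (qmul x y) (qmul z w) = q := by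
  decide +kernel

end CfsgLib.GLTwoThree
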