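import Mathlib
import Cfsg.Agent.Lib.GLTwoThree.Model
import Cfsg.Agent.Lib.Char.Ortho

/-!
# An involution with centralizer `GL(2,3)`
-/

set_option autoImplicit false

namespace CfsgLib.GLTwoThree

open Subgroup CfsgLib.Char

universe u

variable {G : Type u} [Group G]

/-- `ψ` identifies the invertible matrices with the centralizer of `ψ (-1)`. -/
structure Loc (ψ : Q → G) : Prop where
  map_mul : ∀ x ∈ good, ∀ y ∈ good, ψ (qmul x y) = ψ x * ψ y
  inj : ∀ x ∈ good, ∀ y ∈ good, ψ x = ψ y → x = y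
  mem_iff : ∀ g : G, g * ψ qT = ψ qT * g ↔ ∃ x ∈ good, ψ x = g

variable {ψ : Q → G}

theorem qT_good : qT ∈ good := sd_good _ qT_sd
theorem qS_good : qS ∈ good := sd_good _ qS_sd
theorem qA_good : qA ∈ good := sd_good _ qA_sd

theorem qF_good : qF ∈ good := powers.1 ▸ good_mul _ qA_good _ qA_good

theorem qA'_good : qA' ∈ good := powers.2.2.2.2.1 ▸ (good_inv _ qA_good).1

theorem rep_vals : rep 0 = qI ∧ rep 1 = qT ∧ rep 2 = qS ∧ rep 3 = qZ ∧ rep 4 = qTZ ∧ rep 5 = qF ∧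
    rep 6 = qA ∧ rep 7 = qA' := by
  decide +kernel

theorem map_I (h : Loc ψ) : ψ qI = 1 := by
  have h1 := h.map_mul _ qI_good _ qI_good
  rw [show qmul qI qI = qI by decide +kernel] at h1
  exact left_eq_mul.1 h1

theorem map_inv' (h : Loc ψ) {x : Q} (hx : x ∈ good) : ψ (qinv x) = (ψ x)⁻¹ := by
  obtain ⟨hi, h1, -⟩ := good_inv x hx
  refine eq_inv_of_mul_eq_one_right ?_
  rw [← h.map_mul _ hx _ hi, h1, map_I h]

theorem psi_eq_one (h : Loc ψ) {x : Q} (hx : x ∈ good) (e : ψ x = 1) : x = qI :=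
  h.inj _ hx _ qI_good (e.trans (map_I h).symm)

theorem T_sq (h : Loc ψ) : ψ qT * ψ qT = 1 := by
  rw [← h.map_mul _ qT_good _ qT_good, powers.2.2.1, map_I h]

theorem T_ne (h : Loc ψ) : ψ qT ≠ 1 := fun e => by
  have := psi_eq_one h qT_good e
  exact absurd this (by decide)

theorem S_sq (h : Loc ψ) : ψ qS * ψ qS = 1 := by
  rw [← h.map_mul _ qS_good _ qS_good, powers.2.2.2.1, map_I h]

theorem S_ne (h : Loc ψ) : ψ qS ≠ 1 := fun e => by
  have := psi_eq_one h qS_good e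
  exact absurd this (by decide)

theorem F_sq (h : Loc ψ) : ψ qF * ψ qF = ψ qT := by
  rw [← h.map_mul _ qF_good _ qF_good, powers.2.1]

theorem A_sq (h : Loc ψ) : ψ qA * ψ qA = ψ qF := by
  rw [← h.map_mul _ qA_good _ qA_good, powers.1]

theorem A_inv (h : Loc ψ) : (ψ qA)⁻¹ = ψ qA' := by
  rw [← map_inv' h qA_good, powers.2.2.2.2.1]

theorem commute_T (h : Loc ψ) {x : Q} (hx : x ∈ good) : ψ x * ψ qT = ψ qT * ψ x :=
  (h.mem_iff _).2 ⟨x, hx, rfl⟩

theorem isConj_of_model (h : Loc ψ) {x y c : Q} (hx : x ∈ good) (hy : y ∈ good) (hc : c ∈ good)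
    (e : qmul c x = qmul y c) : IsConj (ψ x) (ψ y) := by
  refine isConj_iff.2 ⟨ψ c, ?_⟩
  rw [← h.map_mul _ hc _ hx, e, h.map_mul _ hy _ hc, mul_inv_cancel_right]

theorem isConj_rep (h : Loc ψ) {x : Q} (hx : x ∈ good) : IsConj (ψ x) (ψ (rep (cls x))) := by
  obtain ⟨c, hc, e⟩ := cls_conj x hx
  exact isConj_of_model h hx (good_rep _) hc e

/-- The centralizer of a root of `ψ (-1)`. -/
theorem mem_of_commute (h : Loc ψ) {x : Q} (hx : x ∈ good) {g : G}
    (hp : ψ qT ∈ zpowers (ψ x)) (hg : g * ψ x = ψ x * g) : ∃ y ∈ good, ψ y = g ∧ qmul y x = qmul x y := by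
  obtain ⟨k, hk⟩ := mem_zpowers_iff.1 hp
  have hgt : g * ψ qT = ψ qT * g := by rw [← hk]; exact ((show Commute g (ψ x) from hg).zpow_right k).eq
  obtain ⟨y, hy, rfl⟩ := (h.mem_iff g).1 hgt
  refine ⟨y, hy, rfl, h.inj _ (good_mul _ hy _ hx) _ (good_mul _ hx _ hy) ?_⟩
  rw [h.map_mul _ hy _ hx, h.map_mul _ hx _ hy, hg]

theorem card_centralizer_root [Finite G] (h : Loc ψ) {x : Q} (hx : x ∈ good)
    (hp : ψ qT ∈ zpowers (ψ x)) :
    Nat.card (centralizer ({ψ x} : Set G)) = (good.filter fun y => qmul y x = qmul x y).card := by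
  rw [← Nat.card_eq_finsetCard]
  symm
  refine Nat.card_eq_of_bijective (fun y => ⟨ψ y.1, ?_⟩) ⟨?_, ?_⟩
  · obtain ⟨hy, e⟩ := Finset.mem_filter.1 y.2
    rw [mem_centralizer_singleton_iff, ← h.map_mul _ hy _ hx, e, h.map_mul _ hx _ hy]
  · intro a b e
    exact Subtype.ext (h.inj _ (Finset.mem_filter.1 a.2).1 _ (Finset.mem_filter.1 b.2).1
      (congrArg Subtype.val e))
  · intro g
    obtain ⟨y, hy, e, hc⟩ := mem_of_commute h hx hp (mem_centralizer_singleton_iff.1 g.2)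
    exact ⟨⟨y, Finset.mem_filter.2 ⟨hy, hc⟩⟩, Subtype.ext e⟩

theorem T_mem_F (h : Loc ψ) : ψ qT ∈ zpowers (ψ qF) := by
  rw [← F_sq h]; exact mul_mem (mem_zpowers _) (mem_zpowers _)

theorem T_mem_A (h : Loc ψ) : ψ qT ∈ zpowers (ψ qA) := by
  rw [← F_sq h, ← A_sq h]
  exact mul_mem (mul_mem (mem_zpowers _) (mem_zpowers _)) (mul_mem (mem_zpowers _) (mem_zpowers _))

theorem card_centralizer_T [Finite G] (h : Loc ψ) : Nat.card (centralizer ({ψ qT} : Set G)) = 48 := by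
  rw [card_centralizer_root h qT_good (mem_zpowers _),
    Finset.filter_true_of_mem fun x hx => h.inj _ (good_mul _ hx _ qT_good) _ (good_mul _ qT_good _ hx)
      (by rw [h.map_mul _ hx _ qT_good, h.map_mul _ qT_good _ hx, commute_T h hx])]
  exact card_good

theorem card_centralizer_F [Finite G] (h : Loc ψ) : Nat.card (centralizer ({ψ qF} : Set G)) = 8 := by
  rw [card_centralizer_root h qF_good (T_mem_F h)]
  exact cent_F

theorem card_centralizer_A [Finite G] (h : Loc ψ) : Nat.card (centralizer ({ψ qA} : Set G)) = 8 := by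
  rw [card_centralizer_root h qA_good (T_mem_A h)]
  exact cent_A

theorem F_real (h : Loc ψ) : IsConj (ψ qF) (ψ qF)⁻¹ := by
  obtain ⟨c, hc, e⟩ := invert_F
  rw [← map_inv' h qF_good]
  exact isConj_of_model h qF_good (good_inv _ qF_good).1 hc e

theorem A_not_real (h : Loc ψ) : ¬ IsConj (ψ qA) (ψ qA)⁻¹ := by
  intro hc
  obtain ⟨g, hg⟩ := isConj_iff.1 hc
  have hT : ψ qT = ψ qA * ψ qA * (ψ qA * ψ qA) := by rw [A_sq h, F_sq h]
  have hgt : g * ψ qT * g⁻¹ = ψ qT := by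
    calc g * ψ qT * g⁻¹ = g * ψ qA * g⁻¹ * (g * ψ qA * g⁻¹) * (g * ψ qA * g⁻¹ * (g * ψ qA * g⁻¹)) := by
          rw [hT]; group
      _ = (ψ qA * ψ qA * (ψ qA * ψ qA))⁻¹ := by rw [hg]; group
      _ = ψ qT := by rw [← hT]; exact inv_eq_of_mul_eq_one_right (T_sq h)
  obtain ⟨x, hx, rfl⟩ := (h.mem_iff g).1 (mul_inv_eq_iff_eq_mul.1 hgt)
  refine no_invert_A x hx (h.inj _ (good_mul _ hx _ qA_good) _ (good_mul _ qA'_good _ hx) ?_)
  rw [h.map_mul _ hx _ qA_good, h.map_mul _ qA'_good _ hx, ← A_inv h]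
  exact mul_inv_eq_iff_eq_mul.1 hg

/-- The subgroup given by a closed set of matrices. -/
def image (h : Loc ψ) (P : Finset Q) (hP : ∀ x ∈ P, x ∈ good) (h1 : qI ∈ P)
    (hm : ∀ x ∈ P, ∀ y ∈ P, qmul x y ∈ P) (hi : ∀ x ∈ P, qinv x ∈ P) : Subgroup G where
  carrier := {g | ∃ x ∈ P, ψ x = g}
  one_mem' := ⟨qI, h1, map_I h⟩
  mul_mem' := fun ⟨x, hx, ex⟩ ⟨y, hy, ey⟩ =>
    ⟨qmul x y, hm x hx y hy, by rw [h.map_mul _ (hP x hx) _ (hP y hy), ex, ey]⟩
  inv_mem' := fun ⟨x, hx, ex⟩ => ⟨qinv x, hi x hx, by rw [map_inv' h (hP x hx), ex]⟩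

theorem card_image (h : Loc ψ) (P : Finset Q) (hP : ∀ x ∈ P, x ∈ good) (h1 : qI ∈ P)
    (hm : ∀ x ∈ P, ∀ y ∈ P, qmul x y ∈ P) (hi : ∀ x ∈ P, qinv x ∈ P) :
    Nat.card (image h P hP h1 hm hi) = P.card := by
  rw [← Nat.card_eq_finsetCard]
  symm
  refine Nat.card_eq_of_bijective (fun x => ⟨ψ x.1, x.1, x.2, rfl⟩) ⟨?_, ?_⟩
  · intro a b e
    exact Subtype.ext (h.inj _ (hP _ a.2) _ (hP _ b.2) (congrArg Subtype.val e))
  · rintro ⟨g, x, hx, rfl⟩
    exact ⟨⟨x, hx⟩, rfl⟩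

/-- The multiplicity of the principal character in the restriction to such a subgroup. -/
theorem exists_fixed [Fintype G] (h : Loc ψ) (P : Finset Q) (hP : ∀ x ∈ P, x ∈ good) (h1 : qI ∈ P)
    (hm : ∀ x ∈ P, ∀ y ∈ P, qmul x y ∈ P) (hi : ∀ x ∈ P, qinv x ∈ P) (cnt : List ℕ)
    (hcnt : ∀ k : Fin 8, (P.filter fun q => cls q = k).card = cnt.getD k.val 0)
    (χ : Cfsg.IrrCharacter G) :
    ∃ m : ℕ, (P.card : ℂ) * m = ∑ k : Fin 8, (cnt.getD k.val 0 : ℂ) * (χ : G → ℂ) (ψ (rep k)) := by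
  classical
  let K := image h P hP h1 hm hi
  obtain ⟨m, hm'⟩ := classInner_char_nat (isCharacter_res K (isCharacter_of_isIrr χ.2))
    (isCharacter_one (G := K))
  refine ⟨m, ?_⟩
  rw [← hm', classInner_one_right]
  have hc : Nat.card K = P.card := card_image h P hP h1 hm hi
  have hne : (P.card : ℂ) ≠ 0 := by exact_mod_cast (Finset.card_pos.2 ⟨qI, h1⟩).ne'
  rw [hc, ← mul_assoc, mul_inv_cancel₀ hne, one_mul]
  have e : ∑ g : K, (χ : G → ℂ) g = ∑ q ∈ P, (χ : G → ℂ) (ψ q) := by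
    symm
    refine Finset.sum_bij (fun q hq => (⟨ψ q, q, hq, rfl⟩ : K)) (fun _ _ => Finset.mem_univ _)
      (fun a ha b hb e => h.inj _ (hP _ ha) _ (hP _ hb) (congrArg Subtype.val e)) ?_ (fun _ _ => rfl)
    rintro ⟨g, x, hx, rfl⟩ -
    exact ⟨x, hx, rfl⟩
  rw [e, ← Finset.sum_fiberwise P cls]
  refine Finset.sum_congr rfl fun k _ => ?_
  rw [Finset.sum_congr rfl fun q hq => (show (χ : G → ℂ) (ψ q) = (χ : G → ℂ) (ψ (rep k)) from by
    obtain ⟨hq1, rfl⟩ := Finset.mem_filter.1 hq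
    exact isClassFunction_iff.1 (isClassFunction_of_isIrr χ.2) _ _ (isConj_rep h (hP q hq1)))]
  rw [Finset.sum_const, hcnt k, nsmul_eq_mul]

/-- The centralizer of an involution isomorphic to `GL(2,3)` is of this form. -/
theorem exists_loc {t : G} (ht : orderOf t = 2)
    (e : centralizer ({t} : Set G) ≃* Matrix.GeneralLinearGroup (Fin 2) (ZMod 3)) :
    ∃ ψ : Q → G, Loc ψ ∧ ψ qT = t := by
  haveI : Fact (Nat.Prime 3) := ⟨Nat.prime_three⟩
  let toQ : Matrix.GeneralLinearGroup (Fin 2) (ZMod 3) → Q := fun M => (M.1 0 0, M.1 0 1, M.1 1 0, M.1 1 1)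
  have hinj : Function.Injective toQ := by
    intro A B hAB
    simp only [toQ, Prod.mk.injEq] at hAB
    refine Units.ext (Matrix.ext fun i j => ?_)
    fin_cases i <;> fin_cases j <;> simp [hAB]
  have hmul : ∀ A B, toQ (A * B) = qmul (toQ A) (toQ B) := by
    intro A B
    simp [toQ, qmul, Units.val_mul, Matrix.mul_apply, Fin.sum_univ_two]
  have hdet : ∀ A, toQ A ∈ good := fun A => Finset.mem_filter.2 ⟨Finset.mem_univ _, by
    have := Matrix.GeneralLinearGroup.det_ne_zero A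
    rwa [Matrix.det_fin_two] at this⟩
  have hsurj : ∀ x ∈ good, ∃ A, toQ A = x := fun x hx =>
    ⟨Matrix.GeneralLinearGroup.mkOfDetNeZero !![x.1, x.2.1; x.2.2.1, x.2.2.2]
      (by rw [Matrix.det_fin_two_of]; exact (Finset.mem_filter.1 hx).2), rfl⟩
  let v : Q → G := fun x => (e.symm (Function.invFun toQ x) : G)
  have hv : ∀ A, v (toQ A) = e.symm A := fun A => by simp only [v, Function.leftInverse_invFun hinj A]
  have hmem : ∀ g : G, g * t = t * g ↔ ∃ x ∈ good, v x = g := by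
    intro g
    constructor
    · intro hg
      refine ⟨toQ (e ⟨g, mem_centralizer_singleton_iff.2 hg⟩), hdet _, ?_⟩
      rw [hv, MulEquiv.symm_apply_apply]
    · rintro ⟨x, hx, rfl⟩
      obtain ⟨A, rfl⟩ := hsurj x hx
      rw [hv]
      exact mem_centralizer_singleton_iff.1 (e.symm A).2
  have hvmul : ∀ x ∈ good, ∀ y ∈ good, v (qmul x y) = v x * v y := by
    intro x hx y hy
    obtain ⟨A, rfl⟩ := hsurj x hx
    obtain ⟨B, rfl⟩ := hsurj y hy
    rw [← hmul, hv, hv, hv, map_mul, Subgroup.coe_mul]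
  have hvinj : ∀ x ∈ good, ∀ y ∈ good, v x = v y → x = y := by
    intro x hx y hy exy
    obtain ⟨A, rfl⟩ := hsurj x hx
    obtain ⟨B, rfl⟩ := hsurj y hy
    rw [hv, hv] at exy
    rw [e.symm.injective (Subtype.ext exy)]
  obtain ⟨x, hx, hxt⟩ := (hmem t).1 rfl
  have hxT : x = qT := by
    rcases central_eq x hx (fun y hy => hvinj _ (good_mul _ hx _ hy) _ (good_mul _ hy _ hx) (by
      rw [hvmul _ hx _ hy, hvmul _ hy _ hx, hxt]
      exact ((hmem (v y)).2 ⟨y, hy, rfl⟩).symm)) with h' | h'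
    · exfalso
      subst h'
      have h1 := hvmul _ qI_good _ qI_good
      rw [show qmul qI qI = qI by decide +kernel] at h1
      have : t = 1 := hxt.symm.trans (left_eq_mul.1 h1)
      rw [this, orderOf_one] at ht
      exact absurd ht (by norm_num)
    · exact h'
  subst hxT
  exact ⟨v, ⟨hvmul, hvinj, fun g => by rw [hxt]; exact hmem g⟩, hxt⟩

end CfsgLib.GLTwoThree
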