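import Mathlib
import Cfsg.Agent.Lib.GLTwoThree.Local
import Cfsg.Agent.Lib.Invol.ZStarFinal
import Cfsg.Agent.Lib.Invol.Isolated
import Cfsg.Agent.Lib.Cores.Basic

/-!
# All involutions are conjugate
-/

set_option autoImplicit false

namespace CfsgLib.GLTwoThree

open Subgroup

universe u

variable {G : Type u} [Group G] [Finite G] {ψ : Q → G}

/-- The Sylow subgroup of the centralizer. -/
def sdSub (h : Loc ψ) : Subgroup G := image h sd sd_good qI_sd sd_mul sd_inv

theorem sdSub_pgroup (h : Loc ψ) : IsPGroup 2 (sdSub h) :=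
  IsPGroup.of_card (n := 4) (by rw [sdSub, card_image, card_sd]; norm_num)

theorem exists_sylow (h : Loc ψ) : ∃ P : Sylow 2 G, (P : Subgroup G) = sdSub h := by
  classical
  haveI : Fact (Nat.Prime 2) := ⟨Nat.prime_two⟩
  obtain ⟨P, hP⟩ := (sdSub_pgroup h).exists_le_sylow
  refine ⟨P, le_antisymm ?_ hP⟩
  by_contra hle
  have hlt : (sdSub h).subgroupOf (P : Subgroup G) < ⊤ :=
    lt_top_iff_ne_top.2 fun e => hle (subgroupOf_eq_top.1 e)
  haveI : Group.IsNilpotent (P : Subgroup G) := P.2.isNilpotent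
  obtain ⟨g, hg, hgK⟩ := SetLike.exists_of_lt (Group.normalizerCondition_of_isNilpotent _ hlt)
  have hn : ∀ a : G, a ∈ sdSub h → (g : G) * a * (g : G)⁻¹ ∈ sdSub h := fun a ha =>
    (mem_normalizer_iff.1 hg ⟨a, hP ha⟩).1 ha
  have hn' : ∀ a : G, a ∈ sdSub h → (g : G)⁻¹ * a * (g : G) ∈ sdSub h := fun a ha => by
    have := (mem_normalizer_iff.1 (inv_mem hg) ⟨a, hP ha⟩).1 ha
    simpa [mem_subgroupOf] using this
  have hTK : ψ qT ∈ sdSub h := ⟨qT, qT_sd, rfl⟩
  obtain ⟨x, hx, hxe⟩ := hn _ hTK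
  have hc : ∀ y ∈ sd, qmul x y = qmul y x := by
    intro y hy
    refine h.inj _ (sd_good _ (sd_mul _ hx _ hy)) _ (sd_good _ (sd_mul _ hy _ hx)) ?_
    obtain ⟨z, hz, hze⟩ := hn' (ψ y) ⟨y, hy, rfl⟩
    have hy' : ψ y = (g : G) * ψ z * (g : G)⁻¹ := by rw [hze]; group
    rw [h.map_mul _ (sd_good _ hx) _ (sd_good _ hy), h.map_mul _ (sd_good _ hy) _ (sd_good _ hx), hxe, hy']
    have := commute_T h (sd_good _ hz)
    calc (g : G) * ψ qT * (g : G)⁻¹ * ((g : G) * ψ z * (g : G)⁻¹)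
        = (g : G) * (ψ qT * ψ z) * (g : G)⁻¹ := by group
      _ = (g : G) * (ψ z * ψ qT) * (g : G)⁻¹ := by rw [this]
      _ = _ := by group
  rcases sd_central x hx (hc _ qA_sd) (hc _ qS_sd) with rfl | rfl
  · rw [map_I h] at hxe
    exact T_ne h (conj_eq_one_iff.1 hxe.symm)
  · obtain ⟨y, hy, hye⟩ := (h.mem_iff (g : G)).1 (mul_inv_eq_iff_eq_mul.1 hxe.symm)
    let W : Subgroup G := image h good (fun _ hx => hx) qI_good good_mul (fun x hx => (good_inv x hx).1)
    have hKW : sdSub h < (P : Subgroup G) ⊓ W :=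
      lt_of_le_of_ne (le_inf hP fun a ⟨z, hz, hza⟩ => ⟨z, sd_good _ hz, hza⟩) fun e => hgK (by
        show (g : G) ∈ sdSub h
        rw [e]
        exact ⟨g.2, y, hy, hye⟩)
    have hWc : Nat.card W = 48 := by rw [card_image, card_good]
    obtain ⟨k, hk⟩ := (IsPGroup.iff_card (p := 2)).1 (P.2.to_le (inf_le_left : (P : Subgroup G) ⊓ W ≤ P))
    have h16 : Nat.card (sdSub h) = 16 := by rw [sdSub, card_image, card_sd]
    have hd := card_dvd_of_le (inf_le_right : (P : Subgroup G) ⊓ W ≤ W)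
    rw [hk, hWc] at hd
    have hgt : 16 < 2 ^ k := by
      rw [← hk, ← h16]
      exact lt_of_le_of_ne (Nat.le_of_dvd Nat.card_pos (card_dvd_of_le hKW.le)) fun e => hKW.ne (eq_of_le_of_card_ge hKW.le e.ge)
    have hk5 : 5 ≤ k := by
      by_contra hlt5
      have := Nat.pow_le_pow_right (n := 2) (by norm_num) (by omega : k ≤ 4)
      omega
    have : (2 : ℕ) ^ 5 ∣ 48 := (pow_dvd_pow 2 hk5).trans hd
    norm_num at this

theorem card_two_part (h : Loc ψ) : 16 ∣ Nat.card G ∧ ¬ 32 ∣ Nat.card G := by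
  haveI : Fact (Nat.Prime 2) := ⟨Nat.prime_two⟩
  obtain ⟨P, hP⟩ := exists_sylow h
  have h16 : Nat.card (P : Subgroup G) = 16 := by rw [hP, sdSub, card_image, card_sd]
  refine ⟨h16 ▸ card_subgroup_dvd_card _, fun hd => ?_⟩
  have h1 := P.card_eq_multiplicity
  rw [h16] at h1
  have h2 : 5 ≤ (Nat.card G).factorization 2 :=
    (Nat.prime_two.pow_dvd_iff_le_factorization Nat.card_pos.ne').1 (by simpa using hd)
  have h3 := Nat.pow_le_pow_right (n := 2) (by norm_num) h2
  omega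

theorem orderOf_T (h : Loc ψ) : orderOf (ψ qT) = 2 :=
  orderOf_eq_prime (by rw [pow_two]; exact T_sq h) (T_ne h)

theorem orderOf_S (h : Loc ψ) : orderOf (ψ qS) = 2 :=
  orderOf_eq_prime (by rw [pow_two]; exact S_sq h) (S_ne h)

/-- An involution of the centralizer. -/
theorem invol_mem_cases (h : Loc ψ) {x : Q} (hx : x ∈ good) (h1 : ψ x * ψ x = 1) (hne : ψ x ≠ 1) :
    ψ x = ψ qT ∨ IsConj (ψ x) (ψ qS) := by
  have e : qmul x x = qI := psi_eq_one h (good_mul _ hx _ hx) (by rw [h.map_mul _ hx _ hx, h1])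
  rcases invol_cases x hx e with rfl | rfl | hc
  · exact absurd (map_I h) hne
  · exact Or.inl rfl
  · have h2 := isConj_rep h hx
    rw [hc, rep_vals.2.2.1] at h2
    exact Or.inr h2

theorem isolated_of_not_conj (h : Loc ψ) (hne : ¬ IsConj (ψ qT) (ψ qS)) :
    Cfsg.IsIsolatedInvolution (ψ qT) := by
  obtain ⟨P, hP⟩ := exists_sylow h
  refine CfsgLib.Invol.isolated_of_sylow P (orderOf_T h) (by rw [hP]; exact ⟨qT, qT_sd, rfl⟩) fun g hg => ?_
  rw [hP] at hg
  obtain ⟨x, hx, hxe⟩ := hg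
  rcases invol_mem_cases h (sd_good _ hx) (by rw [hxe, conj_mul, T_sq h]; group)
      (by rw [hxe]; exact fun e => T_ne h (conj_eq_one_iff.1 e)) with e | e
  · rw [← hxe]; exact e
  · exact absurd ((isConj_iff.2 ⟨g, hxe.symm⟩).trans e) hne

/-- The hypothesis used below: one class of involutions. -/
def OneClass (ψ : Q → G) : Prop := ∀ u : G, orderOf u = 2 → IsConj (ψ qT) u

theorem oneClass_of_conj (h : Loc ψ) (hc : IsConj (ψ qT) (ψ qS)) : OneClass ψ := by
  intro u hu
  haveI : Fact (Nat.Prime 2) := ⟨Nat.prime_two⟩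
  obtain ⟨P, hP⟩ := exists_sylow h
  obtain ⟨R, hR⟩ := (IsPGroup.of_card (n := 1) (by rw [Nat.card_zpowers, hu, pow_one]) :
    IsPGroup 2 (zpowers u)).exists_le_sylow
  obtain ⟨g, hg⟩ := MulAction.exists_smul_eq G R P
  have h1 : g * u * g⁻¹ ∈ sdSub h := by
    rw [← hP, ← hg]
    exact ⟨u, hR (mem_zpowers u), rfl⟩
  obtain ⟨x, hx, hxe⟩ := h1
  have huu : u * u = 1 := by rw [← pow_two, ← hu, pow_orderOf_eq_one]
  rcases invol_mem_cases h (sd_good _ hx) (by rw [hxe, conj_mul, huu]; group)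
      (by rw [hxe]; intro e; rw [conj_eq_one_iff.1 e, orderOf_one] at hu; omega) with e | e
  · exact (isConj_iff.2 ⟨g, hxe.symm.trans e⟩).symm
  · exact (hc.trans (e.symm.trans (isConj_iff.2 ⟨g, hxe.symm⟩).symm))

theorem oneClass_simple [IsSimpleGroup G] (h : Loc ψ) : OneClass ψ := by
  by_contra hno
  have hiso := isolated_of_not_conj h fun hc => hno (oneClass_of_conj h hc)
  have hO : Cfsg.oddCore G = ⊥ := by
    rcases (inferInstance : (Cfsg.oddCore G).Normal).eq_bot_or_eq_top with e | e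
    · exact e
    · exfalso
      have h1 := CfsgLib.Cores.odd_card_oddCore (G := G)
      rw [e, card_top] at h1
      have h2 := (card_two_part h).1
      exact (Nat.not_even_iff_odd.2 h1) (even_iff_two_dvd.2 (Nat.dvd_trans (by norm_num) h2))
  have hc := CfsgLib.Invol.zstar_center hiso hO
  have htop : center G = ⊤ := by
    rcases (inferInstance : (center G).Normal).eq_bot_or_eq_top with e | e
    · rw [e, mem_bot] at hc; exact absurd hc (T_ne h)
    · exact e
  have hS : ψ qS ∈ center G := htop ▸ mem_top _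
  have e : ∀ x ∈ good, qmul qS x = qmul x qS := fun x hx => h.inj _ (good_mul _ qS_good _ hx) _
    (good_mul _ hx _ qS_good) (by rw [h.map_mul _ qS_good _ hx, h.map_mul _ hx _ qS_good,
      mem_center_iff.1 hS (ψ x)])
  rcases central_eq qS qS_good e with e' | e' <;> exact absurd e' (by decide)

end CfsgLib.GLTwoThree
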