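import Mathlib
import Cfsg.Agent.Lib.GLTwoThree.Model

/-!
# The elements of order three of `GL(2,3)` and the diagonal four group
-/

set_option autoImplicit false
set_option synthInstance.maxSize 1024

namespace CfsgLib.GLTwoThree

/-- The lower transvection. -/
abbrev qL : Q := (1, 0, 1, 1)

/-- The centralizer of the upper transvection. -/
def cenZ : Finset Q := good.filter fun q => qmul q qZ = qmul qZ q

theorem card_cenZ : cenZ.card = 6 := by decide +kernel

theorem cenZ_good : ∀ x ∈ cenZ, x ∈ good := fun _ hx => (Finset.mem_filter.1 hx).1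

theorem cenZ_mul : ∀ x ∈ cenZ, ∀ y ∈ cenZ, qmul x y ∈ cenZ := by decide +kernel

theorem cenZ_inv : ∀ x ∈ cenZ, qinv x ∈ cenZ := by decide +kernel

theorem qI_cenZ : qI ∈ cenZ := by decide +kernel

theorem qZ_good : qZ ∈ good := by decide +kernel

theorem qL_good : qL ∈ good := by decide +kernel

theorem cube_cases : ∀ x ∈ good, qmul (qmul x x) x = qI → x = qI ∨ cls x = 3 := by decide +kernel

theorem cube_diag : ∀ x ∈ good, qmul (qmul x x) x = qI → qmul x qS = qmul qS x → x = qI := by
  decide +kernel

theorem root_cases : ∀ x ∈ good, qmul (qmul x x) x = qI → qmul (qmul qS x) qS = qinv x →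
    x = qI ∨ x = qZ ∨ x = qinv qZ ∨ x = qL ∨ x = qinv qL := by
  decide +kernel

theorem root_facts : qmul (qmul qZ qZ) qZ = qI ∧ qmul (qmul qL qL) qL = qI ∧
    qmul (qmul qS qZ) qS = qinv qZ ∧ qmul (qmul qS qL) qS = qinv qL := by
  decide +kernel

/-- The reflections are conjugate to the second diagonal involution. -/
theorem refl_conj : ∀ x ∈ good, cls x = 2 → ∃ c ∈ good, qmul c qS = qmul x c := by decide +kernel

end CfsgLib.GLTwoThree
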