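import Mathlib
import Cfsg.Agent.Lib.GLTwoThree.Fusion
import Cfsg.Agent.Lib.GLTwoThree.RootModel

/-!
# Groups without normal subgroup of `2`-power index and with centralizer `GL(2,3)` are simple
-/

set_option autoImplicit false
set_option synthInstance.maxSize 1024

namespace CfsgLib.GLTwoThree

open Subgroup

universe u

/-- The matrices of determinant one. -/
def slQ : Finset Q := good.filter fun q => det q = 1

theorem slQ_good : ∀ x ∈ slQ, x ∈ good := fun _ hx => (Finset.mem_filter.1 hx).1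

theorem slQ_mul : ∀ x ∈ slQ, ∀ y ∈ slQ, qmul x y ∈ slQ := by decide +kernel

theorem slQ_inv : ∀ x ∈ slQ, qinv x ∈ slQ := by decide +kernel

theorem qI_slQ : qI ∈ slQ := by decide +kernel

theorem det_pow_eight : ∀ x ∈ good, det x ≠ 1 →
    qmul (qmul (qmul x x) (qmul x x)) (qmul (qmul x x) (qmul x x)) = qI := by decide +kernel

theorem det_qmul : ∀ x ∈ good, ∀ y ∈ good, det (qmul x y) = det x * det y := by decide +kernel

theorem zl_order : qmul (qmul (qmul qZ qL) (qmul qZ qL)) (qmul (qmul qZ qL) (qmul qZ qL)) = qI ∧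
    qmul qZ qL ≠ qI ∧ qmul (qmul qZ qL) (qmul qZ qL) ≠ qI := by decide +kernel

theorem conj_to_L : ∃ c ∈ good, qmul c qZ = qmul qL c := by decide +kernel

theorem odd_cases : ∀ x ∈ good, x = qI ∨ cls x = 3 ∨
    qmul (qmul (qmul x x) (qmul x x)) (qmul (qmul x x) (qmul x x)) = qI ∨
    qmul (qmul (qmul x x) x) (qmul (qmul x x) x) = qI := by decide +kernel

variable {G : Type u} [Group G] {ψ : Q → G}

theorem pow_eight (h : Loc ψ) {x : Q} (hx : x ∈ good)
    (e : qmul (qmul (qmul x x) (qmul x x)) (qmul (qmul x x) (qmul x x)) = qI) : ψ x ^ 8 = 1 := by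
  have h2 := good_mul _ hx _ hx
  have h4 := good_mul _ h2 _ h2
  have := congrArg ψ e
  rw [h.map_mul _ h4 _ h4, h.map_mul _ h2 _ h2, h.map_mul _ hx _ hx, map_I h] at this
  rw [← this]; simp only [pow_succ, pow_zero, one_mul, mul_assoc]

theorem eq_one_of_odd_of_pow {y : G} {n : ℕ} (ho : Odd (orderOf y)) (hn : y ^ (2 ^ n) = 1) :
    y = 1 := by
  obtain ⟨k, -, hk⟩ := (Nat.dvd_prime_pow Nat.prime_two).1 (orderOf_dvd_of_pow_eq_one hn)
  rw [← orderOf_eq_one_iff, hk]
  rcases Nat.eq_zero_or_pos k with rfl | hk0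
  · rfl
  · exfalso
    rw [hk, Nat.odd_pow_iff hk0.ne'] at ho
    exact absurd ho (by decide)

theorem det_one_of_odd (h : Loc ψ) {x : Q} (hx : x ∈ good) (ho : Odd (orderOf (ψ x))) :
    det x = 1 := by
  by_contra hne
  have := psi_eq_one h hx (eq_one_of_odd_of_pow (n := 3) ho (pow_eight h hx (det_pow_eight x hx hne)))
  subst this
  exact hne (by decide)

variable [Finite G]

theorem oneClass_of_pResidual (h : Loc ψ) (hO : Cfsg.pResidual 2 G = ⊤) : OneClass ψ := by
  by_cases hc : IsConj (ψ qT) (ψ qS)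
  · exact oneClass_of_conj h hc
  exfalso
  have hiso := isolated_of_not_conj h hc
  set N := Cfsg.oddCore G with hN
  have hodd : Odd (Nat.card N) := CfsgLib.Cores.odd_card_oddCore
  have hodd' : ∀ y ∈ N, Odd (orderOf y) := fun y hy =>
    hodd.of_dvd_nat (Subgroup.orderOf_dvd_natCard N hy)
  set H := image h slQ slQ_good qI_slQ slQ_mul slQ_inv with hH
  haveI : N.Normal := inferInstanceAs (Cfsg.oddCore G).Normal
  have hdec : ∀ g : G, ∃ n ∈ N, ∃ x ∈ good, g = n * ψ x := by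
    intro g
    set m := g * ψ qT * g⁻¹ * ψ qT with hm
    have hmN : m ∈ N := by
      have := CfsgLib.Invol.zstar hiso g
      rw [← hN] at this
      have h2 := inv_mem this
      rw [show (ψ qT * g * (ψ qT)⁻¹ * g⁻¹)⁻¹ = g * ψ qT * g⁻¹ * (ψ qT)⁻¹ by group] at h2
      rwa [inv_eq_of_mul_eq_one_right (T_sq h)] at h2
    have hTm : ψ qT * m * ψ qT = m⁻¹ := by
      refine eq_inv_of_mul_eq_one_left ?_
      calc ψ qT * m * ψ qT * m
          = ψ qT * (g * ψ qT * g⁻¹) * (ψ qT * ψ qT) * (g * ψ qT * g⁻¹) * ψ qT := by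
            rw [hm]; group
        _ = ψ qT * (g * ψ qT * g⁻¹) * (g * ψ qT * g⁻¹) * ψ qT := by rw [T_sq h, mul_one]
        _ = ψ qT * (g * (ψ qT * ψ qT) * g⁻¹) * ψ qT := by group
        _ = 1 := by rw [T_sq h, mul_one, mul_inv_cancel, mul_one, T_sq h]
    obtain ⟨k, hk⟩ := hodd' m hmN
    set r := m ^ (k + 1) with hr
    have hrr : r * r = m := by
      rw [hr, ← pow_add, show k + 1 + (k + 1) = orderOf m + 1 by omega, pow_succ,
        pow_orderOf_eq_one, one_mul]
    have hTr : ψ qT * r * ψ qT = r⁻¹ := by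
      have hTi : (ψ qT)⁻¹ = ψ qT := inv_eq_of_mul_eq_one_right (T_sq h)
      calc ψ qT * r * ψ qT = (ψ qT * m * (ψ qT)⁻¹) ^ (k + 1) := by rw [conj_pow, hTi, hr]
        _ = r⁻¹ := by rw [hTi, hTm, inv_pow, hr]
    have hgt : r⁻¹ * g * ψ qT = ψ qT * (r⁻¹ * g) := by
      have e1 : r * ψ qT * r⁻¹ = g * ψ qT * g⁻¹ := by
        calc r * ψ qT * r⁻¹ = r * (ψ qT * r⁻¹ * ψ qT) * ψ qT := by
              simp only [mul_assoc, T_sq h, mul_one]
          _ = r * (ψ qT * r * ψ qT)⁻¹ * ψ qT := by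
              rw [mul_inv_rev, mul_inv_rev, inv_eq_of_mul_eq_one_right (T_sq h)]
              simp only [mul_assoc]
          _ = m * ψ qT := by rw [hTr, inv_inv, hrr]
          _ = g * ψ qT * g⁻¹ * (ψ qT * ψ qT) := by rw [hm, mul_assoc]
          _ = g * ψ qT * g⁻¹ := by rw [T_sq h, mul_one]
      calc r⁻¹ * g * ψ qT = r⁻¹ * (g * ψ qT * g⁻¹) * g := by group
        _ = r⁻¹ * (r * ψ qT * r⁻¹) * g := by rw [e1]
        _ = _ := by group
    obtain ⟨x, hx, hxe⟩ := (h.mem_iff _).1 hgt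
    exact ⟨r, pow_mem hmN _, x, hx, by rw [hxe]; group⟩
  have htop : N ⊔ H = ⊤ := by
    rw [eq_top_iff, ← hO]
    refine (Subgroup.closure_le _).2 fun g hg => ?_
    obtain ⟨n, hn, x, hx, rfl⟩ := hdec g
    refine mul_mem (mem_sup_left hn) (mem_sup_right ⟨x, Finset.mem_filter.2 ⟨hx, ?_⟩, rfl⟩)
    refine det_one_of_odd h hx ?_
    set m := orderOf (n * ψ x) with hm
    have hmo : Odd m := Nat.coprime_two_right.1 hg
    have hin : ψ x ^ m ∈ N := by
      have h1 : ((n * ψ x : G) : G ⧸ N) ^ m = ((ψ x : G) : G ⧸ N) ^ m := by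
        rw [QuotientGroup.mk_mul, (QuotientGroup.eq_one_iff n).2 hn, one_mul]
      rw [← QuotientGroup.mk_pow, pow_orderOf_eq_one, QuotientGroup.mk_one, ← QuotientGroup.mk_pow] at h1
      exact (QuotientGroup.eq_one_iff _).1 h1.symm
    have hp : ψ x ^ (m * orderOf (ψ x ^ m)) = 1 := by rw [pow_mul, pow_orderOf_eq_one]
    exact (hmo.mul (hodd' _ hin)).of_dvd_nat (orderOf_dvd_of_pow_eq_one hp)
  obtain ⟨n, hn, y, ⟨x, hx, rfl⟩, he⟩ := mem_sup_of_normal_left.1 (htop ▸ mem_top (ψ qS) :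
    ψ qS ∈ N ⊔ H)
  have hxg := slQ_good x hx
  have hn' : n = ψ (qmul qS (qinv x)) := by
    rw [h.map_mul _ qS_good _ (good_inv _ hxg).1, map_inv' h hxg, ← he, mul_inv_cancel_right]
  have hq := good_mul _ qS_good _ (good_inv _ hxg).1
  have := det_one_of_odd h hq (hn' ▸ hodd' n hn)
  rw [det_qmul _ qS_good _ (good_inv _ hxg).1, (Finset.mem_filter.1 (slQ_inv x hx)).2, mul_one]
    at this
  exact absurd this (by decide)

omit [Finite G] in
theorem fixed_odd_normal (h : Loc ψ) {N : Subgroup G} [N.Normal] (hodd : Odd (Nat.card N)) {y : G}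
    (hy : y ∈ N) (hc : y * ψ qT = ψ qT * y) : y = 1 := by
  obtain ⟨x, hx, rfl⟩ := (h.mem_iff y).1 hc
  have ho : Odd (orderOf (ψ x)) := hodd.of_dvd_nat (Subgroup.orderOf_dvd_natCard N hy)
  rcases odd_cases x hx with e | e | e | e
  · rw [e, map_I h]
  · exfalso
    have h3 := isConj_rep h hx
    rw [e, rep_vals.2.2.2.1] at h3
    obtain ⟨g, hg⟩ := isConj_iff.1 h3
    have hZ : ψ qZ ∈ N := hg ▸ ‹N.Normal›.conj_mem _ hy g
    obtain ⟨c, hc', hce⟩ := conj_to_L
    have hL : ψ qL ∈ N := by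
      have := ‹N.Normal›.conj_mem _ hZ (ψ c)
      rwa [← h.map_mul _ hc' _ qZ_good, hce, h.map_mul _ qL_good _ hc', mul_inv_cancel_right] at this
    have hZL : ψ (qmul qZ qL) ∈ N := by
      rw [h.map_mul _ qZ_good _ qL_good]; exact mul_mem hZ hL
    have hq := good_mul _ qZ_good _ qL_good
    have := eq_one_of_odd_of_pow (n := 3) (hodd.of_dvd_nat (Subgroup.orderOf_dvd_natCard N hZL))
      (pow_eight h hq (by rw [zl_order.1]; decide +kernel))
    exact zl_order.2.1 (psi_eq_one h hq this)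
  · exact eq_one_of_odd_of_pow (n := 3) ho (pow_eight h hx e)
  · have h2 := good_mul _ hx _ hx
    have h3 := good_mul _ h2 _ hx
    have hh : (ψ x ^ 3) ^ (2 ^ 1) = 1 := by
      have e2 := congrArg ψ e
      rw [h.map_mul _ h3 _ h3, h.map_mul _ h2 _ hx, h.map_mul _ hx _ hx, map_I h] at e2
      rw [← e2]; simp only [pow_succ, pow_zero, one_mul, mul_assoc]
    have e3 : ψ x ^ 3 = 1 :=
      eq_one_of_odd_of_pow (ho.of_dvd_nat (orderOf_pow_dvd 3)) hh
    rcases cube_cases x hx (psi_eq_one h h3 (by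
      rw [h.map_mul _ h2 _ hx, h.map_mul _ hx _ hx, ← e3, pow_succ, pow_two])) with e' | e'
    · rw [e', map_I h]
    · exfalso
      have h3' := isConj_rep h hx
      rw [e', rep_vals.2.2.2.1] at h3'
      obtain ⟨g, hg⟩ := isConj_iff.1 h3'
      have hZ : ψ qZ ∈ N := hg ▸ ‹N.Normal›.conj_mem _ hy g
      obtain ⟨c, hc', hce⟩ := conj_to_L
      have hL : ψ qL ∈ N := by
        have := ‹N.Normal›.conj_mem _ hZ (ψ c)
        rwa [← h.map_mul _ hc' _ qZ_good, hce, h.map_mul _ qL_good _ hc', mul_inv_cancel_right] at this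
      have hZL : ψ (qmul qZ qL) ∈ N := by
        rw [h.map_mul _ qZ_good _ qL_good]; exact mul_mem hZ hL
      have hq := good_mul _ qZ_good _ qL_good
      have := eq_one_of_odd_of_pow (n := 3) (hodd.of_dvd_nat (Subgroup.orderOf_dvd_natCard N hZL))
        (pow_eight h hq (by rw [zl_order.1]; decide +kernel))
      exact zl_order.2.1 (psi_eq_one h hq this)

theorem odd_normal_eq_bot (h : Loc ψ) (h1 : OneClass ψ) (N : Subgroup G) [N.Normal]
    (hodd : Odd (Nat.card N)) : N = ⊥ := by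
  have hinv : ∀ u : G, orderOf u = 2 → ∀ n ∈ N, u * n * u = n⁻¹ := by
    intro u hu
    have huu : u * u = 1 := by rw [← pow_two, ← hu, pow_orderOf_eq_one]
    have hui : u⁻¹ = u := inv_eq_of_mul_eq_one_right huu
    have hmem : ∀ n ∈ N, u * n * u ∈ N := fun n hn => by
      have := ‹N.Normal›.conj_mem n hn u
      rwa [hui] at this
    let φ : N →* N :=
      { toFun := fun x => ⟨u * x.1 * u, hmem _ x.2⟩
        map_one' := Subtype.ext (by simp [huu])
        map_mul' := fun a b => Subtype.ext (by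
          show u * (a.1 * b.1) * u = u * a.1 * u * (u * b.1 * u)
          calc u * (a.1 * b.1) * u = u * a.1 * 1 * b.1 * u := by group
            _ = u * a.1 * (u * u) * b.1 * u := by rw [huu]
            _ = _ := by group) }
    have hfpf : MonoidHom.FixedPointFree φ := by
      intro x hx
      have e : u * x.1 * u = x.1 := congrArg Subtype.val hx
      obtain ⟨g, hg⟩ := isConj_iff.1 (h1 u hu)
      have hgx : g⁻¹ * x.1 * g = 1 := by
        refine fixed_odd_normal h hodd ?_ ?_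
        · simpa using ‹N.Normal›.conj_mem _ x.2 g⁻¹
        · have hux : u * x.1 = x.1 * u := by
            conv_rhs => rw [← e, mul_assoc _ u u, huu, mul_one]
          calc g⁻¹ * x.1 * g * ψ qT = g⁻¹ * (x.1 * u) * g := by rw [← hg]; group
            _ = g⁻¹ * (u * x.1) * g := by rw [hux]
            _ = ψ qT * (g⁻¹ * x.1 * g) := by rw [← hg]; group
      refine Subtype.ext ?_
      calc x.1 = g * (g⁻¹ * x.1 * g) * g⁻¹ := by group
        _ = 1 := by rw [hgx]; group
    have hinvol : Function.Involutive φ := fun x => Subtype.ext (by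
      show u * (u * x.1 * u) * u = x.1
      calc u * (u * x.1 * u) * u = (u * u) * x.1 * (u * u) := by group
        _ = _ := by rw [huu]; group)
    exact fun n hn =>
      congrArg Subtype.val (congrFun (hfpf.coe_eq_inv_of_involutive hinvol) ⟨n, hn⟩)
  rw [eq_bot_iff]
  intro n hn
  have hTS : orderOf (ψ qT * ψ qS) = 2 := by
    refine orderOf_eq_prime ?_ ?_
    · rw [pow_two, ← h.map_mul _ qT_good _ qS_good,
        ← h.map_mul _ (good_mul _ qT_good _ qS_good) _ (good_mul _ qT_good _ qS_good),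
        show qmul (qmul qT qS) (qmul qT qS) = qI by decide +kernel, map_I h]
    · rw [← h.map_mul _ qT_good _ qS_good]
      intro e
      exact absurd (psi_eq_one h (good_mul _ qT_good _ qS_good) e) (by decide)
  have e1 := hinv _ (orderOf_T h) n hn
  have e2 := hinv _ (orderOf_S h) n hn
  have e3 := hinv _ hTS n hn
  have hTi : (ψ qT)⁻¹ = ψ qT := inv_eq_of_mul_eq_one_right (T_sq h)
  have e4 : ψ qT * ψ qS * n * (ψ qT * ψ qS) = n := by
    calc ψ qT * ψ qS * n * (ψ qT * ψ qS) = ψ qT * ψ qS * n * (ψ qS * ψ qT) := by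
          rw [show ψ qT * ψ qS = ψ qS * ψ qT from (commute_T h qS_good).symm]
      _ = ψ qT * (ψ qS * n * ψ qS) * ψ qT := by group
      _ = (ψ qT * n * ψ qT)⁻¹ := by
          rw [e2, mul_inv_rev, mul_inv_rev, hTi, mul_assoc]
      _ = n := by rw [e1, inv_inv]
  rw [e4] at e3
  rw [mem_bot]
  refine eq_one_of_odd_of_pow (n := 1) (hodd.of_dvd_nat (Subgroup.orderOf_dvd_natCard N hn)) ?_
  rw [pow_one, pow_two]; nth_rewrite 1 [e3]; exact inv_mul_cancel n

theorem isSimpleGroup_of_oneClass (h : Loc ψ) (h1 : OneClass ψ) : IsSimpleGroup G := by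
  classical
  haveI : Fact (Nat.Prime 2) := ⟨Nat.prime_two⟩
  haveI : Nontrivial G := ⟨⟨ψ qT, 1, T_ne h⟩⟩
  refine ⟨fun N hN => ?_⟩
  haveI := hN
  rcases Nat.even_or_odd (Nat.card N) with he | ho
  swap
  · exact Or.inl (odd_normal_eq_bot h h1 N ho)
  right
  obtain ⟨u, hu⟩ := exists_prime_orderOf_dvd_card' (G := N) 2 (even_iff_two_dvd.1 he)
  rw [← Subgroup.orderOf_coe] at hu
  have hall : ∀ w : G, orderOf w = 2 → w ∈ N := by
    intro w hw
    obtain ⟨g, hg⟩ := isConj_iff.1 ((h1 _ hu).symm.trans (h1 w hw))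
    exact hg ▸ hN.conj_mem _ u.2 g
  have hgood : ∀ q ∈ good, ψ q ∈ N := by
    intro q hq
    obtain ⟨x, hx, y, hy, z, hz, w, hw, rfl⟩ := refl_generate q hq
    have hgen : ∀ q ∈ good.filter (fun x => cls x = 2 ∨ x = qI), q ∈ good ∧ ψ q ∈ N := by
      intro q hq
      obtain ⟨hq1, hq2⟩ := Finset.mem_filter.1 hq
      refine ⟨hq1, ?_⟩
      rcases hq2 with e | e
      · have h2 := isConj_rep h hq1
        rw [e, rep_vals.2.2.1] at h2
        obtain ⟨g, hg⟩ := isConj_iff.1 h2.symm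
        exact hg ▸ hN.conj_mem _ (hall _ (orderOf_S h)) g
      · rw [e, map_I h]; exact one_mem N
    obtain ⟨gx, nx⟩ := hgen x hx
    obtain ⟨gy, ny⟩ := hgen y hy
    obtain ⟨gz, nz⟩ := hgen z hz
    obtain ⟨gw, nw⟩ := hgen w hw
    rw [h.map_mul _ (good_mul _ gx _ gy) _ (good_mul _ gz _ gw), h.map_mul _ gx _ gy,
      h.map_mul _ gz _ gw]
    exact mul_mem (mul_mem nx ny) (mul_mem nz nw)
  obtain ⟨P, hP⟩ := exists_sylow h
  have hPN : (P : Subgroup G) ≤ N := by
    rw [hP]; rintro _ ⟨x, hx, rfl⟩; exact hgood x (sd_good x hx)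
  rw [eq_top_iff, ← Sylow.normalizer_sup_eq_top' P hPN]
  refine sup_le (fun g hg => ?_) le_rfl
  have hnm : ∀ a : G, a ∈ sdSub h → g * a * g⁻¹ ∈ sdSub h ∧ g⁻¹ * a * g ∈ sdSub h := by
    intro a ha
    rw [← hP] at ha ⊢
    refine ⟨(mem_normalizer_iff.1 hg a).1 ha, ?_⟩
    simpa using (mem_normalizer_iff.1 (inv_mem hg) a).1 ha
  obtain ⟨x, hx, hxe⟩ := (hnm _ ⟨qT, qT_sd, rfl⟩).1
  have hc : ∀ y ∈ sd, qmul x y = qmul y x := by
    intro y hy
    refine h.inj _ (sd_good _ (sd_mul _ hx _ hy)) _ (sd_good _ (sd_mul _ hy _ hx)) ?_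
    obtain ⟨z, hz, hze⟩ := (hnm (ψ y) ⟨y, hy, rfl⟩).2
    have hy' : ψ y = g * ψ z * g⁻¹ := by rw [hze]; group
    rw [h.map_mul _ (sd_good _ hx) _ (sd_good _ hy), h.map_mul _ (sd_good _ hy) _ (sd_good _ hx),
      hxe, hy']
    calc g * ψ qT * g⁻¹ * (g * ψ z * g⁻¹) = g * (ψ qT * ψ z) * g⁻¹ := by group
      _ = g * (ψ z * ψ qT) * g⁻¹ := by rw [commute_T h (sd_good _ hz)]
      _ = _ := by group
  rcases sd_central x hx (hc _ qA_sd) (hc _ qS_sd) with e | e <;> rw [e] at hxe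
  · rw [map_I h] at hxe
    exact absurd (conj_eq_one_iff.1 hxe.symm) (T_ne h)
  · obtain ⟨q, hq, rfl⟩ := (h.mem_iff g).1 (mul_inv_eq_iff_eq_mul.1 hxe.symm)
    exact hgood q hq

end CfsgLib.GLTwoThree
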