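import Mathlib
import Cfsg.Agent.Lib.SLSteinberg.Inject
import Cfsg.Agent.Lib.Classical.SLBasic

/-!
# Recognition of `SL(3,3)` from two root elements and a rotation
-/

set_option autoImplicit false
set_option synthInstance.maxSize 1024

namespace CfsgLib.GLTwoThree

open Matrix CfsgLib.SLSteinberg

universe u

variable {G : Type u} [Group G]

/-- The six root elements built from two of them and a rotation. -/
def rootFam (c a y : G) : Fin 3 → Fin 3 → G :=
  ![![1, a, y], ![c * y * c⁻¹, 1, c * a * c⁻¹],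
    ![c * (c * a * c⁻¹) * c⁻¹, c * (c * y * c⁻¹) * c⁻¹, 1]]

/-- The same family in `SL(3,3)`. -/
def slFam (i j : Fin 3) (t : ZMod 3) : Matrix.SpecialLinearGroup (Fin 3) (ZMod 3) :=
  if h : i ≠ j then SpecialLinearGroup.transvection h t else 1

theorem slFam_val {i j : Fin 3} (h : i ≠ j) (t : ZMod 3) :
    (slFam i j t : Matrix (Fin 3) (Fin 3) (ZMod 3)) = transvection i j t := by
  rw [slFam, dif_pos h]; rfl

theorem slFam_add : ∀ i j : Fin 3, i ≠ j → ∀ t u : ZMod 3,
    (slFam i j (t + u) : Matrix (Fin 3) (Fin 3) (ZMod 3)) = (slFam i j t).1 * (slFam i j u).1 := by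
  decide +kernel

theorem slFam_comm0 : ∀ i j k l : Fin 3, i ≠ j → k ≠ l → i ≠ l → j ≠ k → ∀ t u : ZMod 3,
    (slFam i j t).1 * (slFam k l u).1 = (slFam k l u).1 * (slFam i j t).1 := by
  decide +kernel

theorem slFam_comm1 : ∀ i j k : Fin 3, i ≠ j → j ≠ k → i ≠ k → ∀ t u : ZMod 3,
    (slFam i j t).1 * (slFam j k u).1
      = (slFam i k (t * u)).1 * (slFam j k u).1 * (slFam i j t).1 := by
  decide +kernel

theorem rootFam_cube {c a y : G} (ha : a ^ 3 = 1) (hy : y ^ 3 = 1) (i j : Fin 3) :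
    rootFam c a y i j ^ 3 = 1 := by
  fin_cases i <;> fin_cases j <;> simp [rootFam, conj_pow, ha, hy]

/-- The defining relations for the family. -/
structure RootRel (c a y : G) : Prop where
  c3 : c ^ 3 = 1
  a3 : a ^ 3 = 1
  y3 : y ^ 3 = 1
  comm_ab : a * (c * a * c⁻¹) * a⁻¹ = y * (c * a * c⁻¹)
  comm_ay : Commute a y
  comm_az : Commute a (c * (c * y * c⁻¹) * c⁻¹)
  comm_yz : y * (c * (c * y * c⁻¹) * c⁻¹) * y⁻¹ = a * (c * (c * y * c⁻¹) * c⁻¹)

namespace RootRel

variable {c a y : G} (R : RootRel c a y)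
include R

theorem rot (i j : Fin 3) (h : i ≠ j) :
    c * rootFam c a y i j * c⁻¹ = rootFam c a y (i + 1) (j + 1) := by
  have e : ∀ x : G, c * (c * (c * x * c⁻¹) * c⁻¹) * c⁻¹ = x := fun x => by
    have h3 := R.c3
    calc c * (c * (c * x * c⁻¹) * c⁻¹) * c⁻¹ = (c * c * c) * x * (c * c * c)⁻¹ := by group
      _ = x := by rw [← pow_two, ← pow_succ, h3]; group
  fin_cases i <;> fin_cases j <;> first | exact absurd rfl h | simp [rootFam, e]

theorem commute_rot {i j k l : Fin 3} (hij : i ≠ j) (hkl : k ≠ l)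
    (h : Commute (rootFam c a y i j) (rootFam c a y k l)) :
    Commute (rootFam c a y (i + 1) (j + 1)) (rootFam c a y (k + 1) (l + 1)) := by
  rw [← R.rot i j hij, ← R.rot k l hkl]
  exact h.conj c

theorem conj_rot {i j k l m n : Fin 3} (hij : i ≠ j) (hkl : k ≠ l) (hmn : m ≠ n)
    (h : rootFam c a y i j * rootFam c a y k l * (rootFam c a y i j)⁻¹
      = rootFam c a y m n * rootFam c a y k l) :
    rootFam c a y (i + 1) (j + 1) * rootFam c a y (k + 1) (l + 1)
      * (rootFam c a y (i + 1) (j + 1))⁻¹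
      = rootFam c a y (m + 1) (n + 1) * rootFam c a y (k + 1) (l + 1) := by
  rw [← R.rot i j hij, ← R.rot k l hkl, ← R.rot m n hmn]
  calc _ = c * (rootFam c a y i j * rootFam c a y k l * (rootFam c a y i j)⁻¹) * c⁻¹ := by group
    _ = _ := by rw [h]; group

theorem comm0 (i j k l : Fin 3) (hij : i ≠ j) (hkl : k ≠ l) (hil : i ≠ l) (hjk : j ≠ k) :
    Commute (rootFam c a y i j) (rootFam c a y k l) := by
  have p1 : Commute (rootFam c a y 0 1) (rootFam c a y 0 2) := R.comm_ay
  have p2 := R.commute_rot (by decide) (by decide) p1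
  have p3 := R.commute_rot (by decide) (by decide) p2
  have q1 : Commute (rootFam c a y 0 1) (rootFam c a y 2 1) := R.comm_az
  have q2 := R.commute_rot (by decide) (by decide) q1
  have q3 := R.commute_rot (by decide) (by decide) q2
  fin_cases i <;> fin_cases j <;> first
    | exact absurd rfl hij
    | (fin_cases k <;> fin_cases l <;> first
      | exact absurd rfl hkl | exact absurd rfl hil | exact absurd rfl hjk
      | exact Commute.refl _ | exact p1 | exact p1.symm | exact p2 | exact p2.symm | exact p3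
      | exact p3.symm | exact q1 | exact q1.symm | exact q2 | exact q2.symm | exact q3
      | exact q3.symm)

theorem comm1 (i j k : Fin 3) (hij : i ≠ j) (hjk : j ≠ k) (hik : i ≠ k) :
    rootFam c a y i j * rootFam c a y j k * (rootFam c a y i j)⁻¹
      = rootFam c a y i k * rootFam c a y j k := by
  have p1 : rootFam c a y 0 1 * rootFam c a y 1 2 * (rootFam c a y 0 1)⁻¹
      = rootFam c a y 0 2 * rootFam c a y 1 2 := R.comm_ab
  have p2 := R.conj_rot (by decide) (by decide) (by decide) p1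
  have p3 := R.conj_rot (by decide) (by decide) (by decide) p2
  have q1 : rootFam c a y 0 2 * rootFam c a y 2 1 * (rootFam c a y 0 2)⁻¹
      = rootFam c a y 0 1 * rootFam c a y 2 1 := R.comm_yz
  have q2 := R.conj_rot (by decide) (by decide) (by decide) q1
  have q3 := R.conj_rot (by decide) (by decide) (by decide) q2
  fin_cases i <;> fin_cases j <;> first
    | exact absurd rfl hij
    | (fin_cases k <;> first
      | exact absurd rfl hjk | exact absurd rfl hik
      | exact p1 | exact p2 | exact p3 | exact q1 | exact q2 | exact q3)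

theorem stComm : StComm (fun i j (t : ZMod 3) => rootFam c a y i j ^ t.val) where
  add i j t u _ := by
    show rootFam c a y i j ^ (t + u).val = _
    rw [← pow_add, ZMod.val_add, ← pow_eq_pow_mod _ (rootFam_cube R.a3 R.y3 i j)]
  comm0 i j k l hij hkl hil hjk t u := (R.comm0 i j k l hij hkl hil hjk).pow_pow _ _
  comm1 i j k hij hjk hik t u := by
    set p := rootFam c a y i j
    set q := rootFam c a y j k
    set r := rootFam c a y i k
    have hpr : Commute p r := R.comm0 i j i k hij hik hik hij.symm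
    have hrq : Commute r q := R.comm0 i k j k hik hjk hik hjk.symm
    have h1 : p * q * p⁻¹ = r * q := R.comm1 i j k hij hjk hik
    have h2 : ∀ n : ℕ, p * q ^ n * p⁻¹ = r ^ n * q ^ n := fun n => by
      rw [← conj_pow, h1, hrq.mul_pow]
    have h3 : ∀ m n : ℕ, p ^ m * q ^ n * (p ^ m)⁻¹ = r ^ (m * n) * q ^ n := by
      intro m n
      induction m with
      | zero => simp
      | succ m ih =>
        calc p ^ (m + 1) * q ^ n * (p ^ (m + 1))⁻¹
            = p * (p ^ m * q ^ n * (p ^ m)⁻¹) * p⁻¹ := by rw [pow_succ']; group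
          _ = (p * r ^ (m * n) * p⁻¹) * (p * q ^ n * p⁻¹) := by rw [ih]; group
          _ = r ^ (m * n) * (r ^ n * q ^ n) := by
            rw [h2, (hpr.pow_right _).eq, mul_inv_cancel_right]
          _ = r ^ ((m + 1) * n) * q ^ n := by rw [← mul_assoc, ← pow_add, add_mul, one_mul]
    show p ^ t.val * q ^ u.val * (p ^ t.val)⁻¹ = r ^ (t * u).val * q ^ u.val
    rw [h3, ZMod.val_mul, ← pow_eq_pow_mod _ (rootFam_cube R.a3 R.y3 i k)]

/-- The homomorphism out of `SL(3,3)`. -/
theorem exists_hom : ∃ f : Matrix.SpecialLinearGroup (Fin 3) (ZMod 3) →* G, a ∈ f.range := by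
  haveI : Fact (Nat.Prime 3) := ⟨Nat.prime_three⟩
  let x : Fin 3 → Fin 3 → ZMod 3 → Matrix.SpecialLinearGroup (Fin 3) (ZMod 3) × G :=
    fun i j t => (slFam i j t, rootFam c a y i j ^ t.val)
  let M : Subgroup (Matrix.SpecialLinearGroup (Fin 3) (ZMod 3) × G) :=
    Subgroup.closure {g | ∃ i j, i ≠ j ∧ ∃ t, g = x i j t}
  let x' : Fin 3 → Fin 3 → ZMod 3 → M := fun i j t =>
    if h : i ≠ j then ⟨x i j t, Subgroup.subset_closure ⟨i, j, h, t, rfl⟩⟩ else 1
  have hx' : ∀ i j t, i ≠ j → ((x' i j t : M) : Matrix.SpecialLinearGroup (Fin 3) (ZMod 3) × G) = x i j t := fun i j t h => by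
    simp only [x', dif_pos h]
  have hs := R.stComm
  have S0 : StComm x' := by
    refine ⟨fun i j t u h => ?_, fun i j k l h1 h2 h3 h4 t u => ?_,
      fun i j k h1 h2 h3 t u => ?_⟩
    · refine Subtype.ext ?_
      rw [Subgroup.coe_mul, hx' _ _ _ h, hx' _ _ _ h, hx' _ _ _ h]
      exact Prod.ext (Subtype.ext (slFam_add i j h t u)) (hs.add i j t u h)
    · refine Subtype.ext ?_
      rw [Subgroup.coe_mul, Subgroup.coe_mul, hx' _ _ _ h1, hx' _ _ _ h2]
      exact Prod.ext (Subtype.ext (slFam_comm0 i j k l h1 h2 h3 h4 t u))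
        (hs.comm0 i j k l h1 h2 h3 h4 t u)
    · refine Subtype.ext ?_
      rw [Subgroup.coe_mul, Subgroup.coe_mul, Subgroup.coe_mul, Subgroup.coe_inv, hx' _ _ _ h1,
        hx' _ _ _ h2, hx' _ _ _ h3]
      refine Prod.ext ?_ (hs.comm1 i j k h1 h2 h3 t u)
      show slFam i j t * slFam j k u * (slFam i j t)⁻¹ = slFam i k (t * u) * slFam j k u
      rw [mul_inv_eq_iff_eq_mul]
      exact Subtype.ext (slFam_comm1 i j k h1 h2 h3 t u)
  have S : StRel x' := S0.toRel (by decide)
  let φ : M →* Matrix.SpecialLinearGroup (Fin 3) (ZMod 3) := (MonoidHom.fst _ G).comp M.subtype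
  have hφ : ∀ i j t, i ≠ j → ((φ (x' i j t) : Matrix.SpecialLinearGroup (Fin 3) (ZMod 3)) :
      Matrix (Fin 3) (Fin 3) (ZMod 3)) = transvection i j t := fun i j t h => by
    show (((x' i j t : M) : Matrix.SpecialLinearGroup (Fin 3) (ZMod 3) × G).1 : Matrix (Fin 3) (Fin 3) (ZMod 3)) = _
    rw [hx' _ _ _ h]
    exact slFam_val h t
  have hgen : Subgroup.closure {g : M | ∃ i j, i ≠ j ∧ ∃ t, g = x' i j t} = ⊤ := by
    refine eq_top_iff.2 (le_trans (Subgroup.closure_closure_coe_preimage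
      (k := {g : Matrix.SpecialLinearGroup (Fin 3) (ZMod 3) × G | ∃ i j, i ≠ j ∧ ∃ t, g = x i j t})).ge ?_)
    refine Subgroup.closure_mono ?_
    rintro ⟨g, hg⟩ ⟨i, j, h, t, e⟩
    exact ⟨i, j, h, t, Subtype.ext (by rw [hx' _ _ _ h]; exact e)⟩
  have hbij : Function.Bijective φ := by
    refine ⟨CfsgLib.SLSteinberg.exists_hom x' S φ hφ hgen, ?_⟩
    rw [← MonoidHom.range_eq_top]
    exact CfsgLib.Classical.SL_le_of_transvections _ fun i j hij t =>
      ⟨x' i j t, Subtype.ext (hφ i j t hij)⟩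
  let e := MulEquiv.ofBijective φ hbij
  refine ⟨((MonoidHom.snd _ G).comp M.subtype).comp e.symm.toMonoidHom, e (x' 0 1 1), ?_⟩
  show ((e.symm (e (x' 0 1 1)) : M) : Matrix.SpecialLinearGroup (Fin 3) (ZMod 3) × G).2 = a
  rw [e.symm_apply_apply, hx' _ _ _ (by decide)]
  show rootFam c a y 0 1 ^ (1 : ZMod 3).val = a
  simp [rootFam, show (1 : ZMod 3).val = 1 from rfl]

end RootRel

theorem card_SL_three :
    Nat.card (Matrix.SpecialLinearGroup (Fin 3) (ZMod 3)) = 5616 := by
  haveI : Fact (Nat.Prime 3) := ⟨Nat.prime_three⟩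
  have h := CfsgLib.Classical.card_SL_mul (ZMod.card 3) 3 (by norm_num)
  simp [Fin.prod_univ_three] at h
  norm_num at h ⊢
  omega

theorem exists_pslEquiv :
    Nonempty (Matrix.SpecialLinearGroup (Fin 3) (ZMod 3)
      ≃* Matrix.ProjectiveSpecialLinearGroup (Fin 3) (ZMod 3)) := by
  haveI : Fact (Nat.Prime 3) := ⟨Nat.prime_three⟩
  have hz : Subgroup.center (Matrix.SpecialLinearGroup (Fin 3) (ZMod 3)) = ⊥ := by
    rw [← Subgroup.card_eq_one, CfsgLib.Classical.card_center_SL,
      CfsgLib.Classical.card_units_eq (ZMod.card 3)]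
    rfl
  exact ⟨(QuotientGroup.quotientBot).symm.trans (QuotientGroup.quotientMulEquivOfEq hz.symm)⟩

theorem isSimpleGroup_SL_three :
    IsSimpleGroup (Matrix.SpecialLinearGroup (Fin 3) (ZMod 3)) := by
  haveI : Fact (Nat.Prime 3) := ⟨Nat.prime_three⟩
  haveI := CfsgLib.Classical.isSimpleGroup_PSL (F := ZMod 3) (ι := Fin 3) (by simp)
  obtain ⟨e⟩ := exists_pslEquiv
  haveI : Nontrivial (Matrix.SpecialLinearGroup (Fin 3) (ZMod 3)) := e.toEquiv.nontrivial
  exact IsSimpleGroup.isSimpleGroup_of_surjective e.symm.toMonoidHom e.symm.surjective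

/-- A group of order `5616` with such a family is `SL(3,3)`. -/
theorem RootRel.nonempty_equiv [Finite G] (hn : Nat.card G = 5616) {c a y : G} (R : RootRel c a y)
    (ha : a ≠ 1) : Nonempty (Matrix.SpecialLinearGroup (Fin 3) (ZMod 3) ≃* G) := by
  haveI : Fact (Nat.Prime 3) := ⟨Nat.prime_three⟩
  haveI := isSimpleGroup_SL_three
  obtain ⟨f, hf⟩ := R.exists_hom
  have hinj : Function.Injective f := by
    rcases f.normal_ker.eq_bot_or_eq_top with e | e
    · exact (MonoidHom.ker_eq_bot_iff f).1 e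
    · obtain ⟨m, hm⟩ := hf
      exact absurd (hm ▸ MonoidHom.mem_ker.1 (e ▸ Subgroup.mem_top m)) ha
  exact ⟨MulEquiv.ofBijective f ((Nat.bijective_iff_injective_and_card f).2
    ⟨hinj, by rw [card_SL_three, hn]⟩)⟩

end CfsgLib.GLTwoThree
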