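import Mathlib
import Cfsg.Agent.Lib.GLTwoThree.Fusion
import Cfsg.Agent.Lib.InvolChar.Basic
import Cfsg.Agent.Lib.Char.ClassAlgebra
import Cfsg.Agent.Lib.Char.Integral

/-!
# The equation between degree and order
-/

set_option autoImplicit false

namespace CfsgLib.GLTwoThree

open Subgroup CfsgLib.Char CfsgLib.InvolChar
open scoped ComplexConjugate

universe u

variable {G : Type u} [Group G] [Fintype G] {ψ : Q → G}

/-- Four times the multiplicity of the generalized character. -/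
def num (ψ : Q → G) (χ : Cfsg.IrrCharacter G) : ℂ :=
  2 * (χ : G → ℂ) (ψ qF) + (χ : G → ℂ) (ψ qA) + (χ : G → ℂ) (ψ qA')

theorem exists_coef (h : Loc ψ) (χ : Cfsg.IrrCharacter G) : ∃ c : ℤ, num ψ χ = 4 * (c : ℂ) := by
  obtain ⟨a, ha⟩ := exists_fixed h good (fun _ hx => hx) qI_good good_mul (fun x hx => (good_inv x hx).1)
    _ count_good χ
  obtain ⟨b, hb⟩ := exists_fixed h sd sd_good qI_sd sd_mul sd_inv _ count_sd χ
  obtain ⟨c, hc⟩ := exists_fixed h bor bor_good qI_bor bor_mul bor_inv _ count_bor χ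
  rw [card_good] at ha
  rw [card_sd] at hb
  rw [card_bor] at hc
  obtain ⟨r0, r1, r2, r3, r4, r5, r6, r7⟩ := rep_vals
  simp [Fin.sum_univ_eight, r0, r1, r2, r3, r4, r5, r6, r7] at ha hb hc
  refine ⟨(a : ℤ) + b - c, ?_⟩
  rw [num]
  push_cast
  linear_combination (-(1 : ℂ) / 12) * ha - (1 / 4) * hb + (1 / 3) * hc

noncomputable def coef (h : Loc ψ) (χ : Cfsg.IrrCharacter G) : ℤ := (exists_coef h χ).choose

theorem coef_spec (h : Loc ψ) (χ : Cfsg.IrrCharacter G) : num ψ χ = 4 * (coef h χ : ℂ) :=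
  (exists_coef h χ).choose_spec

theorem coef_irrOne (h : Loc ψ) : coef h (irrOne : Cfsg.IrrCharacter G) = 1 := by
  have e := coef_spec h (irrOne : Cfsg.IrrCharacter G)
  simp only [num, irrOne_apply] at e
  have : (4 : ℂ) * (coef h (irrOne : Cfsg.IrrCharacter G) : ℂ) = 4 * ((1 : ℤ) : ℂ) := by
    rw [← e]; norm_num
  exact_mod_cast mul_left_cancel₀ (by norm_num : (4 : ℂ) ≠ 0) this

theorem conj_value (χ : Cfsg.IrrCharacter G) (g : G) : conj ((χ : G → ℂ) g) = (χ : G → ℂ) g⁻¹ :=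
  (char_inv (isCharacter_of_isIrr χ.2) g).symm

theorem value_eq (χ : Cfsg.IrrCharacter G) {a b : G} (hab : IsConj a b) :
    (χ : G → ℂ) a = (χ : G → ℂ) b :=
  isClassFunction_iff.1 (isClassFunction_of_isIrr χ.2) a b hab

theorem sum_mul_zero {a b : G} (hne : ¬ IsConj a b⁻¹) :
    ∑ χ : Cfsg.IrrCharacter G, (χ : G → ℂ) a * (χ : G → ℂ) b = 0 := by
  classical
  have e := second_orthogonality a b⁻¹
  simp only [conj_value, inv_inv] at e
  rw [e, if_neg hne]

theorem sum_mul_conj {a b : G} (hab : IsConj a b⁻¹) :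
    ∑ χ : Cfsg.IrrCharacter G, (χ : G → ℂ) a * (χ : G → ℂ) b =
      (Nat.card (centralizer ({a} : Set G)) : ℂ) := by
  classical
  have e := second_orthogonality a b⁻¹
  simp only [conj_value, inv_inv] at e
  rw [e, if_pos hab]

theorem orderOf_conj_eq' {a b : G} (hab : IsConj a b) : orderOf a = orderOf b := by
  obtain ⟨c, rfl⟩ := isConj_iff.1 hab
  exact ((MulAut.conj c).orderOf_eq a).symm

theorem F_order (h : Loc ψ) : orderOf (ψ qF) = 4 := by
  haveI : Fact (Nat.Prime 2) := ⟨Nat.prime_two⟩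
  refine orderOf_eq_prime_pow (p := 2) (n := 1) ?_ ?_
  · rw [pow_one, pow_two, F_sq h]; exact T_ne h
  · rw [show (2 : ℕ) ^ (1 + 1) = 2 + 2 from rfl, pow_add, pow_two, F_sq h, T_sq h]

theorem A_order (h : Loc ψ) : orderOf (ψ qA) = 8 := by
  haveI : Fact (Nat.Prime 2) := ⟨Nat.prime_two⟩
  refine orderOf_eq_prime_pow (p := 2) (n := 2) ?_ ?_
  · rw [show (2 : ℕ) ^ 2 = 2 + 2 from rfl, pow_add, pow_two, A_sq h, F_sq h]; exact T_ne h
  · rw [show (2 : ℕ) ^ (2 + 1) = 4 + 4 from rfl, pow_add, show (4 : ℕ) = 2 + 2 from rfl, pow_add, pow_two,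
      A_sq h, F_sq h, T_sq h]

theorem A'_order (h : Loc ψ) : orderOf (ψ qA') = 8 := by rw [← A_inv h, orderOf_inv, A_order h]

theorem sum_coef_sq (h : Loc ψ) : ∑ χ : Cfsg.IrrCharacter G, coef h χ ^ 2 = 3 := by
  classical
  have nFA : ¬ IsConj (ψ qF) (ψ qA)⁻¹ := fun hc => by
    have := orderOf_conj_eq' hc
    rw [F_order h, orderOf_inv, A_order h] at this; omega
  have nFA' : ¬ IsConj (ψ qF) (ψ qA')⁻¹ := fun hc => by
    have := orderOf_conj_eq' hc
    rw [F_order h, orderOf_inv, A'_order h] at this; omega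
  have e1 := sum_mul_conj (F_real h)
  have e2 := sum_mul_zero nFA
  have e3 := sum_mul_zero nFA'
  have e4 := sum_mul_zero (A_not_real h)
  have e5 : ∑ χ : Cfsg.IrrCharacter G, (χ : G → ℂ) (ψ qA') * (χ : G → ℂ) (ψ qA') = 0 :=
    sum_mul_zero fun hc => A_not_real h (by
      rw [← A_inv h, inv_inv] at hc
      exact hc.symm)
  have e6 : ∑ χ : Cfsg.IrrCharacter G, (χ : G → ℂ) (ψ qA) * (χ : G → ℂ) (ψ qA') = (8 : ℕ) := by
    rw [sum_mul_conj (by rw [← A_inv h, inv_inv])]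
    rw [card_centralizer_A h]
  rw [card_centralizer_F h] at e1
  have key : (16 : ℂ) * ((∑ χ : Cfsg.IrrCharacter G, coef h χ ^ 2 : ℤ) : ℂ) = 16 * 3 := by
    push_cast
    rw [Finset.mul_sum, Finset.sum_congr rfl fun χ _ => show (16 : ℂ) * (coef h χ : ℂ) ^ 2 =
        4 * ((χ : G → ℂ) (ψ qF) * (χ : G → ℂ) (ψ qF)) + 4 * ((χ : G → ℂ) (ψ qF) * (χ : G → ℂ) (ψ qA)) +
        4 * ((χ : G → ℂ) (ψ qF) * (χ : G → ℂ) (ψ qA')) + (χ : G → ℂ) (ψ qA) * (χ : G → ℂ) (ψ qA) +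
        2 * ((χ : G → ℂ) (ψ qA) * (χ : G → ℂ) (ψ qA')) + (χ : G → ℂ) (ψ qA') * (χ : G → ℂ) (ψ qA') from by
      have e := coef_spec h χ
      rw [num] at e
      linear_combination (-(4 * (coef h χ : ℂ) + (2 * (χ : G → ℂ) (ψ qF) + (χ : G → ℂ) (ψ qA) +
        (χ : G → ℂ) (ψ qA')))) * e]
    simp only [Finset.sum_add_distrib, ← Finset.mul_sum, e1, e2, e3, e4, e5, e6]
    norm_num
  exact_mod_cast mul_left_cancel₀ (by norm_num : (16 : ℂ) ≠ 0) key

theorem sum_coef_value (h : Loc ψ) {g : G} (hg : g * g = 1) :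
    ∑ χ : Cfsg.IrrCharacter G, (coef h χ : ℂ) * (χ : G → ℂ) g = 0 := by
  classical
  have hle : orderOf g ≤ 2 := orderOf_le_of_pow_eq_one (by norm_num) (by rw [pow_two]; exact hg)
  have hne : ∀ x : G, 2 < orderOf x → ¬ IsConj x g⁻¹ := fun x hx hc => by
    have := orderOf_conj_eq' hc
    rw [orderOf_inv] at this; omega
  have e1 := sum_mul_zero (hne (ψ qF) (by rw [F_order h]; omega))
  have e2 := sum_mul_zero (hne (ψ qA) (by rw [A_order h]; omega))
  have e3 := sum_mul_zero (hne (ψ qA') (by rw [A'_order h]; omega))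
  have key : (4 : ℂ) * ∑ χ : Cfsg.IrrCharacter G, (coef h χ : ℂ) * (χ : G → ℂ) g = 4 * 0 := by
    rw [Finset.mul_sum, Finset.sum_congr rfl fun χ _ => show (4 : ℂ) * ((coef h χ : ℂ) * (χ : G → ℂ) g) =
        2 * ((χ : G → ℂ) (ψ qF) * (χ : G → ℂ) g) + (χ : G → ℂ) (ψ qA) * (χ : G → ℂ) g +
        (χ : G → ℂ) (ψ qA') * (χ : G → ℂ) g from by
      have e := coef_spec h χ
      rw [num] at e
      linear_combination (-(χ : G → ℂ) g) * e]
    simp only [Finset.sum_add_distrib, ← Finset.mul_sum, e1, e2, e3]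
    norm_num
  exact mul_left_cancel₀ (by norm_num : (4 : ℂ) ≠ 0) key

/-- Pairs of involutions with product a root of `ψ qT`. -/
theorem pairs_card (h : Loc ψ) (h1 : OneClass ψ) {x : Q} (hx : x ∈ good)
    (hp : ψ qT ∈ zpowers (ψ x)) :
    Nat.card {p : G × G // IsConj (ψ qT) p.1 ∧ IsConj (ψ qT) p.2 ∧ p.1 * p.2 = ψ x} =
      (good.filter fun y => qmul y y = qI ∧ y ≠ qI ∧
        qmul (qmul y x) (qmul y x) = qI ∧ qmul y x ≠ qI).card := by
  classical
  have hinv : ∀ u : G, IsConj (ψ qT) u → u * u = 1 ∧ u ≠ 1 := fun u hu => by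
    have ho := orderOf_conj_eq' hu
    rw [orderOf_T h] at ho
    refine ⟨by rw [← pow_two, ho, pow_orderOf_eq_one], fun e => ?_⟩
    rw [e, orderOf_one] at ho; omega
  have hord : ∀ y ∈ good, qmul y y = qI → y ≠ qI → orderOf (ψ y) = 2 := fun y hy e hne =>
    orderOf_eq_prime (by rw [pow_two, ← h.map_mul _ hy _ hy, e, map_I h]) fun e' => hne (psi_eq_one h hy e')
  rw [← Nat.card_eq_finsetCard]
  symm
  refine Nat.card_eq_of_bijective (fun y => ⟨(ψ y.1, ψ (qmul y.1 x)), ?_⟩) ⟨?_, ?_⟩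
  · obtain ⟨hy, e1, e2, e3, e4⟩ := Finset.mem_filter.1 y.2
    refine ⟨h1 _ (hord _ hy e1 e2), h1 _ (hord _ (good_mul _ hy _ hx) e3 e4), ?_⟩
    rw [h.map_mul _ hy _ hx, ← mul_assoc, ← h.map_mul _ hy _ hy, e1, map_I h, one_mul]
  · intro a b e
    exact Subtype.ext (h.inj _ (Finset.mem_filter.1 a.2).1 _ (Finset.mem_filter.1 b.2).1
      (congrArg Prod.fst (congrArg Subtype.val e)))
  · rintro ⟨⟨u, v⟩, hu, hv, huv⟩
    obtain ⟨hu2, hu0⟩ := hinv u hu
    obtain ⟨hv2, hv0⟩ := hinv v hv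
    simp only at huv
    have e : u * ψ x * u⁻¹ = (ψ x)⁻¹ := by
      rw [← huv, mul_inv_rev, inv_eq_of_mul_eq_one_right hu2, inv_eq_of_mul_eq_one_right hv2, ← mul_assoc,
        hu2, one_mul]
    obtain ⟨k, hk⟩ := mem_zpowers_iff.1 hp
    have hut : u * ψ qT * u⁻¹ = ψ qT := by
      rw [← hk, ← conj_zpow, e, inv_zpow, hk]
      exact inv_eq_of_mul_eq_one_right (T_sq h)
    obtain ⟨y, hy, rfl⟩ := (h.mem_iff u).1 (mul_inv_eq_iff_eq_mul.1 hut)
    have hv' : v = ψ (qmul y x) := by rw [h.map_mul _ hy _ hx, ← huv, ← mul_assoc, hu2, one_mul]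
    subst hv'
    have hyx := good_mul _ hy _ hx
    exact ⟨⟨y, Finset.mem_filter.2 ⟨hy, psi_eq_one h (good_mul _ hy _ hy) (by rw [h.map_mul _ hy _ hy, hu2]),
      fun e' => hu0 (by rw [e', map_I h]),
      psi_eq_one h (good_mul _ hyx _ hyx) (by rw [h.map_mul _ hyx _ hyx, hv2]),
      fun e' => hv0 (by rw [e', map_I h])⟩⟩, rfl⟩

theorem pairs_sum (h : Loc ψ) (h1 : OneClass ψ) {x : Q} (hx : x ∈ good) (hp : ψ qT ∈ zpowers (ψ x)) :
    (Nat.card G : ℂ) * ∑ χ : Cfsg.IrrCharacter G,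
        (intVal χ (T_sq h) : ℂ) ^ 2 * conj ((χ : G → ℂ) (ψ x)) / (deg χ : ℂ) =
      2304 * ((good.filter fun y => qmul y y = qI ∧ y ≠ qI ∧
        qmul (qmul y x) (qmul y x) = qI ∧ qmul y x ≠ qI).card : ℂ) := by
  have e := card_classProduct_eq (ψ qT) (ψ qT) (ψ x)
  rw [pairs_card h h1 hx hp] at e
  have hc : (Nat.card {g : G // IsConj (ψ qT) g} : ℂ) * 48 = (Nat.card G : ℂ) := by
    have := card_isConj_mul_card_centralizer (ψ qT)
    rw [card_centralizer_T h] at this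
    exact_mod_cast this
  have hG : (Nat.card G : ℂ) ≠ 0 := by exact_mod_cast Nat.card_pos.ne'
  rw [e]
  simp only [intVal_spec _ (T_sq h), deg_spec, ← pow_two]
  set S := ∑ χ : Cfsg.IrrCharacter G,
        (intVal χ (T_sq h) : ℂ) ^ 2 * conj ((χ : G → ℂ) (ψ x)) / (deg χ : ℂ)
  set K := (Nat.card {g : G // IsConj (ψ qT) g} : ℂ)
  field_simp
  linear_combination (-S) * (48 * K + (Nat.card G : ℂ)) * hc

/-- The order equation. -/
theorem sum_coef_quot (h : Loc ψ) (h1 : OneClass ψ) :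
    (Nat.card G : ℚ) * ∑ χ : Cfsg.IrrCharacter G,
      (coef h χ : ℚ) * (intVal χ (T_sq h) : ℚ) ^ 2 / (deg χ : ℚ) = 4608 := by
  classical
  have eF := pairs_sum h h1 qF_good (T_mem_F h)
  have eA := pairs_sum h h1 qA_good (T_mem_A h)
  have hA' : ψ qT ∈ zpowers (ψ qA') := by rw [← A_inv h, zpowers_inv]; exact T_mem_A h
  have eA' := pairs_sum h h1 qA'_good hA'
  have hN : (good.filter fun y => qmul y y = qI ∧ y ≠ qI ∧
      qmul (qmul y qA') (qmul y qA') = qI ∧ qmul y qA' ≠ qI).card = 0 := by decide +kernel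
  rw [pairs_F] at eF
  rw [pairs_A] at eA
  rw [hN] at eA'
  have hreal : ∀ χ : Cfsg.IrrCharacter G, conj ((χ : G → ℂ) (ψ qF)) = (χ : G → ℂ) (ψ qF) := fun χ => by
    rw [conj_value]; exact (value_eq χ (F_real h)).symm
  have hAc : ∀ χ : Cfsg.IrrCharacter G, conj ((χ : G → ℂ) (ψ qA)) = (χ : G → ℂ) (ψ qA') := fun χ => by
    rw [conj_value, A_inv h]
  have hA'c : ∀ χ : Cfsg.IrrCharacter G, conj ((χ : G → ℂ) (ψ qA')) = (χ : G → ℂ) (ψ qA) := fun χ => by
    rw [conj_value, ← A_inv h, inv_inv]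
  simp only [hreal] at eF
  simp only [hAc] at eA
  simp only [hA'c] at eA'
  have key : ((((Nat.card G : ℚ) * ∑ χ : Cfsg.IrrCharacter G,
      (coef h χ : ℚ) * (intVal χ (T_sq h) : ℚ) ^ 2 / (deg χ : ℚ) : ℚ)) : ℂ) * 4 = (4608 : ℂ) * 4 := by
    push_cast
    rw [mul_assoc, Finset.sum_mul, Finset.sum_congr rfl fun χ _ =>
      show (coef h χ : ℂ) * (intVal χ (T_sq h) : ℂ) ^ 2 / (deg χ : ℂ) * 4 =
        2 * ((intVal χ (T_sq h) : ℂ) ^ 2 * (χ : G → ℂ) (ψ qF) / (deg χ : ℂ)) +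
        (intVal χ (T_sq h) : ℂ) ^ 2 * (χ : G → ℂ) (ψ qA') / (deg χ : ℂ) +
        (intVal χ (T_sq h) : ℂ) ^ 2 * (χ : G → ℂ) (ψ qA) / (deg χ : ℂ) from by
      have e := coef_spec h χ
      rw [num] at e
      linear_combination (-(intVal χ (T_sq h) : ℂ) ^ 2 / (deg χ : ℂ)) * e]
    simp only [Finset.sum_add_distrib, ← Finset.mul_sum]
    push_cast at eF eA eA'
    linear_combination 2 * eF + eA + eA'
  have := mul_right_cancel₀ (by norm_num : (4 : ℂ) ≠ 0) key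
  exact_mod_cast this

theorem four_group (h : Loc ψ) (h1 : OneClass ψ) (χ : Cfsg.IrrCharacter G) :
    0 ≤ (deg χ : ℤ) + 3 * intVal χ (T_sq h) := by
  classical
  have hts : ψ qT * ψ qS = ψ qS * ψ qT := (commute_T h qS_good).symm
  let V : Subgroup G :=
    { carrier := {g | g = 1 ∨ g = ψ qT ∨ g = ψ qS ∨ g = ψ qT * ψ qS}
      one_mem' := Or.inl rfl
      mul_mem' := by
        have hTT := T_sq h
        have hSS := S_sq h
        have e1 : ψ qS * ψ qT = ψ qT * ψ qS := hts.symm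
        have e2 : ψ qT * (ψ qT * ψ qS) = ψ qS := by rw [← mul_assoc, hTT, one_mul]
        have e3 : ψ qT * ψ qS * ψ qS = ψ qT := by rw [mul_assoc, hSS, mul_one]
        have e4 : ψ qS * (ψ qT * ψ qS) = ψ qT := by rw [← mul_assoc, e1, e3]
        have e5 : ψ qT * ψ qS * ψ qT = ψ qS := by rw [mul_assoc, e1, e2]
        have e6 : ψ qT * ψ qS * (ψ qT * ψ qS) = 1 := by rw [← mul_assoc, e5, hSS]
        rintro a b (rfl | rfl | rfl | rfl) (rfl | rfl | rfl | rfl) <;>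
          simp only [Set.mem_setOf_eq, one_mul, mul_one, hTT, hSS, e1, e2, e3, e4, e5, e6, true_or,
            or_true]
      inv_mem' := by
        rintro a (rfl | rfl | rfl | rfl)
        · exact Or.inl inv_one
        · exact Or.inr (Or.inl (inv_eq_of_mul_eq_one_right (T_sq h)))
        · exact Or.inr (Or.inr (Or.inl (inv_eq_of_mul_eq_one_right (S_sq h))))
        · refine Or.inr (Or.inr (Or.inr (inv_eq_of_mul_eq_one_right ?_)))
          calc ψ qT * ψ qS * (ψ qT * ψ qS) = ψ qT * (ψ qS * ψ qT) * ψ qS := by group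
            _ = ψ qT * ψ qT * (ψ qS * ψ qS) := by rw [← hts]; group
            _ = 1 := by rw [T_sq h, S_sq h, one_mul] }
  have hTS1 : ψ qT * ψ qS ≠ 1 := fun e => by
    have := h.inj _ qT_good _ qS_good ((mul_eq_one_iff_eq_inv.1 e).trans (inv_eq_of_mul_eq_one_right (S_sq h)))
    exact absurd this (by decide)
  have hTS : ψ qT ≠ ψ qS := fun e => absurd (h.inj _ qT_good _ qS_good e) (by decide)
  have hV : Nat.card V = ({1, ψ qT, ψ qS, ψ qT * ψ qS} : Finset G).card := by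
    rw [← Nat.card_eq_finsetCard]
    exact Nat.card_congr (Equiv.subtypeEquivRight fun g => by simp [V])
  have h4 : ({1, ψ qT, ψ qS, ψ qT * ψ qS} : Finset G).card = 4 := by
    rw [Finset.card_insert_of_notMem (by simp [(T_ne h).symm, (S_ne h).symm, hTS1.symm]),
      Finset.card_insert_of_notMem (by simp [hTS, S_ne h]),
      Finset.card_pair (fun e => T_ne h (mul_eq_right.1 e.symm))]
  obtain ⟨m, hm⟩ := classInner_char_nat (isCharacter_res V (isCharacter_of_isIrr χ.2))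
    (isCharacter_one (G := V))
  rw [classInner_one_right, hV, h4] at hm
  have hsum : ∑ g : V, (χ : G → ℂ) g =
      ∑ g ∈ ({1, ψ qT, ψ qS, ψ qT * ψ qS} : Finset G), (χ : G → ℂ) g :=
    (Finset.sum_subtype _ (fun g => by simp [V]) _).symm
  rw [hsum, Finset.sum_insert (by simp [(T_ne h).symm, (S_ne h).symm, hTS1.symm]),
    Finset.sum_insert (by simp [hTS, S_ne h]),
    Finset.sum_pair (fun e => T_ne h (mul_eq_right.1 e.symm))] at hm
  have hv : ∀ u : G, orderOf u = 2 → (χ : G → ℂ) u = (intVal χ (T_sq h) : ℂ) := fun u hu => by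
    rw [← intVal_spec χ (T_sq h)]; exact (value_eq χ (h1 u hu)).symm
  have h2 : orderOf (ψ qT * ψ qS) = 2 := by
    refine orderOf_eq_prime ?_ hTS1
    calc (ψ qT * ψ qS) ^ 2 = ψ qT * (ψ qS * ψ qT) * ψ qS := by rw [pow_two]; group
      _ = ψ qT * ψ qT * (ψ qS * ψ qS) := by rw [← hts]; group
      _ = 1 := by rw [T_sq h, S_sq h, one_mul]
  rw [deg_spec χ, hv _ (orderOf_T h), hv _ (orderOf_S h), hv _ h2] at hm
  have e : (((deg χ : ℤ) + 3 * intVal χ (T_sq h) : ℤ) : ℂ) = ((4 * m : ℤ) : ℂ) := by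
    push_cast at hm ⊢
    linear_combination 4 * hm
  have e' : (deg χ : ℤ) + 3 * intVal χ (T_sq h) = 4 * m := by exact_mod_cast e
  omega

/-- Two characters besides the principal one. -/
theorem exists_two (h : Loc ψ) (h1 : OneClass ψ) :
    ∃ χ₁ χ₂ : Cfsg.IrrCharacter G, χ₁ ≠ irrOne ∧ χ₂ ≠ irrOne ∧ χ₁ ≠ χ₂ ∧
      ∃ e₁ e₂ : ℤ, (e₁ = 1 ∨ e₁ = -1) ∧ (e₂ = 1 ∨ e₂ = -1) ∧
        1 + e₁ * (deg χ₁ : ℤ) + e₂ * (deg χ₂ : ℤ) = 0 ∧
        1 + e₁ * intVal χ₁ (T_sq h) + e₂ * intVal χ₂ (T_sq h) = 0 ∧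
        (Nat.card G : ℚ) * (1 + (e₁ : ℚ) * (intVal χ₁ (T_sq h) : ℚ) ^ 2 / (deg χ₁ : ℚ) +
          (e₂ : ℚ) * (intVal χ₂ (T_sq h) : ℚ) ^ 2 / (deg χ₂ : ℚ)) = 4608 ∧
        1 + intVal χ₁ (T_sq h) ^ 2 + intVal χ₂ (T_sq h) ^ 2 ≤ 48 ∧
        1 + (deg χ₁ : ℤ) ^ 2 + (deg χ₂ : ℤ) ^ 2 ≤ (Nat.card G : ℤ) := by
  classical
  set S := Finset.univ.filter fun χ : Cfsg.IrrCharacter G => coef h χ ≠ 0 ∧ χ ≠ irrOne with hS
  have hone := coef_irrOne h
  have hsplit : ∑ χ ∈ S, coef h χ ^ 2 = 2 := by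
    have e := sum_coef_sq h
    rw [← Finset.add_sum_erase _ _ (Finset.mem_univ (irrOne : Cfsg.IrrCharacter G)), hone] at e
    have e' : ∑ χ ∈ S, coef h χ ^ 2 = ∑ χ ∈ Finset.univ.erase (irrOne : Cfsg.IrrCharacter G), coef h χ ^ 2 := by
      refine Finset.sum_subset (fun χ hχ => ?_) fun χ hχ hn => ?_
      · exact Finset.mem_erase.2 ⟨(Finset.mem_filter.1 hχ).2.2, Finset.mem_univ _⟩
      · have : coef h χ = 0 := by
          by_contra hc
          exact hn (Finset.mem_filter.2 ⟨Finset.mem_univ _, hc, (Finset.mem_erase.1 hχ).1⟩)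
        rw [this]; norm_num
    omega
  have hge : ∀ χ ∈ S, 1 ≤ coef h χ ^ 2 := fun χ hχ => by
    have := (Finset.mem_filter.1 hχ).2.1
    have := (sq_pos_iff (a := coef h χ)).2 this
    omega
  have hcard : S.card = 2 := by
    have hle : (S.card : ℤ) ≤ 2 := by
      rw [← hsplit]
      simpa using Finset.card_nsmul_le_sum S (fun χ => coef h χ ^ 2) 1 hge
    rcases (by omega : S.card = 0 ∨ S.card = 1 ∨ S.card = 2) with e | e | e
    · rw [Finset.card_eq_zero.1 e] at hsplit; simp at hsplit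
    · obtain ⟨χ, hχ⟩ := Finset.card_eq_one.1 e
      rw [hχ, Finset.sum_singleton] at hsplit
      have hlo : -1 ≤ coef h χ := by nlinarith
      have hhi : coef h χ ≤ 1 := by nlinarith
      interval_cases (coef h χ) <;> norm_num at hsplit
    · exact e
  obtain ⟨χ₁, χ₂, hne, hpair⟩ := Finset.card_eq_two.1 hcard
  have hm1 : χ₁ ∈ S := by rw [hpair]; simp
  have hm2 : χ₂ ∈ S := by rw [hpair]; simp
  rw [hpair, Finset.sum_pair hne] at hsplit
  have hp1 := hge χ₁ hm1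
  have hp2 := hge χ₂ hm2
  have hu : ∀ c : ℤ, c ^ 2 = 1 → c = 1 ∨ c = -1 := fun c hc => sq_eq_one_iff.1 hc
  have n1 := (Finset.mem_filter.1 hm1).2.2
  have n2 := (Finset.mem_filter.1 hm2).2.2
  have hsum : ∀ {M : Type} [AddCommMonoid M] (F : Cfsg.IrrCharacter G → M),
      (∀ χ, coef h χ = 0 → F χ = 0) → ∑ χ, F χ = F irrOne + (F χ₁ + F χ₂) := by
    intro M _ F hF
    rw [← Finset.add_sum_erase _ _ (Finset.mem_univ (irrOne : Cfsg.IrrCharacter G)), ← Finset.sum_pair hne,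
      ← hpair]
    congr 1
    symm
    refine Finset.sum_subset (fun χ hχ => Finset.mem_erase.2 ⟨(Finset.mem_filter.1 hχ).2.2, Finset.mem_univ _⟩)
      fun χ hχ hn => hF χ ?_
    by_contra hc
    exact hn (Finset.mem_filter.2 ⟨Finset.mem_univ _, hc, (Finset.mem_erase.1 hχ).1⟩)
  refine ⟨χ₁, χ₂, n1, n2, hne, coef h χ₁, coef h χ₂, hu _ (by omega), hu _ (by omega), ?_, ?_, ?_, ?_, ?_⟩
  · have e := sum_coef_value h (one_mul (1 : G))
    rw [hsum _ fun χ hc => by rw [hc]; simp, hone] at e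
    simp only [irrOne_apply, deg_spec, Int.cast_one, one_mul] at e
    have e' : ((1 + coef h χ₁ * (deg χ₁ : ℤ) + coef h χ₂ * (deg χ₂ : ℤ) : ℤ) : ℂ) = ((0 : ℤ) : ℂ) := by
      push_cast
      linear_combination e
    exact_mod_cast e'
  · have e := sum_coef_value h (T_sq h)
    rw [hsum _ fun χ hc => by rw [hc]; simp, hone] at e
    simp only [intVal_spec _ (T_sq h), intVal_irrOne, Int.cast_one, one_mul] at e
    have e' : ((1 + coef h χ₁ * intVal χ₁ (T_sq h) + coef h χ₂ * intVal χ₂ (T_sq h) : ℤ) : ℂ) =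
        ((0 : ℤ) : ℂ) := by
      push_cast
      linear_combination e
    exact_mod_cast e'
  · have e := sum_coef_quot h h1
    rw [hsum _ fun χ hc => by rw [hc]; simp, hone, intVal_irrOne, deg_irrOne] at e
    norm_num at e ⊢
    linear_combination e
  · have e := sum_intVal_sq (T_sq h)
    rw [card_centralizer_T h] at e
    have := Finset.sum_le_sum_of_subset_of_nonneg (Finset.subset_univ ({(irrOne : Cfsg.IrrCharacter G), χ₁, χ₂} : Finset _))
      (fun χ _ _ => sq_nonneg (intVal χ (T_sq h)))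
    rw [e, Finset.sum_insert (by simp [Ne.symm n1, Ne.symm n2]), Finset.sum_pair hne, intVal_irrOne] at this
    push_cast at this
    linarith
  · have e : ∑ χ : Cfsg.IrrCharacter G, (deg χ : ℤ) ^ 2 = (Nat.card G : ℤ) := by
      have h' := sum_degree_sq (G := G)
      simp only [deg_spec] at h'
      exact_mod_cast h'
    have := Finset.sum_le_sum_of_subset_of_nonneg (Finset.subset_univ ({(irrOne : Cfsg.IrrCharacter G), χ₁, χ₂} : Finset _))
      (fun χ _ _ => sq_nonneg (deg χ : ℤ))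
    rw [e, Finset.sum_insert (by simp [Ne.symm n1, Ne.symm n2]), Finset.sum_pair hne, deg_irrOne] at this
    push_cast at this
    linarith

end CfsgLib.GLTwoThree
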