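import Mathlib

/-!
# The possible orders
-/

set_option autoImplicit false

namespace CfsgLib.GLTwoThree

/-- The test for one pair of parameters. -/
def check (al m : ℤ) : Bool :=
  let a := 8 * m + al
  let b := -1 - a
  let num := 72 * (a * (a + 1))
  decide (m = 0) || (decide (num % (m * m) ≠ 0) || (
    let n := num / (m * m)
    decide (n ≤ 0) || (decide (n % 48 ≠ 0) || (decide (n % 32 = 0) || (decide (n % a ≠ 0) ||
      (decide (n % b ≠ 0) || (decide (n < 1 + a * a + b * b) || (decide (a.natAbs < 2) ||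
        (decide (b.natAbs < 2) || (decide (a * (a + 3 * al) < 0) || (decide (b * (b + 3 * (-1 - al)) < 0) ||
          ([3024, 3696, 5616, 6480, 7920] : List ℤ).contains n)))))))))))

theorem search : ((List.range 10).all fun i => (List.range 2881).all fun j =>
    check ((i : ℤ) - 5) ((j : ℤ) - 1440)) = true := by
  decide +kernel

theorem numeric {n : ℕ} {a al : ℤ} (h16 : 16 ∣ n) (h32 : ¬ 32 ∣ n) (h48 : 48 ∣ n)
    (heq : (n : ℤ) * (a - al) ^ 2 = 4608 * (a * (a + 1)))
    (hsq : 1 + al ^ 2 + (-1 - al) ^ 2 ≤ 48) (ha : a ∣ (n : ℤ)) (hb : -1 - a ∣ (n : ℤ))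
    (ha2 : 2 ≤ a.natAbs) (hb2 : 2 ≤ (-1 - a).natAbs) (hdeg : 1 + a ^ 2 + (-1 - a) ^ 2 ≤ (n : ℤ))
    (hfa : 0 ≤ a * (a + 3 * al)) (hfb : 0 ≤ (-1 - a) * (-1 - a + 3 * (-1 - al))) :
    n = 3024 ∨ n = 3696 ∨ n = 5616 ∨ n = 6480 ∨ n = 7920 := by
  obtain ⟨o, rfl⟩ := h16
  have hn0 : 0 < 16 * o := by
    rcases Nat.eq_zero_or_pos o with rfl | h
    · exact absurd (dvd_zero 32) h32
    · omega
  have ho : IsCoprime (64 : ℤ) (o : ℤ) := by
    have h2 : Nat.Coprime 2 o := (Nat.Prime.coprime_iff_not_dvd Nat.prime_two).2 fun ⟨k, hk⟩ =>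
      h32 ⟨k, by omega⟩
    have h6 := h2.pow_left 6
    have := Nat.isCoprime_iff_coprime.2 h6
    norm_num at this
    exact this
  have e1 : (o : ℤ) * (a - al) ^ 2 = 288 * (a * (a + 1)) := by
    push_cast at heq
    linarith
  have h64 : (64 : ℤ) ∣ (o : ℤ) * (a - al) ^ 2 := by
    obtain ⟨k, hk⟩ := Int.even_mul_succ_self a
    exact ⟨9 * k, by rw [e1, hk]; ring⟩
  have h8 : (8 : ℤ) ∣ a - al :=
    (Int.pow_dvd_pow_iff two_ne_zero).1 (by norm_num; exact ho.dvd_of_dvd_mul_left h64)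
  obtain ⟨m, hm⟩ := h8
  have hm0 : m ≠ 0 := by
    rintro rfl
    rw [hm] at e1
    rcases mul_eq_zero.1 (by linarith : a * (a + 1) = 0) with h | h <;>
      omega
  have e2 : ((16 * o : ℕ) : ℤ) * (m * m) = 72 * (a * (a + 1)) := by
    rw [hm] at e1
    push_cast
    linarith
  have hal : -5 ≤ al ∧ al ≤ 4 := ⟨by nlinarith, by nlinarith⟩
  have hmb : -1440 ≤ m ∧ m ≤ 1440 := by
    have hbound : ∀ c : ℤ, c ≠ 0 → c.natAbs ≤ 1440 → m ∣ c → -1440 ≤ m ∧ m ≤ 1440 := by
      intro c hc hc' hd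
      have := Nat.le_of_dvd (by omega) (Int.natAbs_dvd_natAbs.2 hd)
      omega
    obtain ⟨hl, hu⟩ := hal
    have ha' : a = 8 * m + al := by omega
    rw [ha'] at e2
    have hz : m * (((16 * o : ℕ) : ℤ) * m - 4608 * m - 576 * (2 * al + 1)) = 72 * (al * (al + 1)) := by
      linear_combination e2
    by_cases hc : al * (al + 1) = 0
    · have h3 : m * (((16 * o : ℕ) : ℤ) - 4608) = 576 * (2 * al + 1) := by
        have : ((16 * o : ℕ) : ℤ) * m - 4608 * m - 576 * (2 * al + 1) = 0 := by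
          rw [hc] at hz
          exact (mul_eq_zero.1 (by linarith)).resolve_left hm0
        linear_combination this
      have hu1 : 2 * al + 1 = 1 ∨ 2 * al + 1 = -1 := by
        rcases mul_eq_zero.1 hc with e | e
        · left; omega
        · right; omega
      refine hbound (576 * (2 * al + 1)) ?_ ?_ ⟨_, h3.symm⟩ <;> rcases hu1 with e | e <;> rw [e] <;> norm_num
    · refine hbound (72 * (al * (al + 1))) (mul_ne_zero (by norm_num) hc) ?_ ⟨_, hz.symm⟩
      interval_cases al <;> norm_num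
  have hi : (al + 5).toNat < 10 := by omega
  have hj : (m + 1440).toNat < 2881 := by omega
  have hs := List.all_eq_true.1 (List.all_eq_true.1 search _ (List.mem_range.2 hi)) _ (List.mem_range.2 hj)
  rw [Int.toNat_of_nonneg (by omega), Int.toNat_of_nonneg (by omega), add_sub_cancel_right,
    add_sub_cancel_right] at hs
  have ha' : 8 * m + al = a := by omega
  have hmm : m * m ≠ 0 := mul_ne_zero hm0 hm0
  have hq : 72 * (a * (a + 1)) / (m * m) = ((16 * o : ℕ) : ℤ) := by
    rw [← e2, Int.mul_ediv_cancel _ hmm]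
  have hr : 72 * (a * (a + 1)) % (m * m) = 0 := by rw [← e2]; exact Int.mul_emod_left _ _
  simp only [check, ha', hq, hr, Bool.or_eq_true, decide_eq_true_eq, List.contains_iff_mem, List.mem_cons,
    List.not_mem_nil, or_false] at hs
  obtain ⟨k, hk⟩ := h48
  have hz : 1 + a * a + (-1 - a) * (-1 - a) ≤ ((16 * o : ℕ) : ℤ) := by rw [← pow_two, ← pow_two]; exact hdeg
  rcases hs with h | h | h | h | h | h | h | h | h | h | h | h | h
  · exact absurd h hm0
  · exact absurd rfl h
  · push_cast at h; omega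
  · push_cast at h; omega
  · push_cast at h; omega
  · exact absurd (Int.emod_eq_zero_of_dvd ha) h
  · exact absurd (Int.emod_eq_zero_of_dvd hb) h
  · exact absurd h (not_lt.2 hz)
  · omega
  · omega
  · exact absurd h (not_lt.2 hfa)
  · exact absurd h (not_lt.2 hfb)
  · omega

end CfsgLib.GLTwoThree
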