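import Mathlib
import Cfsg.Agent.Lib.GLTwoThree.Equation
import Cfsg.Agent.Lib.GLTwoThree.Numeric
import Cfsg.Agent.S1001

/-!
# A simple group with an involution centralizer `GL(2,3)` has order `5616` or `7920`
-/

set_option autoImplicit false

namespace CfsgLib.GLTwoThree

open Subgroup CfsgLib.Char CfsgLib.InvolChar

universe u

variable {G : Type u} [Group G] [Finite G] {ψ : Q → G}

theorem order_cases (h : Loc ψ) (h1 : OneClass ψ) (hlin : ∀ χ : Cfsg.IrrCharacter G, χ ≠ irrOne → deg χ ≠ 1) :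
    Nat.card G = 3024 ∨ Nat.card G = 3696 ∨ Nat.card G = 5616 ∨ Nat.card G = 6480 ∨ Nat.card G = 7920 := by
  classical
  haveI := Fintype.ofFinite G
  obtain ⟨χ₁, χ₂, n₁, n₂, -, e₁, e₂, he₁, he₂, hd, hv, hq, hsq, hdeg⟩ := exists_two h h1
  have f1 := four_group h h1 χ₁
  have f2 := four_group h h1 χ₂
  have p1 : 2 ≤ (deg χ₁ : ℤ) := by
    have := deg_pos χ₁; have := hlin χ₁ n₁; omega
  have p2 : 2 ≤ (deg χ₂ : ℤ) := by
    have := deg_pos χ₂; have := hlin χ₂ n₂; omega
  have dd : ∀ χ : Cfsg.IrrCharacter G, (deg χ : ℤ) ∣ (Nat.card G : ℤ) := fun χ =>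
    Int.natCast_dvd_natCast.2 (degree_dvd_card χ.2 (deg_spec χ))
  obtain ⟨h16, h32⟩ := card_two_part h
  have h48 : 48 ∣ Nat.card G := card_centralizer_T h ▸ card_subgroup_dvd_card _
  set d₁ : ℤ := (deg χ₁ : ℤ) with hd₁
  set d₂ : ℤ := (deg χ₂ : ℤ) with hd₂
  set v₁ := intVal χ₁ (T_sq h)
  set v₂ := intVal χ₂ (T_sq h)
  have hb : e₂ * d₂ = -1 - e₁ * d₁ := by linarith
  have hbe : e₂ * v₂ = -1 - e₁ * v₁ := by linarith
  have he1 : e₁ * e₁ = 1 := by rcases he₁ with rfl | rfl <;> norm_num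
  have he2 : e₂ * e₂ = 1 := by rcases he₂ with rfl | rfl <;> norm_num
  refine numeric (a := e₁ * d₁) (al := e₁ * v₁) h16 h32 h48 ?_ ?_ ?_ ?_ ?_ ?_ ?_ ?_ ?_
  · have q1 : (d₁ : ℚ) ≠ 0 := by exact_mod_cast (show d₁ ≠ 0 by omega)
    have q2 : (d₂ : ℚ) ≠ 0 := by exact_mod_cast (show d₂ ≠ 0 by omega)
    have hq' : (Nat.card G : ℚ) * ((d₁ : ℚ) * d₂ + (e₁ : ℚ) * (v₁ : ℚ) ^ 2 * d₂ + (e₂ : ℚ) * (v₂ : ℚ) ^ 2 * d₁) =
        4608 * ((d₁ : ℚ) * d₂) := by
      have : (deg χ₁ : ℚ) = (d₁ : ℚ) := by rw [hd₁]; simp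
      rw [this, show (deg χ₂ : ℚ) = (d₂ : ℚ) by rw [hd₂]; simp] at hq
      rw [← hq]
      field_simp
    have hz : (Nat.card G : ℤ) * (d₁ * d₂ + e₁ * v₁ ^ 2 * d₂ + e₂ * v₂ ^ 2 * d₁) = 4608 * (d₁ * d₂) := by
      exact_mod_cast hq'
    have k1 : (e₁ * e₂) * (d₁ * d₂) = -(e₁ * d₁ * (e₁ * d₁ + 1)) := by linear_combination (e₁ * d₁) * hb
    have k2 : (e₁ * e₂) * (d₁ * d₂ + e₁ * v₁ ^ 2 * d₂ + e₂ * v₂ ^ 2 * d₁) =
        -((e₁ * d₁ - e₁ * v₁) ^ 2) := by
      have : (e₁ * e₂) * (d₁ * d₂ + e₁ * v₁ ^ 2 * d₂ + e₂ * v₂ ^ 2 * d₁) =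
          (e₁ * d₁) * (e₂ * d₂) + (e₁ * v₁) ^ 2 * (e₂ * d₂) + (e₁ * d₁) * (e₂ * v₂) ^ 2 := by ring
      rw [this, hb, hbe]; ring
    linear_combination (-(e₁ * e₂)) * hz + (Nat.card G : ℤ) * k2 - 4608 * k1
  · rw [show -1 - e₁ * v₁ = e₂ * v₂ by rw [hbe], mul_pow, mul_pow, pow_two e₁, he1, pow_two e₂, he2]
    linarith
  · rcases he₁ with rfl | rfl <;> simpa using dd χ₁
  · rw [← hb]; rcases he₂ with rfl | rfl <;> simpa using dd χ₂
  · rcases he₁ with rfl | rfl <;> omega
  · rw [← hb]; rcases he₂ with rfl | rfl <;> omega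
  · rw [← hb, mul_pow, mul_pow, pow_two e₁, he1, pow_two e₂, he2]; linarith
  · have : e₁ * d₁ * (e₁ * d₁ + 3 * (e₁ * v₁)) = d₁ * (d₁ + 3 * v₁) := by
      linear_combination (d₁ * (d₁ + 3 * v₁)) * he1
    rw [this]; positivity
  · rw [← hb, show -1 - e₁ * v₁ = e₂ * v₂ by rw [hbe]]
    have : e₂ * d₂ * (e₂ * d₂ + 3 * (e₂ * v₂)) = d₂ * (d₂ + 3 * v₂) := by
      linear_combination (d₂ * (d₂ + 3 * v₂)) * he2
    rw [this]; positivity

theorem deg_ne_one_of_simple [IsSimpleGroup G] (hna : ¬ IsMulCommutative G) (χ : Cfsg.IrrCharacter G)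
    (hne : χ ≠ irrOne) : deg χ ≠ 1 := by
  intro hd
  have h1 : (χ : G → ℂ) 1 = 1 := by rw [deg_spec, hd]; norm_num
  let f := linearHom (isCharacter_of_isIrr χ.2) h1
  rcases (f.normal_ker).eq_bot_or_eq_top with e | e
  · exact hna (isMulCommutative_iff.2 fun a b => (MonoidHom.ker_eq_bot_iff f).1 e (by rw [map_mul, map_mul, mul_comm]))
  · refine hne (Subtype.ext (funext fun g => ?_))
    have hg : f g = 1 := MonoidHom.mem_ker.1 (e ▸ mem_top g)
    have h3 := congrArg Units.val hg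
    rw [linearHom_apply] at h3
    rw [irrOne_apply]
    exact h3

theorem not_comm (h : Loc ψ) : ¬ IsMulCommutative G := fun hc => by
    have e : ∀ x ∈ good, qmul qS x = qmul x qS := fun x hx => h.inj _ (good_mul _ qS_good _ hx) _
      (good_mul _ hx _ qS_good) (by rw [h.map_mul _ qS_good _ hx, h.map_mul _ hx _ qS_good]; exact hc.is_comm.comm _ _)
    rcases central_eq qS qS_good e with e' | e' <;> exact absurd e' (by decide)

/-- Data of a Sylow subgroup of prime order not dividing `48`. -/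
theorem sylow_prime [IsSimpleGroup G] (h : Loc ψ) (h1 : OneClass ψ) {p : ℕ} (hp : p.Prime)
    (hp48 : ¬ p ∣ 48) {n : ℕ} (hn : Nat.card G = n) (hd : p ∣ n) (hd2 : ¬ p ^ 2 ∣ n) :
    ∃ (z : G) (k : ℕ), orderOf z = p ∧
      Odd (Nat.card (centralizer ({z} : Set G))) ∧
      Nat.card (normalizer (zpowers z : Set G)) = Nat.card (centralizer ({z} : Set G)) * k ∧
      k ∣ p - 1 ∧ k ≠ 1 ∧ p ∣ Nat.card (centralizer ({z} : Set G)) ∧
      n / Nat.card (normalizer (zpowers z : Set G)) % p = 1 ∧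
      Nat.card (normalizer (zpowers z : Set G)) ∣ n ∧
      (∀ y : G, orderOf y = p → y ∈ normalizer (zpowers z : Set G) → y ∈ zpowers z) := by
  classical
  haveI : Fact p.Prime := ⟨hp⟩
  obtain ⟨z, hz⟩ := exists_prime_orderOf_dvd_card' (G := G) p (hn ▸ hd)
  have hf : (Nat.card G).factorization p = 1 := by
    rw [hn]
    have hn0 : n ≠ 0 := hn ▸ Nat.card_pos.ne'
    have a1 := (hp.pow_dvd_iff_le_factorization hn0).1 (by simpa using hd : p ^ 1 ∣ n)
    have a2 := mt (hp.pow_dvd_iff_le_factorization hn0).2 hd2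
    omega
  have hzc : Nat.card (zpowers z) = p ^ (Nat.card G).factorization p := by
    rw [hf, pow_one, Nat.card_zpowers, hz]
  let P : Sylow p G := Sylow.ofCard (zpowers z) hzc
  have hcc : centralizer ((zpowers z : Subgroup G) : Set G) = centralizer ({z} : Set G) := by
    ext g
    rw [mem_centralizer_singleton_iff, mem_centralizer_iff]
    refine ⟨fun hg => (hg z (mem_zpowers z)).symm, fun hg a ha => ?_⟩
    obtain ⟨i, rfl⟩ := mem_zpowers_iff.1 ha
    exact ((show Commute z g from hg.symm).zpow_left i).eq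
  have hCN : centralizer ({z} : Set G) ≤ normalizer (zpowers z : Set G) := hcc ▸ centralizer_le_normalizer _
  set N := normalizer (zpowers z : Set G) with hN
  set C := centralizer ({z} : Set G) with hC
  have hk : C.relIndex N ∣ p - 1 := by
    have e1 : ((zpowers z).normalizerMonoidHom).ker = C.subgroupOf N := by
      rw [Subgroup.normalizerMonoidHom_ker, hcc]
    have e2 : C.relIndex N = Nat.card (zpowers z).normalizerMonoidHom.range := by
      rw [Subgroup.relIndex, ← e1, Subgroup.index_ker]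
    rw [e2]
    have e3 : Nat.card (MulAut (zpowers z)) = p - 1 := by
      rw [IsCyclic.card_mulAut, Nat.card_zpowers, hz, Nat.totient_prime hp]
    exact e3 ▸ card_subgroup_dvd_card _
  have hNC : Nat.card N = Nat.card C * C.relIndex N := by
    rw [← Subgroup.index_mul_card (C.subgroupOf N), Nat.card_congr (subgroupOfEquivOfLe hCN).toEquiv]
    rw [Subgroup.relIndex, mul_comm]
  have hodd : Odd (Nat.card C) := by
    by_contra he
    rw [Nat.not_odd_iff_even, even_iff_two_dvd] at he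
    haveI : Fact (Nat.Prime 2) := ⟨Nat.prime_two⟩
    obtain ⟨u, hu⟩ := exists_prime_orderOf_dvd_card' (G := C) 2 he
    rw [← Subgroup.orderOf_coe] at hu
    have h48 : Nat.card (centralizer ({(u : G)} : Set G)) = 48 :=
      (CfsgLib.Invol.card_centralizer_of_isConj (h1 _ hu)).trans (card_centralizer_T h)
    have hzu : z ∈ centralizer ({(u : G)} : Set G) :=
      mem_centralizer_singleton_iff.2 (mem_centralizer_singleton_iff.1 u.2).symm
    exact hp48 (hz ▸ h48 ▸ Subgroup.orderOf_dvd_natCard _ hzu)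
  have hzC : p ∣ Nat.card C := hz ▸ Subgroup.orderOf_dvd_natCard _ (mem_centralizer_singleton_iff.2 rfl)
  have hk1 : C.relIndex N ≠ 1 := by
    intro hk1
    have hle : normalizer ((P : Subgroup G) : Set G) ≤ centralizer ((P : Subgroup G) : Set G) := by
      show N ≤ centralizer ((zpowers z : Subgroup G) : Set G)
      rw [hcc]
      exact Subgroup.relIndex_eq_one.1 hk1
    have hcompl := MonoidHom.ker_transferSylow_isComplement' P hle
    have hPc : Nat.card (P : Subgroup G) = p := by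
      show Nat.card (zpowers z) = p
      rw [Nat.card_zpowers, hz]
    have hmul := hcompl.card_mul
    rw [hPc] at hmul
    rcases ((MonoidHom.transferSylow P hle).normal_ker).eq_bot_or_eq_top with e | e
    · rw [e, card_bot, one_mul] at hmul
      have h48 : 48 ∣ p := hmul ▸ card_centralizer_T h ▸ card_subgroup_dvd_card _
      rcases hp.eq_one_or_self_of_dvd 48 h48 with e' | e'
      · norm_num at e'
      · exact hp48 (e' ▸ dvd_refl 48)
    · rw [e, card_top] at hmul
      have := hp.one_lt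
      have : 0 < Nat.card G := Nat.card_pos
      nlinarith
  have hidx : Nat.card (Sylow p G) = n / Nat.card N := by
    rw [P.card_eq_index_normalizer, ← hn, ← Subgroup.index_mul_card N, Nat.mul_div_cancel _ Nat.card_pos]
    rfl
  refine ⟨z, C.relIndex N, hz, hodd, hNC, hk, hk1, hzC, ?_, hn ▸ card_subgroup_dvd_card N, ?_⟩
  · rw [← hidx]
    have := card_sylow_modEq_one p G
    rw [Nat.ModEq] at this
    rw [this, Nat.mod_eq_of_lt hp.one_lt]
  · intro y hy hyN
    have hpg : IsPGroup p (zpowers y ⊔ zpowers z : Subgroup G) := by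
      refine IsPGroup.to_sup_of_normal_right' ?_ ?_ (zpowers_le.2 hyN)
      · exact IsPGroup.of_card (n := 1) (by rw [Nat.card_zpowers, hy, pow_one])
      · exact IsPGroup.of_card (n := 1) (by rw [Nat.card_zpowers, hz, pow_one])
    have hle := P.3 hpg (le_sup_right : zpowers z ≤ zpowers y ⊔ zpowers z)
    have : zpowers y ⊔ zpowers z = zpowers z := hle
    exact this ▸ (le_sup_left : zpowers y ≤ _) (mem_zpowers y)

theorem not_6480 [IsSimpleGroup G] (h : Loc ψ) (h1 : OneClass ψ) : Nat.card G ≠ 6480 := by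
  intro hn
  obtain ⟨z, k, hz, hodd, hN, hk, hk1, hdC, hmod, hdvd, -⟩ :=
    sylow_prime h h1 (p := 5) (by norm_num) (by norm_num) hn (by norm_num) (by norm_num)
  have hC : Nat.card (centralizer ({z} : Set G)) = 5 := by
    rw [Cfsg.Agent.S1001.result 5 4 4 (by norm_num) (by rw [hn]; norm_num) z hz, Nat.card_zpowers, hz]
  rw [hN, hC] at hmod
  have := Nat.le_of_dvd (by norm_num) hk
  interval_cases k <;> simp_all (config := {decide := true})

theorem not_3024 [IsSimpleGroup G] (h : Loc ψ) (h1 : OneClass ψ) : Nat.card G ≠ 3024 := by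
  intro hn
  obtain ⟨z, k, hz, hodd, hN, hk, hk1, hdC, hmod, hdvd, -⟩ :=
    sylow_prime h h1 (p := 7) (by norm_num) (by norm_num) hn (by norm_num) (by norm_num)
  have hC : Nat.card (centralizer ({z} : Set G)) = 7 := by
    rw [Cfsg.Agent.S1001.result 7 3 4 (by norm_num) (by rw [hn]; norm_num) z hz, Nat.card_zpowers, hz]
  rw [hN, hC] at hmod
  have := Nat.le_of_dvd (by norm_num) hk
  interval_cases k <;> simp_all (config := {decide := true})

theorem Z_order (h : Loc ψ) : orderOf (ψ qZ) = 3 := by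
  haveI : Fact (Nat.Prime 3) := ⟨Nat.prime_three⟩
  have hZ : qZ ∈ good := by decide +kernel
  have e : qmul (qmul qZ qZ) qZ = qI := by decide +kernel
  refine orderOf_eq_prime ?_ fun e' => ?_
  · rw [pow_succ, pow_two, ← h.map_mul _ hZ _ hZ, ← h.map_mul _ (good_mul _ hZ _ hZ) _ hZ, e, map_I h]
  · exact absurd (psi_eq_one h hZ e') (by decide)

theorem not_3696 [IsSimpleGroup G] (h : Loc ψ) (h1 : OneClass ψ) : Nat.card G ≠ 3696 := by
  intro hn
  haveI : Fact (Nat.Prime 2) := ⟨Nat.prime_two⟩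
  haveI : Fact (Nat.Prime 3) := ⟨Nat.prime_three⟩
  haveI : Fact (Nat.Prime 11) := ⟨by norm_num⟩
  obtain ⟨z, k, hz, hodd, hN, hk, hk1, hdC, hmod, hdvd, huniq⟩ :=
    sylow_prime h h1 (p := 11) (by norm_num) (by norm_num) hn (by norm_num) (by norm_num)
  set C := centralizer ({z} : Set G) with hCdef
  set N := normalizer (zpowers z : Set G) with hNdef
  obtain ⟨j, hj⟩ := hodd
  have key : ∀ c ∈ Nat.divisors 3696, c % 2 = 1 → c % 11 = 0 → ∀ e ∈ ([2, 5, 10] : List ℕ),
      c * e ∣ 3696 → 3696 / (c * e) % 11 = 1 → c = 33 ∧ e = 2 := by decide +kernel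
  have hke : k ∈ ([2, 5, 10] : List ℕ) := by
    have h10 : k ∣ 10 := hk
    have hm := Nat.mem_divisors.2 ⟨h10, (by norm_num : (10 : ℕ) ≠ 0)⟩
    rw [show Nat.divisors 10 = {1, 2, 5, 10} from rfl] at hm
    simp only [Finset.mem_insert, Finset.mem_singleton] at hm
    rcases hm with e | e | e | e
    · exact absurd e hk1
    all_goals simp [e]
  have hcm : Nat.card C ∈ Nat.divisors 3696 :=
    Nat.mem_divisors.2 ⟨hn ▸ card_subgroup_dvd_card C, by norm_num⟩
  obtain ⟨hC33, hk2⟩ := key _ hcm (by omega) (Nat.dvd_iff_mod_eq_zero.1 hdC) k hke (hN ▸ hdvd) (hN ▸ hmod)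
  have hN66 : Nat.card N = 66 := by rw [hN, hC33, hk2]
  -- an element of order three in the centralizer
  obtain ⟨y', hy'⟩ := exists_prime_orderOf_dvd_card' (G := C) 3 (by rw [hC33]; norm_num)
  set y : G := (y' : G) with hydef
  have hy : orderOf y = 3 := by rw [hydef, Subgroup.orderOf_coe, hy']
  have hyz : Commute y z := mem_centralizer_singleton_iff.1 y'.2
  set Y := centralizer ({y} : Set G) with hYdef
  have hzY : z ∈ Y := mem_centralizer_singleton_iff.2 hyz.eq.symm
  -- the centralizer of `y` has twice odd order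
  have hcy : 2 ∣ Nat.card Y ∧ ¬ 4 ∣ Nat.card Y := by
    have hZ : qZ ∈ good := by decide +kernel
    have hZo := Z_order h
    have h3 : (Nat.card G).factorization 3 = 1 := by
      rw [hn]
      have a1 := (Nat.prime_three.pow_dvd_iff_le_factorization (by norm_num : (3696 : ℕ) ≠ 0)).1
        (by norm_num : 3 ^ 1 ∣ 3696)
      have a2 := mt (Nat.prime_three.pow_dvd_iff_le_factorization (by norm_num : (3696 : ℕ) ≠ 0)).2
        (by norm_num : ¬ 3 ^ 2 ∣ 3696)
      omega
    let P : Sylow 3 G := Sylow.ofCard (zpowers (ψ qZ)) (by rw [h3, pow_one, Nat.card_zpowers, hZo])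
    let R : Sylow 3 G := Sylow.ofCard (zpowers y) (by rw [h3, pow_one, Nat.card_zpowers, hy])
    obtain ⟨g, hg⟩ := MulAction.exists_smul_eq G P R
    have hmem : g * ψ qZ * g⁻¹ ∈ zpowers y := by
      have : g * ψ qZ * g⁻¹ ∈ (R : Subgroup G) := by rw [← hg]; exact ⟨ψ qZ, mem_zpowers _, rfl⟩
      exact this
    have heq : zpowers (g * ψ qZ * g⁻¹) = zpowers y := by
      refine eq_of_le_of_card_ge (zpowers_le.2 hmem) ?_
      rw [Nat.card_zpowers, Nat.card_zpowers, hy,
        show orderOf (g * ψ qZ * g⁻¹) = orderOf (ψ qZ) from (MulAut.conj g).orderOf_eq _, hZo]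
    have hYe : Y = centralizer ({g * ψ qZ * g⁻¹} : Set G) := by
      rw [hYdef]
      ext a
      rw [mem_centralizer_singleton_iff, mem_centralizer_singleton_iff]
      constructor <;> intro ha
      · obtain ⟨i, hi⟩ := mem_zpowers_iff.1 hmem
        rw [← hi]; exact ((show Commute a y from ha).zpow_right i).eq
      · obtain ⟨i, hi⟩ := mem_zpowers_iff.1 (heq ▸ mem_zpowers y : y ∈ zpowers (g * ψ qZ * g⁻¹))
        rw [← hi]; exact ((show Commute a _ from ha).zpow_right i).eq
    rw [hYe, CfsgLib.Invol.card_centralizer_of_isConj (isConj_iff.2 ⟨g, rfl⟩ : IsConj (ψ qZ) (g * ψ qZ * g⁻¹))]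
    set Z := centralizer ({ψ qZ} : Set G)
    have hTZ : ψ qT ∈ Z := mem_centralizer_singleton_iff.2 (commute_T h hZ).symm
    refine ⟨orderOf_T h ▸ Subgroup.orderOf_dvd_natCard _ hTZ, fun h4 => ?_⟩
    obtain ⟨S, hS⟩ := (IsPGroup.of_card (n := 1) (by rw [Nat.card_zpowers,
      show orderOf (⟨ψ qT, hTZ⟩ : Z) = 2 by rw [Subgroup.orderOf_mk, orderOf_T h], pow_one]) :
      IsPGroup 2 (zpowers (⟨ψ qT, hTZ⟩ : Z))).exists_le_sylow
    have hS4 : 4 ∣ Nat.card (S : Subgroup Z) := S.pow_dvd_card_of_pow_dvd_card (n := 2) h4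
    haveI : Nontrivial (S : Subgroup Z) := Finite.one_lt_card_iff_nontrivial.1 (by
      have := Nat.le_of_dvd Nat.card_pos hS4; omega)
    haveI := S.2.center_nontrivial
    have small : (good.filter fun x => qmul x qZ = qmul qZ x).card = 6 := by decide +kernel
    let tS : (S : Subgroup Z) := ⟨⟨ψ qT, hTZ⟩, hS (mem_zpowers _)⟩
    -- a subgroup of order at least four commuting with the involution
    have hbig : ∀ a : (S : Subgroup Z), a * tS = tS * a → ∃ x ∈ good.filter (fun x => qmul x qZ = qmul qZ x),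
        ψ x = ((a : Z) : G) := by
      intro a ha
      have e1 : ((a : Z) : G) * ψ qT = ψ qT * ((a : Z) : G) :=
        congrArg (fun w : (S : Subgroup Z) => ((w : Z) : G)) ha
      obtain ⟨x, hx, hxe⟩ := (h.mem_iff _).1 e1
      refine ⟨x, Finset.mem_filter.2 ⟨hx, h.inj _ (good_mul _ hx _ hZ) _ (good_mul _ hZ _ hx) ?_⟩, hxe⟩
      rw [h.map_mul _ hx _ hZ, h.map_mul _ hZ _ hx, hxe]
      exact mem_centralizer_singleton_iff.1 (a : Z).2
    have htwo : ∀ a : (S : Subgroup Z), a * tS = tS * a → a = 1 ∨ a = tS := by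
      intro a ha
      obtain ⟨x, hx, hxe⟩ := hbig a ha
      obtain ⟨i, hi⟩ := S.2 a
      have hxg := (Finset.mem_filter.1 hx).1
      have key2 : ∀ x ∈ good.filter (fun x => qmul x qZ = qmul qZ x), x ≠ qI → x ≠ qT →
          qmul x (qmul x x) = qI ∨ qmul (qmul x (qmul x x)) (qmul x (qmul x x)) = qI ∧
            qmul x x ≠ qI := by decide +kernel
      by_cases hxI : x = qI
      · exact Or.inl (Subtype.ext (Subtype.ext (by rw [← hxe, hxI, map_I h]; rfl)))
      by_cases hxT : x = qT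
      · exact Or.inr (Subtype.ext (Subtype.ext (by rw [← hxe, hxT])))
      exfalso
      have hpow : ((a : Z) : G) ^ (2 ^ i) = 1 := congrArg (fun w : (S : Subgroup Z) => ((w : Z) : G)) hi
      have hd2 : orderOf ((a : Z) : G) ∣ 2 ^ i := orderOf_dvd_of_pow_eq_one hpow
      have hd6 : orderOf ((a : Z) : G) ∣ 6 ∧ ¬ orderOf ((a : Z) : G) ∣ 2 := by
        have hxx := good_mul _ hxg _ hxg
        have hx3 := good_mul _ hxg _ hxx
        constructor
        · apply orderOf_dvd_of_pow_eq_one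
          rw [← hxe, show (ψ x) ^ 6 = ψ x * (ψ x * ψ x) * (ψ x * (ψ x * ψ x)) by simp [pow_succ, mul_assoc],
            ← h.map_mul _ hxg _ hxg, ← h.map_mul _ hxg _ hxx, ← h.map_mul _ hx3 _ hx3]
          rcases key2 x hx hxI hxT with e | ⟨e, -⟩
          · rw [e, show qmul qI qI = qI by decide +kernel, map_I h]
          · rw [e, map_I h]
        · intro hd
          have e := orderOf_dvd_iff_pow_eq_one.1 hd
          rw [← hxe, pow_two, ← h.map_mul _ hxg _ hxg] at e
          have e' := psi_eq_one h hxx e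
          rcases key2 x hx hxI hxT with e2 | ⟨-, e2⟩
          · refine hxI ?_
            have : qmul x qI = qI := e' ▸ e2
            have hrw : ∀ x : Q, qmul x qI = x := by decide +kernel
            rwa [hrw] at this
          · exact e2 e'
      obtain ⟨m, hm, hme⟩ := (Nat.dvd_prime_pow Nat.prime_two).1 hd2
      rw [hme] at hd6
      rcases (by omega : m = 0 ∨ m = 1 ∨ 2 ≤ m) with rfl | rfl | hm2
      · exact hd6.2 (one_dvd _)
      · exact hd6.2 (dvd_refl _)
      · have : (2 : ℕ) ^ 2 ∣ 6 := (pow_dvd_pow 2 hm2).trans hd6.1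
        norm_num at this
    have hcent : tS ∈ Subgroup.center (S : Subgroup Z) := by
      obtain ⟨c, hc, hc1⟩ := (Subgroup.nontrivial_iff_exists_ne_one _).1
        (inferInstance : Nontrivial (Subgroup.center (S : Subgroup Z)))
      rcases htwo c (mem_center_iff.1 hc tS).symm with e | e
      · exact absurd e hc1
      · exact e ▸ hc
    have hall : ∀ a : (S : Subgroup Z), a ∈ ({1, tS} : Set (S : Subgroup Z)) := fun a => by
      rcases htwo a (mem_center_iff.1 hcent a) with e | e <;> simp [e]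
    have : Nat.card (S : Subgroup Z) ≤ 2 := by
      rw [← Set.ncard_univ]
      refine le_trans (Set.ncard_le_ncard (fun a _ => hall a) (Set.toFinite _)) ?_
      exact le_trans (Set.ncard_insert_le _ _) (by rw [Set.ncard_singleton])
    have := Nat.le_of_dvd Nat.card_pos hS4
    omega
  -- the Sylow 11-subgroup is normal in the centralizer of `y`
  have h33 : 33 ∣ Nat.card Y :=
    Nat.Coprime.mul_dvd_of_dvd_of_dvd (by norm_num : Nat.Coprime 3 11)
      (hy ▸ Subgroup.orderOf_dvd_natCard _ (mem_centralizer_singleton_iff.2 rfl : y ∈ Y))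
      (hz ▸ Subgroup.orderOf_dvd_natCard _ hzY)
  have hzY' : Nat.card (zpowers (⟨z, hzY⟩ : Y)) = 11 := by rw [Nat.card_zpowers, Subgroup.orderOf_mk, hz]
  have hf11 : (Nat.card Y).factorization 11 = 1 := by
    have hY0 : Nat.card Y ≠ 0 := Nat.card_pos.ne'
    have a1 := ((by norm_num : Nat.Prime 11).pow_dvd_iff_le_factorization hY0).1
      (by rw [pow_one]; exact (Dvd.intro_left 3 rfl : 11 ∣ 33).trans h33)
    have a2 : ¬ 11 ^ 2 ∣ Nat.card Y := fun hd =>
      absurd (hd.trans (hn ▸ card_subgroup_dvd_card Y)) (by norm_num)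
    have a3 := mt ((by norm_num : Nat.Prime 11).pow_dvd_iff_le_factorization hY0).2 a2
    omega
  let P11 : Sylow 11 Y := Sylow.ofCard (zpowers (⟨z, hzY⟩ : Y)) (by rw [hf11, pow_one, hzY'])
  have huni : Nat.card (Sylow 11 Y) = 1 := by
    have hm := card_sylow_modEq_one 11 Y
    rw [Nat.ModEq, Nat.one_mod] at hm
    have hd : Nat.card (Sylow 11 Y) ∣ Nat.card Y := P11.card_eq_index_normalizer ▸ index_dvd_card _
    have hYd : Nat.card Y ∣ 3696 := hn ▸ card_subgroup_dvd_card Y
    have key3 : ∀ s ∈ Nat.divisors 3696, ∀ c ∈ Nat.divisors 3696, 33 ∣ c → ¬ 4 ∣ c → s ∣ c → s % 11 = 1 →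
        s = 1 := by decide +kernel
    exact key3 _ (Nat.mem_divisors.2 ⟨hd.trans hYd, by norm_num⟩) _ (Nat.mem_divisors.2 ⟨hYd, by norm_num⟩)
      h33 hcy.2 hd hm
  haveI : Subsingleton (Sylow 11 Y) := (Nat.card_eq_one_iff_unique.1 huni).1
  have hYN : Y ≤ N := by
    intro a ha
    haveI := P11.normal_of_subsingleton
    have hn' := Normal.conj_mem (H := (P11 : Subgroup Y)) inferInstance
    rw [hNdef, mem_normalizer_iff]
    intro b
    constructor <;> intro hb
    · obtain ⟨i, rfl⟩ := mem_zpowers_iff.1 hb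
      obtain ⟨i', hi'⟩ := mem_zpowers_iff.1 (hn' (⟨z, hzY⟩ ^ i) (zpow_mem (mem_zpowers _) i) ⟨a, ha⟩)
      exact ⟨i', congrArg Subtype.val hi'⟩
    · obtain ⟨i, hi⟩ := mem_zpowers_iff.1 hb
      obtain ⟨i', hi'⟩ := mem_zpowers_iff.1 (hn' (⟨z, hzY⟩ ^ i) (zpow_mem (mem_zpowers _) i) ⟨a, ha⟩⁻¹)
      refine ⟨i', (congrArg Subtype.val hi').trans ?_⟩
      simp [hi]
      group
  have hYeq : Y = N := by
    refine eq_of_le_of_card_ge hYN ?_
    rw [hN66]
    refine Nat.le_of_dvd Nat.card_pos ?_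
    exact Nat.Coprime.mul_dvd_of_dvd_of_dvd (by norm_num : Nat.Coprime 2 33) hcy.1 h33
  -- transfer
  have h3 : (Nat.card G).factorization 3 = 1 := by
    rw [hn]
    have a1 := (Nat.prime_three.pow_dvd_iff_le_factorization (by norm_num : (3696 : ℕ) ≠ 0)).1
      (by norm_num : 3 ^ 1 ∣ 3696)
    have a2 := mt (Nat.prime_three.pow_dvd_iff_le_factorization (by norm_num : (3696 : ℕ) ≠ 0)).2
      (by norm_num : ¬ 3 ^ 2 ∣ 3696)
    omega
  let R : Sylow 3 G := Sylow.ofCard (zpowers y) (by rw [h3, pow_one, Nat.card_zpowers, hy])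
  have hle : normalizer ((R : Subgroup G) : Set G) ≤ centralizer ((R : Subgroup G) : Set G) := by
    intro g hg
    have hgY : ∀ a ∈ Y, g * a * g⁻¹ ∈ Y := by
      intro a ha
      rw [hYdef, mem_centralizer_singleton_iff] at ha ⊢
      obtain ⟨i, hi⟩ := mem_zpowers_iff.1 ((mem_normalizer_iff.1 (inv_mem hg) y).1 (mem_zpowers y))
      have hc : Commute a (g⁻¹ * y * g⁻¹⁻¹) := hi ▸ (show Commute a y from ha).zpow_right i
      have := (Commute.conj_iff g).2 hc
      rw [show g * (g⁻¹ * y * g⁻¹⁻¹) * g⁻¹ = y by group] at this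
      exact this.eq
    have hzg : g * z * g⁻¹ ∈ zpowers z :=
      huniq _ (((MulAut.conj g).orderOf_eq z).trans hz) (hYN (hgY z hzY))
    have hgN : g ∈ N := by
      have heq : (zpowers z).map (MulAut.conj g).toMonoidHom = zpowers z := by
        refine eq_of_le_of_card_ge ?_ (by rw [Nat.card_congr ((zpowers z).equivMapOfInjective _ (MulAut.conj g).injective).toEquiv.symm])
        rw [MonoidHom.map_zpowers, zpowers_le]
        exact hzg
      rw [hNdef, mem_normalizer_iff]
      intro b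
      constructor
      · intro hb; rw [← heq]; exact ⟨b, hb, rfl⟩
      · intro hb
        rw [← heq] at hb
        obtain ⟨c, hc, hce⟩ := hb
        rwa [(MulAut.conj g).injective hce] at hc
    rw [← hYeq, hYdef, mem_centralizer_singleton_iff] at hgN
    rw [mem_centralizer_iff]
    intro b hb
    obtain ⟨i, rfl⟩ := mem_zpowers_iff.1 (show b ∈ zpowers y from hb)
    exact ((show Commute y g from hgN.symm).zpow_left i).eq
  have hmul := (MonoidHom.ker_transferSylow_isComplement' R hle).card_mul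
  have hRc : Nat.card (R : Subgroup G) = 3 := by
    show Nat.card (zpowers y) = 3
    rw [Nat.card_zpowers, hy]
  rw [hRc, hn] at hmul
  rcases ((MonoidHom.transferSylow R hle).normal_ker).eq_bot_or_eq_top with e | e
  · rw [e, card_bot] at hmul; omega
  · rw [e, card_top, hn] at hmul; omega

theorem card_eq [IsSimpleGroup G] (h : Loc ψ) (h1 : OneClass ψ) :
    Nat.card G = 5616 ∨ Nat.card G = 7920 := by
  rcases order_cases h h1 (deg_ne_one_of_simple (not_comm h)) with e | e | e | e | e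
  · exact absurd e (not_3024 h h1)
  · exact absurd e (not_3696 h h1)
  · exact Or.inl e
  · exact absurd e (not_6480 h h1)
  · exact Or.inr e

end CfsgLib.GLTwoThree
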