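import Mathlib
import Cfsg.Agent.Lib.GLTwoThree.Order
import Cfsg.Agent.Lib.GLTwoThree.RootModel

/-!
# The centralizer of an element of order three in the group of order `5616`
-/

set_option autoImplicit false

namespace CfsgLib.GLTwoThree

open Subgroup

universe u

variable {G : Type u} [Group G] {ψ : Q → G}

theorem qcube_of_cube (h : Loc ψ) {x : Q} (hx : x ∈ good) (e : ψ x ^ 3 = 1) :
    qmul (qmul x x) x = qI :=
  psi_eq_one h (good_mul _ (good_mul _ hx _ hx) _ hx) (by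
    rw [h.map_mul _ (good_mul _ hx _ hx) _ hx, h.map_mul _ hx _ hx, ← e, pow_succ, pow_two])

theorem cube_of_qcube (h : Loc ψ) {x : Q} (hx : x ∈ good) (e : qmul (qmul x x) x = qI) :
    ψ x ^ 3 = 1 := by
  rw [pow_succ, pow_two, ← h.map_mul _ hx _ hx, ← h.map_mul _ (good_mul _ hx _ hx) _ hx, e,
    map_I h]

theorem S_inv_eq (h : Loc ψ) : (ψ qS)⁻¹ = ψ qS := inv_eq_of_mul_eq_one_right (S_sq h)

theorem T_inv_eq (h : Loc ψ) : (ψ qT)⁻¹ = ψ qT := inv_eq_of_mul_eq_one_right (T_sq h)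

theorem TS_comm (h : Loc ψ) : ψ qT * ψ qS = ψ qS * ψ qT := (commute_T h qS_good).symm

theorem TS_sq (h : Loc ψ) : (ψ qT * ψ qS) * (ψ qT * ψ qS) = 1 := by
  calc _ = ψ qT * (ψ qS * ψ qT) * ψ qS := by group
    _ = ψ qT * (ψ qT * ψ qS) * ψ qS := by rw [TS_comm h]
    _ = (ψ qT * ψ qT) * (ψ qS * ψ qS) := by group
    _ = 1 := by rw [T_sq h, S_sq h, mul_one]

theorem TS_ne (h : Loc ψ) : ψ qT * ψ qS ≠ 1 := by
  rw [← h.map_mul _ qT_good _ qS_good]
  intro e
  exact absurd (psi_eq_one h (good_mul _ qT_good _ qS_good) e) (by decide)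

theorem orderOf_TS (h : Loc ψ) : orderOf (ψ qT * ψ qS) = 2 :=
  orderOf_eq_prime (by rw [pow_two]; exact TS_sq h) (TS_ne h)

theorem S_conj_Z (h : Loc ψ) : ψ qS * ψ qZ * ψ qS = (ψ qZ)⁻¹ := by
  rw [← h.map_mul _ qS_good _ qZ_good, ← h.map_mul _ (good_mul _ qS_good _ qZ_good) _ qS_good,
    root_facts.2.2.1, map_inv' h qZ_good]

theorem isConj_Z_inv (h : Loc ψ) : IsConj (ψ qZ) (ψ qZ)⁻¹ :=
  isConj_iff.2 ⟨ψ qS, by rw [S_inv_eq h, S_conj_Z h]⟩

/-- A subgroup of order `27` has every commutator in each central subgroup of order three. -/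
theorem comm_mem_zpowers_of_card [Finite G] (P : Subgroup G) (hP : Nat.card P = 27) {z : G}
    (hz : z ∈ P) (hz3 : orderOf z = 3) (hcen : ∀ a ∈ P, a * z = z * a) {a b : G} (ha : a ∈ P)
    (hb : b ∈ P) : a * b * a⁻¹ * b⁻¹ ∈ zpowers z := by
  haveI : Fact (Nat.Prime 3) := ⟨Nat.prime_three⟩
  let N : Subgroup P := zpowers (⟨z, hz⟩ : P)
  have hNc : N ≤ Subgroup.center P := by
    rw [zpowers_le, mem_center_iff]
    exact fun g => Subtype.ext (hcen g g.2)
  haveI : N.Normal := ⟨fun n hn g => by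
    rw [mem_center_iff.1 (hNc hn) g, mul_inv_cancel_right]; exact hn⟩
  have hN : Nat.card N = 3 := by
    rw [Nat.card_zpowers, ← hz3, ← Subgroup.orderOf_coe]
  have hq : Nat.card (P ⧸ N) = 3 ^ 2 := by
    have h1 := Subgroup.card_eq_card_quotient_mul_card_subgroup N
    rw [hP, hN] at h1
    norm_num
    omega
  have h2 := (IsPGroup.isMulCommutative_of_card_eq_prime_sq hq).is_comm.comm
    ((⟨a, ha⟩ : P) : P ⧸ N) ((⟨b, hb⟩ : P) : P ⧸ N)
  have h3 : (⟨a, ha⟩ : P) * ⟨b, hb⟩ * (⟨a, ha⟩ : P)⁻¹ * (⟨b, hb⟩ : P)⁻¹ ∈ N := by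
    rw [← QuotientGroup.eq_one_iff, QuotientGroup.mk_mul, QuotientGroup.mk_mul, QuotientGroup.mk_mul,
      QuotientGroup.mk_inv, QuotientGroup.mk_inv, h2, mul_inv_cancel_right, mul_inv_cancel]
  obtain ⟨i, hi⟩ := mem_zpowers_iff.1 h3
  exact mem_zpowers_iff.2 ⟨i, by simpa using congrArg Subtype.val hi⟩

variable [Finite G] [IsSimpleGroup G] (h : Loc ψ) (h1 : OneClass ψ) (hn : Nat.card G = 5616)

include h h1 in
omit [IsSimpleGroup G] in
theorem isConj_Z_of_invol {z u : G} (hz : z ^ 3 = 1) (hz1 : z ≠ 1) (hu : orderOf u = 2)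
    (hc : Commute u z) : IsConj (ψ qZ) z := by
  obtain ⟨g, hg⟩ := isConj_iff.1 (h1 u hu)
  have hgz : (g⁻¹ * z * g) * ψ qT = ψ qT * (g⁻¹ * z * g) := by
    calc (g⁻¹ * z * g) * ψ qT = g⁻¹ * (z * u) * g := by rw [← hg]; group
      _ = g⁻¹ * (u * z) * g := by rw [hc.eq]
      _ = ψ qT * (g⁻¹ * z * g) := by rw [← hg]; group
  obtain ⟨x, hx, hxe⟩ := (h.mem_iff _).1 hgz
  have e3 : ψ x ^ 3 = 1 := by
    rw [hxe]
    have : (g⁻¹ * z * g) ^ 3 = g⁻¹ * z ^ 3 * g := by
      simpa using (conj_pow (i := 3) (a := g⁻¹) (b := z))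
    rw [this, hz]; group
  rcases cube_cases x hx (qcube_of_cube h hx e3) with e | e
  · exfalso
    apply hz1
    rw [e, map_I h] at hxe
    calc z = g * (g⁻¹ * z * g) * g⁻¹ := by group
      _ = 1 := by rw [← hxe]; group
  · have h2 := isConj_rep h hx
    rw [e, rep_vals.2.2.2.1, hxe] at h2
    exact h2.symm.trans (isConj_iff.2 ⟨g, by group⟩)

include h h1 in
omit [IsSimpleGroup G] in
theorem card_centralizer_invol {u : G} (hu : orderOf u = 2) :
    Nat.card (centralizer ({u} : Set G)) = 48 :=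
  (CfsgLib.Invol.card_centralizer_of_isConj (h1 u hu)).trans (card_centralizer_T h)

include h h1 in
omit [IsSimpleGroup G] in
theorem card_inter_invol (P : Subgroup G) (hP : Nat.card P = 27) {u : G} (hu : orderOf u = 2) :
    Nat.card (P ⊓ centralizer ({u} : Set G) : Subgroup G) ∣ 3 := by
  have e1 : Nat.card (P ⊓ centralizer ({u} : Set G) : Subgroup G) ∣ 27 :=
    hP ▸ Subgroup.card_dvd_of_le inf_le_left
  have e2 : Nat.card (P ⊓ centralizer ({u} : Set G) : Subgroup G) ∣ 48 :=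
    card_centralizer_invol h h1 hu ▸ Subgroup.card_dvd_of_le inf_le_right
  exact (Nat.dvd_gcd e1 e2).trans (by norm_num)

include h h1 in
omit [IsSimpleGroup G] in
theorem fixed_cube (P : Subgroup G) (hP : Nat.card P = 27) {u x : G} (hu : orderOf u = 2)
    (hx : x ∈ P) (hc : Commute u x) : x ^ 3 = 1 :=
  orderOf_dvd_iff_pow_eq_one.1 ((Subgroup.orderOf_dvd_natCard _
    (Subgroup.mem_inf.2 ⟨hx, mem_centralizer_singleton_iff.2 hc.eq.symm⟩)).trans
      (card_inter_invol h h1 P hP hu))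

include h hn in
theorem card_centralizer_Z_cases :
    ∃ k : ℕ, 1 ≤ k ∧ k ≤ 3 ∧ Nat.card (centralizer ({ψ qZ} : Set G)) = 2 * 3 ^ k := by
  haveI : Fact (Nat.Prime 2) := ⟨Nat.prime_two⟩
  set C := centralizer ({ψ qZ} : Set G) with hC
  have hd : Nat.card C ∣ 5616 := hn ▸ card_subgroup_dvd_card C
  have hT : ψ qT ∈ C := mem_centralizer_singleton_iff.2 (commute_T h qZ_good).symm
  have h2 : 2 ∣ Nat.card C := orderOf_T h ▸ Subgroup.orderOf_dvd_natCard C hT
  have h3 : 3 ∣ Nat.card C :=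
    Z_order h ▸ Subgroup.orderOf_dvd_natCard C (mem_centralizer_singleton_iff.2 rfl)
  have h13 : ¬ 13 ∣ Nat.card C := by
    intro hd13
    haveI : Fact (Nat.Prime 13) := ⟨by norm_num⟩
    obtain ⟨y, hy⟩ := exists_prime_orderOf_dvd_card' (G := C) 13 hd13
    rw [← Subgroup.orderOf_coe] at hy
    have hmem : ψ qZ ∈ centralizer ({(y : G)} : Set G) :=
      mem_centralizer_singleton_iff.2 (mem_centralizer_singleton_iff.1 y.2).symm
    rw [Cfsg.Agent.S1001.result 13 3 4 (by norm_num) (by rw [hn]; norm_num) _ hy] at hmem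
    have := Subgroup.orderOf_dvd_natCard _ hmem
    rw [Z_order h, Nat.card_zpowers, hy] at this
    norm_num at this
  have h4 : ¬ 4 ∣ Nat.card C := by
    intro hd4
    obtain ⟨K, hK, hle⟩ := Sylow.exists_subgroup_card_pow_prime_le 2 (n := 1) (m := 2)
      (G := C) (by simpa using hd4) (zpowers ⟨ψ qT, hT⟩)
      (by rw [Nat.card_zpowers, ← Subgroup.orderOf_coe, orderOf_T h, pow_one]) (by norm_num)
    have hcomm := (IsPGroup.isMulCommutative_of_card_eq_prime_sq hK).is_comm.comm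
    have hsub : K.map C.subtype ≤ image h cenZ cenZ_good qI_cenZ cenZ_mul cenZ_inv := by
      rintro _ ⟨k, hk, rfl⟩
      have e := congrArg (fun t : K => ((t : C) : G))
        (hcomm ⟨k, hk⟩ ⟨_, hle (mem_zpowers _)⟩)
      obtain ⟨x, hx, hxe⟩ := (h.mem_iff (k : G)).1 e
      refine ⟨x, Finset.mem_filter.2 ⟨hx, h.inj _ (good_mul _ hx _ qZ_good) _
        (good_mul _ qZ_good _ hx) ?_⟩, hxe⟩
      rw [h.map_mul _ hx _ qZ_good, h.map_mul _ qZ_good _ hx, hxe]
      exact mem_centralizer_singleton_iff.1 k.2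
    have := Subgroup.card_dvd_of_le hsub
    rw [card_image, card_cenZ, ← Nat.card_congr (K.equivMapOfInjective _ C.subtype_injective).toEquiv,
      hK] at this
    norm_num at this
  have hlist : ∀ m ∈ Nat.divisors 5616, 2 ∣ m → 3 ∣ m → ¬ 4 ∣ m → ¬ 13 ∣ m →
      m = 6 ∨ m = 18 ∨ m = 54 := by decide +kernel
  rcases hlist _ (Nat.mem_divisors.2 ⟨hd, by norm_num⟩) h2 h3 h4 h13 with e | e | e
  · exact ⟨1, le_rfl, by norm_num, by rw [e]; norm_num⟩
  · exact ⟨2, by norm_num, by norm_num, by rw [e]; norm_num⟩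
  · exact ⟨3, by norm_num, le_rfl, by rw [e]; norm_num⟩

omit [IsSimpleGroup G] in
theorem exists_threePart {z : G} {k : ℕ}
    (hk : Nat.card (centralizer ({z} : Set G)) = 2 * 3 ^ k) :
    ∃ Q0 : Subgroup G, Nat.card Q0 = 3 ^ k ∧ Q0 ≤ centralizer ({z} : Set G) ∧
      ∀ x : G, Commute z x → x ^ 27 = 1 → x ∈ Q0 := by
  haveI : Fact (Nat.Prime 3) := ⟨Nat.prime_three⟩
  set C := centralizer ({z} : Set G) with hC
  obtain ⟨K, hK⟩ := Sylow.exists_subgroup_card_pow_prime (G := C) 3 (n := k)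
    (by rw [hk]; exact Dvd.intro_left _ rfl)
  have hidx : K.index = 2 := by
    have := K.index_mul_card
    rw [hK, hk] at this
    exact Nat.eq_of_mul_eq_mul_right (pow_pos (by norm_num) _) this
  refine ⟨K.map C.subtype, ?_, map_subtype_le K, fun x hx h27 => ?_⟩
  · rw [← Nat.card_congr (K.equivMapOfInjective _ C.subtype_injective).toEquiv, hK]
  · have hxC : x ∈ C := mem_centralizer_singleton_iff.2 hx.symm.eq
    refine ⟨⟨x, hxC⟩, ?_, rfl⟩
    have e : (⟨x, hxC⟩ : C) = (⟨x, hxC⟩ ^ 2) ^ 14 := by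
      rw [← pow_mul]
      refine Subtype.ext ?_
      show x = x ^ (2 * 14)
      rw [show 2 * 14 = 27 + 1 from rfl, pow_succ, h27, one_mul]
    rw [e]
    exact pow_mem (Subgroup.sq_mem_of_index_two hidx _) _

include h h1 hn in
theorem card_centralizer_Z : Nat.card (centralizer ({ψ qZ} : Set G)) = 54 := by
  haveI : Fact (Nat.Prime 3) := ⟨Nat.prime_three⟩
  obtain ⟨k, hk1, hk3, hk⟩ := card_centralizer_Z_cases h hn
  suffices h27 : 27 ∣ Nat.card (centralizer ({ψ qZ} : Set G)) by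
    rw [hk] at h27 ⊢
    interval_cases k <;> norm_num at *
  set Z := ψ qZ with hZdef
  obtain ⟨Q0, hQ0, hQC, huniq⟩ := exists_threePart hk
  have hZ3 : Z ^ 3 = 1 := Z_order h ▸ pow_orderOf_eq_one Z
  have hZQ : Z ∈ Q0 := huniq Z (Commute.refl _)
    (by rw [show 27 = 3 * 9 from rfl, pow_mul, hZ3, one_pow])
  obtain ⟨P, hPle⟩ := (IsPGroup.of_card hQ0 : IsPGroup 3 Q0).exists_le_sylow
  have hP : Nat.card (P : Subgroup G) = 27 := by
    have a1 := (Nat.prime_three.pow_dvd_iff_le_factorization (by norm_num : 5616 ≠ 0)).1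
      (by norm_num : 3 ^ 3 ∣ 5616)
    have a2 := mt (Nat.prime_three.pow_dvd_iff_le_factorization (by norm_num : 5616 ≠ 0)).2
      (by norm_num : ¬ 3 ^ 4 ∣ 5616)
    rw [P.card_eq_multiplicity, hn, show (5616 : ℕ).factorization 3 = 3 by omega]
    norm_num
  by_cases hall : ∀ p ∈ (P : Subgroup G), p * Z = Z * p
  · have hle : (P : Subgroup G) ≤ centralizer ({Z} : Set G) := fun p hp =>
      mem_centralizer_singleton_iff.2 (hall p hp)
    exact hP ▸ Subgroup.card_dvd_of_le hle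
  simp only [not_forall] at hall
  obtain ⟨p, hp, hpZ⟩ := hall
  haveI : Nontrivial (P : Subgroup G) := by
    rw [← Finite.one_lt_card_iff_nontrivial, hP]; norm_num
  have hnc := P.isPGroup'.center_nontrivial
  obtain ⟨m, hm0, hm⟩ :=
    (P.isPGroup'.to_subgroup (Subgroup.center (P : Subgroup G))).nontrivial_iff_card.1 hnc
  obtain ⟨z0, hz0⟩ := exists_prime_orderOf_dvd_card' (G := Subgroup.center (P : Subgroup G)) 3
    (by rw [hm]; exact dvd_pow_self 3 hm0.ne')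
  set z : G := (z0.1 : G) with hzdef
  have hz : orderOf z = 3 := by rw [hzdef, Subgroup.orderOf_coe, Subgroup.orderOf_coe, hz0]
  have hzP : z ∈ (P : Subgroup G) := z0.1.2
  have hcen : ∀ a ∈ (P : Subgroup G), a * z = z * a := fun a ha =>
    congrArg Subtype.val (Subgroup.mem_center_iff.1 z0.2 ⟨a, ha⟩)
  have hz3 : z ^ 3 = 1 := hz ▸ pow_orderOf_eq_one z
  have hz1 : z ≠ 1 := fun e => by rw [e, orderOf_one] at hz; omega
  suffices hconj : IsConj Z z by
    have hle : (P : Subgroup G) ≤ centralizer ({z} : Set G) := fun a ha =>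
      mem_centralizer_singleton_iff.2 (hcen a ha)
    rw [← CfsgLib.Invol.card_centralizer_of_isConj hconj]
    exact hP ▸ Subgroup.card_dvd_of_le hle
  have hZP : Z ∈ (P : Subgroup G) := hPle hZQ
  have hzZ : Commute Z z := hcen Z hZP
  have hzQ : z ∈ Q0 := huniq z hzZ (by rw [show 27 = 3 * 9 from rfl, pow_mul, hz3, one_pow])
  have hpow : ∀ (i j : Fin 3), Z ^ i.1 = z ^ j.1 → i = 0 ∧ j = 0 := by
    intro i j e
    by_cases hi : i = 0
    · refine ⟨hi, Fin.ext ?_⟩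
      subst hi
      simp only [Fin.val_zero, pow_zero] at e
      have := orderOf_dvd_of_pow_eq_one e.symm
      rw [hz] at this
      exact Nat.eq_zero_of_dvd_of_lt this j.2
    · exfalso
      apply hpZ
      have hZe : Z = (z ^ j.1) ^ i.1 := by
        rw [← e, ← pow_mul, pow_eq_pow_mod _ hZ3]
        fin_cases i <;> first | exact absurd rfl hi | simp
      rw [hZe]
      exact ((show Commute p z from hcen p hp).pow_right _).pow_right _
  have hZsq : Z ^ 2 = Z⁻¹ := eq_inv_of_mul_eq_one_left (by rw [← pow_succ, hZ3])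
  have hall2 : ∀ j : ℕ, IsConj Z (Z * z ^ j) := by
    obtain ⟨i, hi⟩ := mem_zpowers_iff.1
      (comm_mem_zpowers_of_card (P : Subgroup G) hP hzP hz hcen hp hZP)
    have hstep : p * Z * p⁻¹ = Z * z ^ i := by
      rw [(hzZ.zpow_right i).eq, hi]; group
    have hne : ¬ (3 : ℤ) ∣ i := fun hd => by
      obtain ⟨d, rfl⟩ := hd
      rw [zpow_mul, zpow_ofNat, hz3, one_zpow, mul_one] at hstep
      exact hpZ (mul_inv_eq_iff_eq_mul.1 hstep)
    have hpz : ∀ n : ℕ, p ^ n * Z * (p ^ n)⁻¹ = Z * z ^ (i * n) := by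
      intro n
      induction n with
      | zero => simp
      | succ n ih =>
        calc p ^ (n + 1) * Z * (p ^ (n + 1))⁻¹ = p * (p ^ n * Z * (p ^ n)⁻¹) * p⁻¹ := by
              rw [pow_succ']; group
          _ = p * Z * p⁻¹ * (p * z ^ (i * n) * p⁻¹) := by rw [ih]; group
          _ = Z * z ^ i * z ^ (i * n) := by
              rw [hstep, ((show Commute p z from hcen p hp).zpow_right _).eq, mul_inv_cancel_right]
          _ = Z * z ^ (i * (n + 1 : ℕ)) := by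
              rw [mul_assoc, ← zpow_add, Nat.cast_succ, mul_add, mul_one, add_comm]
    intro j
    have hex : ∃ n : ℕ, (i * n) % 3 = (j : ℤ) % 3 := by
      have hi3 : i % 3 = 1 ∨ i % 3 = 2 := by omega
      rcases hi3 with hh | hh
      · exact ⟨j, by rw [Int.mul_emod, hh]; simp⟩
      · exact ⟨2 * j, by push_cast; rw [Int.mul_emod, hh]; omega⟩
    obtain ⟨n, hn'⟩ := hex
    refine isConj_iff.2 ⟨p ^ n, ?_⟩
    rw [hpz, ← zpow_natCast z j]
    congr 1
    rw [zpow_eq_zpow_iff_modEq, hz]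
    exact hn'
  have hbij : ∀ e ∈ Q0, ∃ i j : Fin 3, e = Z ^ i.1 * z ^ j.1 := by
    intro e he
    let f : Fin 3 × Fin 3 → Q0 := fun t =>
      ⟨Z ^ t.1.1 * z ^ t.2.1, mul_mem (pow_mem hZQ _) (pow_mem hzQ _)⟩
    have hinj : Function.Injective f := by
      rintro ⟨i, j⟩ ⟨i', j'⟩ et
      have et' : Z ^ i.1 * z ^ j.1 = Z ^ i'.1 * z ^ j'.1 := congrArg Subtype.val et
      have e2 : Z ^ (i - i' : Fin 3).1 = z ^ (j' - j : Fin 3).1 := by
        rw [Fin.val_sub, Fin.val_sub, ← pow_eq_pow_mod _ hZ3, ← pow_eq_pow_mod _ hz3, pow_add,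
          pow_add]
        rw [← mul_right_cancel_iff (a := z ^ j.1), ← mul_right_cancel_iff (a := Z ^ i'.1)]
        have hc : ∀ m n : ℕ, Z ^ m * z ^ n = z ^ n * Z ^ m := fun m n => (hzZ.pow_pow m n).eq
        calc Z ^ (3 - i'.1) * Z ^ i.1 * z ^ j.1 * Z ^ i'.1
            = Z ^ (3 - i'.1) * (Z ^ i.1 * z ^ j.1) * Z ^ i'.1 := by group
          _ = Z ^ (3 - i'.1) * (Z ^ i'.1 * z ^ j'.1) * Z ^ i'.1 := by rw [et']
          _ = (Z ^ (3 - i'.1) * Z ^ i'.1) * z ^ j'.1 * Z ^ i'.1 := by group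
          _ = z ^ j'.1 * Z ^ i'.1 := by
              rw [← pow_add, Nat.sub_add_cancel i'.2.le, hZ3, one_mul]
          _ = (z ^ (3 - j.1) * z ^ j.1) * z ^ j'.1 * Z ^ i'.1 := by
              rw [← pow_add, Nat.sub_add_cancel j.2.le, hz3, one_mul]
          _ = z ^ (3 - j.1) * z ^ j'.1 * z ^ j.1 * Z ^ i'.1 := by
              rw [mul_assoc (z ^ (3 - j.1)) (z ^ j.1), (Commute.pow_pow_self z _ _).eq, ← mul_assoc]
      obtain ⟨a1, a2⟩ := hpow _ _ e2
      exact Prod.ext (sub_eq_zero.1 a1) (sub_eq_zero.1 a2).symm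
    have hk2 : k = 2 := by
      have h9 := Nat.card_le_card_of_injective f hinj
      rw [Nat.card_prod, Nat.card_eq_fintype_card, Fintype.card_fin, hQ0] at h9
      have : k ≠ 3 := by
        rintro rfl
        have : Q0 = (P : Subgroup G) := eq_of_le_of_card_ge hPle (by rw [hP, hQ0]; norm_num)
        exact hpZ (mem_centralizer_singleton_iff.1 (hQC (this ▸ hp)))
      interval_cases k <;> omega
    obtain ⟨⟨i, j⟩, et⟩ := ((Nat.bijective_iff_injective_and_card f).2 ⟨hinj, by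
      rw [hQ0, hk2, Nat.card_prod, Nat.card_eq_fintype_card, Fintype.card_fin]; norm_num⟩).2 ⟨e, he⟩
    exact ⟨i, j, (congrArg Subtype.val et).symm⟩
  have hmem : ∀ (u : G), u * u = 1 → (u * Z * u = Z ∨ u * Z * u = Z⁻¹) → u * z * u ∈ Q0 := by
    intro u hu huZ
    have hu' : u⁻¹ = u := inv_eq_of_mul_eq_one_right hu
    refine huniq _ ?_ ?_
    · have := hzZ.conj u
      rw [hu'] at this
      rcases huZ with e | e <;> rw [e] at this
      · exact this
      · exact Commute.inv_left_iff.1 this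
    · calc (u * z * u) ^ 27 = (u * z * u⁻¹) ^ 27 := by rw [hu']
        _ = 1 := by rw [conj_pow, show 27 = 3 * 9 from rfl, pow_mul, hz3, one_pow]; group
  have hTZ : ψ qT * Z * ψ qT = Z := by
    rw [← commute_T h qZ_good, mul_assoc, T_sq h, mul_one]
  obtain ⟨i, j, hij⟩ := hbij _ (hmem (ψ qT) (T_sq h) (Or.inl hTZ))
  have hconjT : IsConj z (ψ qT * z * ψ qT) := isConj_iff.2 ⟨ψ qT, by rw [T_inv_eq h]⟩
  by_cases hi : i = 0
  swap
  · refine IsConj.trans ?_ hconjT.symm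
    rw [hij]
    fin_cases i
    · exact absurd rfl hi
    · simpa using hall2 j.1
    · refine (isConj_Z_inv h).trans ?_
      obtain ⟨g, hg⟩ := isConj_iff.1 (hall2 (2 * j.1))
      refine isConj_iff.2 ⟨g, ?_⟩
      show g * Z⁻¹ * g⁻¹ = Z ^ 2 * z ^ j.1
      calc g * Z⁻¹ * g⁻¹ = (g * Z * g⁻¹)⁻¹ := by group
        _ = Z⁻¹ * (z ^ (2 * j.1))⁻¹ := by
            rw [hg, mul_inv_rev]; exact ((hzZ.pow_right _).inv_inv).eq.symm
        _ = Z ^ 2 * z ^ j.1 := by
            rw [hZsq]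
            congr 1
            refine inv_eq_of_mul_eq_one_right ?_
            rw [← pow_add, show 2 * j.1 + j.1 = 3 * j.1 by ring, pow_mul, hz3, one_pow]
  subst hi
  simp only [Fin.val_zero, pow_zero, one_mul] at hij
  fin_cases j
  · exfalso
    apply hz1
    simp only [pow_zero] at hij
    calc z = ψ qT * (ψ qT * z * ψ qT) * ψ qT := by
          simp only [← mul_assoc, T_sq h]; simp [mul_assoc, T_sq h]
      _ = 1 := by rw [hij, mul_one, T_sq h]
  · simp only [pow_one] at hij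
    refine isConj_Z_of_invol h h1 hz3 hz1 (orderOf_T h) ?_
    show ψ qT * z = z * ψ qT
    conv_rhs => rw [← hij, mul_assoc, T_sq h, mul_one]
  have hzinv : ψ qT * z * ψ qT = z⁻¹ := by
    rw [hij]
    refine eq_inv_of_mul_eq_one_left ?_
    rw [← pow_succ, hz3]
  obtain ⟨i, j, hij2⟩ := hbij _ (hmem (ψ qS) (S_sq h) (Or.inr (S_conj_Z h)))
  have hf : ψ qT * (ψ qS * z * ψ qS) * ψ qT = (ψ qS * z * ψ qS)⁻¹ := by
    calc ψ qT * (ψ qS * z * ψ qS) * ψ qT = (ψ qT * ψ qS) * z * (ψ qS * ψ qT) := by group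
      _ = (ψ qS * ψ qT) * z * (ψ qT * ψ qS) := by rw [TS_comm h]
      _ = ψ qS * (ψ qT * z * ψ qT) * ψ qS := by group
      _ = _ := by rw [hzinv, mul_inv_rev, mul_inv_rev, S_inv_eq h, mul_assoc]
  have hi0 : i = 0 := by
    rw [hij2] at hf
    have e1 : ψ qT * (Z ^ i.1 * z ^ j.1) * ψ qT = Z ^ i.1 * (z ^ j.1)⁻¹ := by
      calc ψ qT * (Z ^ i.1 * z ^ j.1) * ψ qT
          = (ψ qT * Z ^ i.1 * (ψ qT)⁻¹) * (ψ qT * z ^ j.1 * (ψ qT)⁻¹) * (ψ qT * ψ qT) := by group
        _ = (ψ qT * Z * (ψ qT)⁻¹) ^ i.1 * (ψ qT * z * (ψ qT)⁻¹) ^ j.1 := by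
            rw [conj_pow, conj_pow, T_sq h, mul_one]
        _ = _ := by rw [T_inv_eq h, hTZ, hzinv, inv_pow]
    rw [e1, mul_inv_rev] at hf
    rw [((hzZ.pow_pow i.1 j.1).inv_inv).eq.symm, mul_right_cancel_iff] at hf
    have e2 : Z ^ (i.1 + i.1) = 1 := by
      rw [pow_add]; nth_rewrite 1 [hf]; exact inv_mul_cancel _
    have h6 := orderOf_dvd_of_pow_eq_one e2
    rw [Z_order h] at h6
    exact Fin.ext (by have := i.2; simp only [Fin.val_zero]; omega)
  subst hi0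
  simp only [Fin.val_zero, pow_zero, one_mul] at hij2
  fin_cases j
  · exfalso
    apply hz1
    simp only [pow_zero] at hij2
    calc z = ψ qS * (ψ qS * z * ψ qS) * ψ qS := by
          simp only [← mul_assoc, S_sq h]; simp [mul_assoc, S_sq h]
      _ = 1 := by rw [hij2, mul_one, S_sq h]
  · simp only [pow_one] at hij2
    refine isConj_Z_of_invol h h1 hz3 hz1 (orderOf_S h) ?_
    show ψ qS * z = z * ψ qS
    conv_rhs => rw [← hij2, mul_assoc, S_sq h, mul_one]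
  · refine isConj_Z_of_invol h h1 hz3 hz1 (orderOf_TS h) ?_
    show ψ qT * ψ qS * z = z * (ψ qT * ψ qS)
    have hz2 : z ^ 2 = z⁻¹ := eq_inv_of_mul_eq_one_left (by rw [← pow_succ, hz3])
    simp only [hz2] at hij2
    calc ψ qT * ψ qS * z = ψ qT * (ψ qS * z * ψ qS) * (ψ qS)⁻¹ := by group
      _ = (ψ qT * z * ψ qT)⁻¹ * (ψ qT * ψ qS) := by
          rw [hij2, S_inv_eq h]
          simp only [mul_inv_rev, T_inv_eq h, mul_assoc]
          rw [← mul_assoc (ψ qT) (ψ qT), T_sq h, one_mul]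
      _ = z * (ψ qT * ψ qS) := by rw [hzinv, inv_inv]

include h h1 hn in
/-- The Sylow subgroup centralizing the root element. -/
theorem exists_P : ∃ P : Subgroup G, Nat.card P = 27 ∧ (∀ x ∈ P, Commute (ψ qZ) x) ∧
    ∀ x : G, Commute (ψ qZ) x → x ^ 27 = 1 → x ∈ P := by
  obtain ⟨P, hP, hle, hu⟩ := exists_threePart (k := 3)
    (by rw [card_centralizer_Z h h1 hn]; norm_num : Nat.card (centralizer ({ψ qZ} : Set G)) = 2 * 3 ^ 3)
  exact ⟨P, by rw [hP]; norm_num, fun x hx => (mem_centralizer_singleton_iff.1 (hle hx)).symm, hu⟩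

include h h1 hn in
theorem comm_mem {x a b : G} (hx : IsConj (ψ qZ) x) (ha : a ^ 3 = 1) (hb : b ^ 3 = 1)
    (hxa : Commute x a) (hxb : Commute x b) : a * b * a⁻¹ * b⁻¹ ∈ zpowers x := by
  obtain ⟨g, rfl⟩ := isConj_iff.1 hx
  obtain ⟨P, hP, hPc, hu⟩ := exists_P h h1 hn
  have key : ∀ c : G, c ^ 3 = 1 → Commute (g * ψ qZ * g⁻¹) c → g⁻¹ * c * g ∈ P := by
    intro c hc hxc
    refine hu _ ?_ ?_
    · have := hxc.conj g⁻¹
      rwa [inv_inv, show g⁻¹ * (g * ψ qZ * g⁻¹) * g = ψ qZ by group] at this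
    · have e : (g⁻¹ * c * g) ^ 27 = g⁻¹ * c ^ 27 * g := by
        simpa using (conj_pow (i := 27) (a := g⁻¹) (b := c))
      rw [e, show 27 = 3 * 9 from rfl, pow_mul, hc, one_pow]; group
  have hZP : ψ qZ ∈ P := hu _ (Commute.refl _) (by
    rw [show 27 = 3 * 9 from rfl, pow_mul, ← Z_order h, pow_orderOf_eq_one, one_pow])
  obtain ⟨i, hi⟩ := mem_zpowers_iff.1 (comm_mem_zpowers_of_card P hP hZP (Z_order h)
    (fun c hc => (hPc c hc).symm.eq) (key a ha hxa) (key b hb hxb))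
  refine mem_zpowers_iff.2 ⟨i, ?_⟩
  rw [conj_zpow, hi]; group

end CfsgLib.GLTwoThree
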