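import Mathlib
import Cfsg.Agent.Lib.GLTwoThree.ThreeCentral
import Cfsg.Agent.Lib.GLTwoThree.SLThree

/-!
# The root elements in a group of order `5616` with centralizer `GL(2,3)`
-/

set_option autoImplicit false

namespace CfsgLib.GLTwoThree

open Subgroup

universe u

variable {G : Type u} [Group G] [Finite G] [IsSimpleGroup G] {ψ : Q → G}
  (h : Loc ψ) (h1 : OneClass ψ) (hn : Nat.card G = 5616)

include h h1 in
omit [IsSimpleGroup G] in
theorem exists_fixed_in (P : Subgroup G) (hP : Nat.card P = 27) {u v : G} (hu : orderOf u = 2)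
    (hv : v * v = 1) (huv : u * v = v * u) (hw : orderOf (u * v) = 2)
    (hPu : ∀ x ∈ P, u * x * u ∈ P) (hPv : ∀ x ∈ P, v * x * v ∈ P) :
    ∃ x ∈ P, x ≠ 1 ∧ x ^ 3 = 1 ∧ Commute v x := by
  classical
  haveI := Fintype.ofFinite G
  have hvi : v⁻¹ = v := inv_eq_of_mul_eq_one_right hv
  have huu : u * u = 1 := by rw [← pow_two, ← hu, pow_orderOf_eq_one]
  have hui : u⁻¹ = u := inv_eq_of_mul_eq_one_right huu
  by_contra hno
  simp only [not_exists, not_and] at hno
  have hvo : ∀ x ∈ P, Commute v x → x = 1 := by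
    intro x hx hc
    by_contra hx1
    have h27 : x ^ 27 = 1 := orderOf_dvd_iff_pow_eq_one.1 (hP ▸ Subgroup.orderOf_dvd_natCard P hx)
    by_cases h9 : x ^ 9 = 1
    · by_cases h3 : x ^ 3 = 1
      · exact hno x hx hx1 h3 hc
      · exact hno _ (pow_mem hx 3) h3 (by rw [← pow_mul]; exact h9) (hc.pow_right 3)
    · exact hno _ (pow_mem hx 9) h9 (by rw [← pow_mul]; exact h27) (hc.pow_right 9)
  let φ : P →* P :=
    { toFun := fun x => ⟨v * x.1 * v, hPv _ x.2⟩
      map_one' := Subtype.ext (by simp [hv])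
      map_mul' := fun a b => Subtype.ext (by
        show v * (a.1 * b.1) * v = v * a.1 * v * (v * b.1 * v)
        calc v * (a.1 * b.1) * v = v * a.1 * 1 * b.1 * v := by group
          _ = v * a.1 * (v * v) * b.1 * v := by rw [hv]
          _ = _ := by group) }
  have hfpf : MonoidHom.FixedPointFree φ := by
    intro x hx
    refine Subtype.ext (hvo _ x.2 ?_)
    have e : v * x.1 * v = x.1 := congrArg Subtype.val hx
    show v * x.1 = x.1 * v
    conv_rhs => rw [← e, mul_assoc _ v v, hv, mul_one]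
  have hinv : Function.Involutive φ := fun x => Subtype.ext (by
    show v * (v * x.1 * v) * v = x.1
    calc v * (v * x.1 * v) * v = (v * v) * x.1 * (v * v) := by group
      _ = _ := by rw [hv]; group)
  have hneg : ∀ x ∈ P, v * x * v = x⁻¹ := fun x hx =>
    congrArg Subtype.val (congrFun (hfpf.coe_eq_inv_of_involutive hinv) ⟨x, hx⟩)
  let s : Finset G := Finset.univ.filter fun x => x ∈ P
  let f : G → G := fun x => x⁻¹ * (u * x * u)
  have hs : s.card = 27 := by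
    rw [← hP, Nat.card_eq_fintype_card]
    exact (Fintype.card_subtype (fun x => x ∈ P)).symm
  have hle3 : ∀ w : G, orderOf w = 2 →
      (Finset.univ.filter fun x => x ∈ P ∧ w * x = x * w).card ≤ 3 := by
    intro w hwo
    refine le_of_eq_of_le ?_ (Nat.le_of_dvd (by norm_num) (card_inter_invol h h1 P hP hwo))
    rw [Nat.card_eq_fintype_card]
    refine ((Fintype.card_subtype _).trans ?_).symm
    refine congrArg Finset.card (Finset.filter_congr fun x _ => ?_)
    rw [Subgroup.mem_inf, mem_centralizer_singleton_iff]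
    exact and_congr_right fun _ => eq_comm
  have hfib : ∀ b ∈ s.image f, (s.filter fun a => f a = b).card ≤ 3 := by
    intro b hb
    obtain ⟨a0, ha0, rfl⟩ := Finset.mem_image.1 hb
    refine le_trans ?_ (hle3 u hu)
    refine Finset.card_le_card_of_injOn (fun a => a * a0⁻¹) ?_ (fun _ _ _ _ e => mul_right_cancel e)
    intro a ha
    simp only [Finset.coe_filter, Set.mem_setOf_eq, s, Finset.mem_filter, Finset.mem_univ,
      true_and] at ha ha0 ⊢
    refine ⟨mul_mem ha.1 (inv_mem ha0), ?_⟩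
    have e : u * a * u = a * a0⁻¹ * (u * a0 * u) := by
      have e' : a⁻¹ * (u * a * u) = a0⁻¹ * (u * a0 * u) := ha.2
      calc u * a * u = a * (a⁻¹ * (u * a * u)) := by group
        _ = _ := by rw [e']; group
    calc u * (a * a0⁻¹) = (u * a * u) * (u⁻¹ * a0⁻¹) := by group
      _ = a * a0⁻¹ * (u * a0) * (u * u⁻¹) * a0⁻¹ := by rw [e]; group
      _ = a * a0⁻¹ * u := by group
  have himg : (s.image f).card ≤ 3 := by
    refine le_trans (Finset.card_le_card ?_) (hle3 (u * v) hw)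
    intro b hb
    obtain ⟨a, ha, rfl⟩ := Finset.mem_image.1 hb
    simp only [s, Finset.mem_filter, Finset.mem_univ, true_and] at ha ⊢
    have hf : f a ∈ P := mul_mem (inv_mem ha) (hPu _ ha)
    refine ⟨hf, ?_⟩
    have hfu : u * f a * u = (f a)⁻¹ := by
      show u * (a⁻¹ * (u * a * u)) * u = (a⁻¹ * (u * a * u))⁻¹
      calc u * (a⁻¹ * (u * a * u)) * u = u * a⁻¹ * u * a * (u * u) := by group
        _ = u⁻¹ * a⁻¹ * u⁻¹ * a := by rw [huu, hui, mul_one]
        _ = _ := by group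
    have hfv := hneg _ hf
    calc u * v * f a = u * (v * f a * v) * v := by
          simp only [mul_assoc]; rw [hv, mul_one]
      _ = u * (f a)⁻¹ * v := by rw [hfv]
      _ = u * (u * f a * u) * v := by rw [hfu]
      _ = f a * (u * v) := by rw [← mul_assoc u, ← mul_assoc u, huu, one_mul, mul_assoc]
  have := Finset.card_le_mul_card_image s 3 hfib
  omega

include h h1 in
omit [IsSimpleGroup G] in
theorem exists_rotation : ∃ c : G, c ^ 3 = 1 ∧ c * ψ qT * c⁻¹ = ψ qS ∧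
    c * ψ qS * c⁻¹ = ψ qT * ψ qS ∧ c * (ψ qT * ψ qS) * c⁻¹ = ψ qT := by
  obtain ⟨g, hg⟩ := isConj_iff.1 (h1 (ψ qS) (orderOf_S h))
  set y := g⁻¹ * (ψ qT * ψ qS) * g with hy
  have hTS : ψ qS * (ψ qT * ψ qS) = (ψ qT * ψ qS) * ψ qS := by
    calc ψ qS * (ψ qT * ψ qS) = (ψ qS * ψ qT) * ψ qS := by group
      _ = (ψ qT * ψ qS) * ψ qS := by rw [TS_comm h]
  have hyT : y * ψ qT = ψ qT * y := by
    calc y * ψ qT = g⁻¹ * ((ψ qT * ψ qS) * (g * ψ qT * g⁻¹)) * g := by rw [hy]; group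
      _ = g⁻¹ * ((g * ψ qT * g⁻¹) * (ψ qT * ψ qS)) * g := by rw [hg, hTS]
      _ = ψ qT * y := by rw [hy]; group
  obtain ⟨x, hx, hxe⟩ := (h.mem_iff y).1 hyT
  have hxx : qmul x x = qI := psi_eq_one h (good_mul _ hx _ hx) (by
    rw [h.map_mul _ hx _ hx, hxe, hy]
    calc _ = g⁻¹ * ((ψ qT * ψ qS) * (ψ qT * ψ qS)) * g := by group
      _ = 1 := by rw [TS_sq h]; group)
  have hcls : cls x = 2 := by
    rcases invol_cases x hx hxx with e | e | e
    · exfalso
      rw [e, map_I h, hy] at hxe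
      apply TS_ne h
      calc ψ qT * ψ qS = g * (g⁻¹ * (ψ qT * ψ qS) * g) * g⁻¹ := by group
        _ = 1 := by rw [← hxe]; group
    · exfalso
      rw [e, hy] at hxe
      apply T_ne h
      have : ψ qT * ψ qS = ψ qS := by
        calc ψ qT * ψ qS = g * (g⁻¹ * (ψ qT * ψ qS) * g) * g⁻¹ := by group
          _ = g * ψ qT * g⁻¹ := by rw [← hxe]
          _ = ψ qS := hg
      exact mul_eq_right.1 this
    · exact e
  obtain ⟨k, hk, hke⟩ := refl_conj x hx hcls
  set c := g * ψ k with hc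
  have e1 : c * ψ qT * c⁻¹ = ψ qS := by
    calc c * ψ qT * c⁻¹ = g * (ψ k * ψ qT) * (ψ k)⁻¹ * g⁻¹ := by rw [hc]; group
      _ = g * ψ qT * g⁻¹ := by rw [commute_T h hk]; group
      _ = ψ qS := hg
  have e2 : c * ψ qS * c⁻¹ = ψ qT * ψ qS := by
    calc c * ψ qS * c⁻¹ = g * (ψ k * ψ qS) * (ψ k)⁻¹ * g⁻¹ := by rw [hc]; group
      _ = g * (y * ψ k) * (ψ k)⁻¹ * g⁻¹ := by
          rw [← h.map_mul _ hk _ qS_good, hke, h.map_mul _ hx _ hk, hxe]
      _ = ψ qT * ψ qS := by rw [hy]; group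
  have e3 : c * (ψ qT * ψ qS) * c⁻¹ = ψ qT := by
    calc c * (ψ qT * ψ qS) * c⁻¹ = (c * ψ qT * c⁻¹) * (c * ψ qS * c⁻¹) := by group
      _ = ψ qS * (ψ qT * ψ qS) := by rw [e1, e2]
      _ = ψ qT * (ψ qS * ψ qS) := by rw [← mul_assoc, ← TS_comm h, mul_assoc]
      _ = ψ qT := by rw [S_sq h, mul_one]
  refine ⟨c, ?_, e1, e2, e3⟩
  have f1 : c ^ 3 * ψ qT * (c ^ 3)⁻¹ = ψ qT := by
    calc c ^ 3 * ψ qT * (c ^ 3)⁻¹ = c * (c * (c * ψ qT * c⁻¹) * c⁻¹) * c⁻¹ := by
          rw [pow_succ, pow_two]; group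
      _ = ψ qT := by rw [e1, e2, e3]
  obtain ⟨z, hz, hze⟩ := (h.mem_iff (c ^ 3)).1 (mul_inv_eq_iff_eq_mul.1 f1)
  have f2 : c ^ 3 * ψ qS * (c ^ 3)⁻¹ = ψ qS := by
    calc c ^ 3 * ψ qS * (c ^ 3)⁻¹ = c * (c * (c * ψ qS * c⁻¹) * c⁻¹) * c⁻¹ := by
          rw [pow_succ, pow_two]; group
      _ = ψ qS := by rw [e2, e3, e1]
  have hcomm : qmul z qS = qmul qS z := h.inj _ (good_mul _ hz _ qS_good) _
    (good_mul _ qS_good _ hz) (by
      rw [h.map_mul _ hz _ qS_good, h.map_mul _ qS_good _ hz, hze]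
      exact mul_inv_eq_iff_eq_mul.1 f2)
  have hdiag : ∀ q ∈ good, qmul q qS = qmul qS q →
      q = qI ∨ q = qT ∨ q = qS ∨ q = qmul qT qS := by decide +kernel
  have hfix : c * ψ z * c⁻¹ = ψ z := by rw [hze]; group
  rcases hdiag z hz hcomm with e | e | e | e <;> rw [e] at hze hfix
  · rw [← hze, map_I h]
  · rw [e1] at hfix
    exact absurd (h.inj _ qS_good _ qT_good hfix) (by decide)
  · rw [e2, ← h.map_mul _ qT_good _ qS_good] at hfix
    exact absurd (h.inj _ (good_mul _ qT_good _ qS_good) _ qS_good hfix) (by decide)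
  · rw [h.map_mul _ qT_good _ qS_good, e3, ← h.map_mul _ qT_good _ qS_good] at hfix
    exact absurd (h.inj _ qT_good _ (good_mul _ qT_good _ qS_good) hfix) (by decide)

include h hn in
omit [IsSimpleGroup G] in
/-- A root element does not commute with its image under the rotation. -/
theorem not_commute_rot {c x : G} (hc3 : c ^ 3 = 1) (hT : c * ψ qT * c⁻¹ = ψ qS)
    (hS : c * ψ qS * c⁻¹ = ψ qT * ψ qS) (hx3 : x ^ 3 = 1) (hx1 : x ≠ 1) (hxT : Commute (ψ qT) x)
    (hxS : ψ qS * x * ψ qS = x⁻¹) : ¬ Commute x (c * x * c⁻¹) := by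
  intro hcx
  haveI : Fact (Nat.Prime 3) := ⟨Nat.prime_three⟩
  have hTx : ψ qT * x * ψ qT = x := by rw [hxT.eq, mul_assoc, T_sq h, mul_one]
  set a := c * x * c⁻¹ with ha
  set b := c * a * c⁻¹ with hb
  have hbc : c * b * c⁻¹ = x := by
    calc c * b * c⁻¹ = (c * c * c) * x * (c * c * c)⁻¹ := by rw [hb, ha]; group
      _ = x := by rw [← pow_two, ← pow_succ, hc3]; group
  have hab : Commute a b := hcx.conj c
  have hbx : Commute b x := by have := hab.conj c; rwa [← hb, hbc] at this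
  have ha3 : a ^ 3 = 1 := by rw [ha, conj_pow, hx3]; group
  have hb3 : b ^ 3 = 1 := by rw [hb, conj_pow, ha3]; group
  have conjc : ∀ u y : G, u * u = 1 → c * u * c⁻¹ * (c * y * c⁻¹) * (c * u * c⁻¹)
      = c * (u * y * u) * c⁻¹ := fun u y _ => by group
  have hTS_x : ψ qT * ψ qS * x * (ψ qT * ψ qS) = x⁻¹ := by
    calc ψ qT * ψ qS * x * (ψ qT * ψ qS) = ψ qT * ψ qS * x * (ψ qS * ψ qT) := by rw [TS_comm h]
      _ = ψ qT * (ψ qS * x * ψ qS) * ψ qT := by group
      _ = (ψ qT * x * ψ qT)⁻¹ := by rw [hxS, mul_inv_rev, mul_inv_rev, T_inv_eq h, mul_assoc]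
      _ = x⁻¹ := by rw [hTx]
  have hTSc : c * (ψ qT * ψ qS) * c⁻¹ = ψ qT := by
    calc c * (ψ qT * ψ qS) * c⁻¹ = (c * ψ qT * c⁻¹) * (c * ψ qS * c⁻¹) := by group
      _ = ψ qS * (ψ qT * ψ qS) := by rw [hT, hS]
      _ = ψ qT * (ψ qS * ψ qS) := by rw [← mul_assoc, ← TS_comm h, mul_assoc]
      _ = ψ qT := by rw [S_sq h, mul_one]
  have hTa : ψ qT * a * ψ qT = a⁻¹ := by
    conv_lhs => rw [← hTSc, ha, conjc _ _ (TS_sq h), hTS_x]
    rw [ha]; group
  have hSa : ψ qS * a * ψ qS = a := by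
    conv_lhs => rw [← hT, ha, conjc _ _ (T_sq h), hTx]
  have hTSa : ψ qT * ψ qS * a * (ψ qT * ψ qS) = a⁻¹ := by
    conv_lhs => rw [← hS, ha, conjc _ _ (S_sq h), hxS]
    rw [ha]; group
  have hTb : ψ qT * b * ψ qT = b⁻¹ := by
    conv_lhs => rw [← hTSc, hb, conjc _ _ (TS_sq h), hTSa]
    rw [hb]; group
  have hSb : ψ qS * b * ψ qS = b⁻¹ := by
    conv_lhs => rw [← hT, hb, conjc _ _ (T_sq h), hTa]
    rw [hb]; group
  -- the subgroup they generate
  let f : Fin 3 × Fin 3 × Fin 3 → G := fun t => x ^ t.1.1 * a ^ t.2.1.1 * b ^ t.2.2.1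
  let A : Subgroup G := zpowers x ⊔ zpowers a ⊔ zpowers b
  have hxa' : x ∈ A := (le_sup_left.trans le_sup_left : zpowers x ≤ A) (mem_zpowers x)
  have haA : a ∈ A := (le_sup_right.trans le_sup_left : zpowers a ≤ A) (mem_zpowers a)
  have hbA : b ∈ A := (le_sup_right : zpowers b ≤ A) (mem_zpowers b)
  have pg : ∀ y : G, y ^ 3 = 1 → IsPGroup 3 (zpowers y) := by
    intro y hy
    obtain ⟨k, -, hk⟩ := (Nat.dvd_prime_pow Nat.prime_three).1
      (show orderOf y ∣ 3 ^ 1 by simpa using orderOf_dvd_of_pow_eq_one hy)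
    exact IsPGroup.of_card (n := k) (by rw [Nat.card_zpowers, hk])
  have nrm : ∀ (H : Subgroup G) (y : G), (∀ w ∈ H, y * w = w * y) →
      zpowers y ≤ normalizer (H : Set G) := by
    intro H y hy
    rw [zpowers_le]
    exact centralizer_le_normalizer _ (mem_centralizer_iff.2 fun w hw => (hy w hw).symm)
  have hxc : ∀ w ∈ zpowers x, a * w = w * a := fun w hw => by
    obtain ⟨i, rfl⟩ := mem_zpowers_iff.1 hw
    exact (hcx.symm.zpow_right i).eq
  have hxac : ∀ w ∈ zpowers x ⊔ zpowers a, b * w = w * b := by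
    have hle : zpowers x ⊔ zpowers a ≤ centralizer ({b} : Set G) := sup_le
      (zpowers_le.2 (mem_centralizer_singleton_iff.2 hbx.eq.symm))
      (zpowers_le.2 (mem_centralizer_singleton_iff.2 hab.eq))
    exact fun w hw => (mem_centralizer_singleton_iff.1 (hle hw)).symm
  have hA : IsPGroup 3 A := IsPGroup.to_sup_of_normal_left'
    (IsPGroup.to_sup_of_normal_left' (pg x hx3) (pg a ha3) (nrm _ a hxc)) (pg b hb3) (nrm _ b hxac)
  have hcN : zpowers c ≤ normalizer (A : Set G) := by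
    rw [zpowers_le]
    have hmap : A.map (MulAut.conj c).toMonoidHom ≤ A := by
      rw [Subgroup.map_sup, Subgroup.map_sup, MonoidHom.map_zpowers, MonoidHom.map_zpowers,
        MonoidHom.map_zpowers]
      refine sup_le (sup_le (zpowers_le.2 ?_) (zpowers_le.2 ?_)) (zpowers_le.2 ?_) <;>
        simp only [MulEquiv.coe_toMonoidHom, MulAut.conj_apply]
      · exact haA
      · exact hbA
      · rw [hbc]; exact hxa'
    have heq : A.map (MulAut.conj c).toMonoidHom = A := eq_of_le_of_card_ge hmap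
      (by rw [Nat.card_congr (A.equivMapOfInjective _ (MulAut.conj c).injective).toEquiv.symm])
    rw [mem_normalizer_iff]
    intro y
    constructor
    · intro hy; rw [← heq]; exact ⟨y, hy, rfl⟩
    · intro hy
      rw [← heq] at hy
      obtain ⟨w, hw, hwe⟩ := hy
      rwa [(MulAut.conj c).injective hwe] at hw
  have hH : IsPGroup 3 (A ⊔ zpowers c : Subgroup G) :=
    IsPGroup.to_sup_of_normal_left' hA (pg c hc3) hcN
  obtain ⟨m, hm⟩ := IsPGroup.iff_card.1 hH
  have hm3 : m ≤ 3 := by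
    by_contra hlt
    have hd : 3 ^ m ∣ 5616 := hn ▸ hm ▸ card_subgroup_dvd_card (A ⊔ zpowers c)
    have : 3 ^ 4 ∣ 5616 := (pow_dvd_pow 3 (by omega)).trans hd
    norm_num at this
  have hfA : ∀ t, f t ∈ A := fun t =>
    mul_mem (mul_mem (pow_mem hxa' _) (pow_mem haA _)) (pow_mem hbA _)
  have hker : ∀ i j k : Fin 3, x ^ i.1 * a ^ j.1 * b ^ k.1 = 1 → i = 0 ∧ j = 0 ∧ k = 0 := by
    intro i j k e
    have hconj : ∀ u : G, u * u = 1 → (u * x * u) ^ i.1 * (u * a * u) ^ j.1 * (u * b * u) ^ k.1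
        = 1 := by
      intro u hu
      have hui : u⁻¹ = u := inv_eq_of_mul_eq_one_right hu
      calc (u * x * u) ^ i.1 * (u * a * u) ^ j.1 * (u * b * u) ^ k.1
          = (u * x * u⁻¹) ^ i.1 * (u * a * u⁻¹) ^ j.1 * (u * b * u⁻¹) ^ k.1 := by rw [hui]
        _ = u * (x ^ i.1 * a ^ j.1 * b ^ k.1) * u⁻¹ := by
            have hcp : ∀ (y : G) (n : ℕ), (u * y * u⁻¹) ^ n = u * y ^ n * u⁻¹ := fun y n => conj_pow
            rw [hcp, hcp, hcp]; group
        _ = 1 := by rw [e]; group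
    have e1 := hconj _ (T_sq h)
    rw [hTx, hTa, hTb] at e1
    have e2 := hconj _ (S_sq h)
    rw [hxS, hSa, hSb] at e2
    have key : ∀ (p q r : G), p * q * r = 1 → p * q⁻¹ * r⁻¹ = 1 → Commute q r → p * p = 1 := by
      intro p q r h' h'' hqr
      have hp : p = r⁻¹ * q⁻¹ := by
        rw [← mul_inv_rev]; exact eq_inv_of_mul_eq_one_left (by rw [← mul_assoc]; exact h')
      have hp' : p = r * q := by
        have : p * (q⁻¹ * r⁻¹) = 1 := by rw [← mul_assoc]; exact h''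
        rw [← mul_inv_rev] at this
        exact (mul_inv_eq_one.1 this)
      calc p * p = (r⁻¹ * q⁻¹) * (r * q) := by rw [← hp, ← hp']
        _ = (q * r)⁻¹ * (r * q) := by rw [mul_inv_rev]
        _ = 1 := by rw [hqr.eq]; group
    have sq_one : ∀ (y : G) (l : Fin 3), y ^ 3 = 1 → y ≠ 1 → y ^ l.1 * y ^ l.1 = 1 → l = 0 := by
      intro y l hy hy1 hl
      haveI : Fact (Nat.Prime 3) := ⟨Nat.prime_three⟩
      have := orderOf_dvd_of_pow_eq_one (by rw [pow_add]; exact hl : y ^ (l.1 + l.1) = 1)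
      rw [orderOf_eq_prime hy hy1] at this
      exact Fin.ext (by have := l.2; simp only [Fin.val_zero]; omega)
    have ha1 : a ≠ 1 := fun e => hx1 (by rw [ha] at e; exact conj_eq_one_iff.1 e)
    have hb1 : b ≠ 1 := fun e => ha1 (by rw [hb] at e; exact conj_eq_one_iff.1 e)
    have hi : i = 0 := sq_one x i hx3 hx1
      (key _ _ _ e (by simpa [inv_pow] using e1) (hab.pow_pow _ _))
    subst hi
    simp only [Fin.val_zero, pow_zero, one_mul] at e e2
    have hj : j = 0 := sq_one a j ha3 ha1 (by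
      have := key (a ^ j.1) (b ^ k.1) 1 (by rw [mul_one]; exact e)
        (by rw [inv_one, mul_one, ← inv_pow]; exact e2) (Commute.one_right _)
      exact this)
    subst hj
    simp only [Fin.val_zero, pow_zero, one_mul] at e
    have := orderOf_dvd_of_pow_eq_one e
    rw [orderOf_eq_prime hb3 hb1] at this
    exact ⟨rfl, rfl, Fin.ext (Nat.eq_zero_of_dvd_of_lt this k.2)⟩
  have hinj : Function.Injective (fun t => (⟨f t, hfA t⟩ : A)) := by
    rintro ⟨i, j, k⟩ ⟨i', j', k'⟩ et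
    have et' : x ^ i.1 * a ^ j.1 * b ^ k.1 = x ^ i'.1 * a ^ j'.1 * b ^ k'.1 :=
      congrArg Subtype.val et
    have hsub : ∀ (y : G) (l l' : Fin 3), y ^ 3 = 1 → y ^ (l - l').1 = y ^ l.1 * (y ^ l'.1)⁻¹ := by
      intro y l l' hy
      rw [eq_mul_inv_iff_mul_eq, ← pow_add, pow_eq_pow_mod _ hy, Fin.val_sub]
      refine Eq.trans ?_ (pow_eq_pow_mod _ hy).symm
      congr 1
      omega
    obtain ⟨r1, r2, r3⟩ := hker (i - i') (j - j') (k - k') (by
      rw [hsub x i i' hx3, hsub a j j' ha3, hsub b k k' hb3]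
      have c1 : Commute ((x ^ i'.1)⁻¹) (a ^ j.1) := (hcx.pow_pow _ _).inv_left
      have c2 : Commute ((x ^ i'.1)⁻¹ * (a ^ j'.1)⁻¹) (b ^ k.1) :=
        ((hbx.symm.pow_pow _ _).inv_left).mul_left ((hab.pow_pow _ _).inv_left)
      calc x ^ i.1 * (x ^ i'.1)⁻¹ * (a ^ j.1 * (a ^ j'.1)⁻¹) * (b ^ k.1 * (b ^ k'.1)⁻¹)
          = x ^ i.1 * ((x ^ i'.1)⁻¹ * a ^ j.1) * ((a ^ j'.1)⁻¹ * b ^ k.1) * (b ^ k'.1)⁻¹ := by
            group
        _ = x ^ i.1 * a ^ j.1 * (((x ^ i'.1)⁻¹ * (a ^ j'.1)⁻¹) * b ^ k.1) * (b ^ k'.1)⁻¹ := by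
            rw [c1.eq]; group
        _ = (x ^ i.1 * a ^ j.1 * b ^ k.1) * ((x ^ i'.1)⁻¹ * (a ^ j'.1)⁻¹ * (b ^ k'.1)⁻¹) := by
            rw [c2.eq]; group
        _ = 1 := by
            rw [et']
            calc _ = x ^ i'.1 * a ^ j'.1 * (b ^ k'.1 * ((x ^ i'.1)⁻¹ * (a ^ j'.1)⁻¹))
                  * (b ^ k'.1)⁻¹ := by group
              _ = x ^ i'.1 * (a ^ j'.1 * (x ^ i'.1)⁻¹) * (a ^ j'.1)⁻¹ := by
                  rw [← (((hbx.symm.pow_pow _ _).inv_left).mul_left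
                    ((hab.pow_pow _ _).inv_left)).eq]
                  group
              _ = 1 := by rw [← ((hcx.pow_pow _ _).inv_left).eq]; group)
    rw [sub_eq_zero] at r1 r2 r3
    rw [r1, r2, r3]
  have h27 : 27 ≤ Nat.card A := by
    have := Nat.card_le_card_of_injective _ hinj
    simpa using this
  have hle : Nat.card (A ⊔ zpowers c : Subgroup G) ≤ Nat.card A := by
    rw [hm]
    exact le_trans (Nat.pow_le_pow_right (by norm_num) hm3) (by norm_num; exact h27)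
  have hcA : c ∈ A := by
    rw [eq_of_le_of_card_ge (le_sup_left : A ≤ A ⊔ zpowers c) hle]
    exact (le_sup_right : zpowers c ≤ A ⊔ zpowers c) (mem_zpowers c)
  have hAx : A ≤ centralizer ({x} : Set G) := sup_le (sup_le
    (zpowers_le.2 (mem_centralizer_singleton_iff.2 rfl))
    (zpowers_le.2 (mem_centralizer_singleton_iff.2 hcx.eq.symm)))
    (zpowers_le.2 (mem_centralizer_singleton_iff.2 hbx.eq))
  have hax : a = x := by rw [ha, mem_centralizer_singleton_iff.1 (hAx hcA), mul_inv_cancel_right]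
  rw [hax, hTx] at hTa
  have h2 : x ^ 2 = 1 := by rw [pow_two]; nth_rewrite 1 [hTa]; exact inv_mul_cancel x
  apply hx1
  calc x = x ^ 3 * (x ^ 2)⁻¹ := by group
    _ = 1 := by rw [hx3, h2]; group

end CfsgLib.GLTwoThree
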