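import Mathlib
import Cfsg.Agent.Lib.GLTwoThree.Roots

/-!
# A group of order `5616` with centralizer `GL(2,3)` is `SL(3,3)`
-/

set_option autoImplicit false

namespace CfsgLib.GLTwoThree

open Subgroup

universe u

variable {G : Type u} [Group G] {ψ : Q → G}

theorem zpowers_three_cases {x y : G} (hx : x ^ 3 = 1) (hy : y ∈ zpowers x) :
    y = 1 ∨ y = x ∨ y = x⁻¹ := by
  obtain ⟨i, rfl⟩ := mem_zpowers_iff.1 hy
  have e : i = 3 * (i / 3) + i % 3 := (Int.mul_ediv_add_emod i 3).symm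
  have h3 : x ^ i = x ^ (i % 3) := by
    conv_lhs => rw [e]
    rw [zpow_add, zpow_mul, zpow_ofNat, hx, one_zpow, one_mul]
  rw [h3]
  have hm : i % 3 = 0 ∨ i % 3 = 1 ∨ i % 3 = 2 := by omega
  rcases hm with e | e | e <;> rw [e]
  · exact Or.inl (zpow_zero x)
  · exact Or.inr (Or.inl (zpow_one x))
  · refine Or.inr (Or.inr (eq_inv_of_mul_eq_one_left ?_))
    rw [show (2 : ℤ) = ((2 : ℕ) : ℤ) from rfl, zpow_natCast, ← pow_succ, hx]

variable [Finite G] [IsSimpleGroup G] (h : Loc ψ) (h1 : OneClass ψ) (hn : Nat.card G = 5616)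

include h in
omit [Finite G] [IsSimpleGroup G] in
theorem eq_root {x : G} (hx3 : x ^ 3 = 1) (hxT : Commute (ψ qT) x)
    (hxS : ψ qS * x * ψ qS = x⁻¹) :
    x = 1 ∨ x = ψ qZ ∨ x = (ψ qZ)⁻¹ ∨ x = ψ qL ∨ x = (ψ qL)⁻¹ := by
  obtain ⟨q, hq, rfl⟩ := (h.mem_iff x).1 hxT.eq.symm
  have e : qmul (qmul qS q) qS = qinv q := by
    refine h.inj _ (good_mul _ (good_mul _ qS_good _ hq) _ qS_good) _ (good_inv _ hq).1 ?_
    rw [h.map_mul _ (good_mul _ qS_good _ hq) _ qS_good, h.map_mul _ qS_good _ hq,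
      map_inv' h hq, hxS]
  rcases root_cases q hq (qcube_of_cube h hq hx3) e with e | e | e | e | e <;> rw [e]
  · exact Or.inl (map_I h)
  · exact Or.inr (Or.inl rfl)
  · exact Or.inr (Or.inr (Or.inl (map_inv' h qZ_good)))
  · exact Or.inr (Or.inr (Or.inr (Or.inl rfl)))
  · exact Or.inr (Or.inr (Or.inr (Or.inr (map_inv' h qL_good))))

include h h1 in
omit [IsSimpleGroup G] in
theorem conj_neg_eq_inv {u v x : G} (P : Subgroup G) (hP : Nat.card P = 27) (hu : orderOf u = 2)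
    (hv : orderOf v = 2) (huv : u * v = v * u) (hx : x ∈ P) (hux : u * x * u ∈ P)
    (hvx : Commute v x) (hx1 : x ≠ 1) (hne : ¬ Commute u x) : u * x * u = x⁻¹ := by
  haveI : Fact (Nat.Prime 3) := ⟨Nat.prime_three⟩
  set D : Subgroup G := P ⊓ centralizer ({v} : Set G) with hD
  have hxD : x ∈ D := mem_inf.2 ⟨hx, mem_centralizer_singleton_iff.2 hvx.eq.symm⟩
  have huD : u * x * u ∈ D := by
    refine mem_inf.2 ⟨hux, mem_centralizer_singleton_iff.2 ?_⟩
    calc u * x * u * v = u * x * (v * u) := by rw [mul_assoc, huv]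
      _ = u * (v * x) * u := by rw [hvx.eq]; group
      _ = v * (u * x * u) := by rw [← mul_assoc u v x, huv]; group
  have hc := card_inter_invol h h1 P hP hv
  have hx3 : x ^ 3 = 1 := fixed_cube h h1 P hP hv hx hvx
  have hle : zpowers x = D := by
    refine eq_of_le_of_card_ge (zpowers_le.2 hxD) ?_
    rw [Nat.card_zpowers, orderOf_eq_prime hx3 hx1]
    exact Nat.le_of_dvd (by norm_num) hc
  rw [← hle] at huD
  have huu : u * u = 1 := by rw [← pow_two, ← hu, pow_orderOf_eq_one]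
  rcases zpowers_three_cases hx3 huD with e | e | e
  · exfalso
    apply hx1
    calc x = (u * u) * x * (u * u) := by rw [huu]; group
      _ = u * (u * x * u) * u := by group
      _ = 1 := by rw [e, mul_one, huu]
  · exfalso
    apply hne
    show u * x = x * u
    conv_rhs => rw [← e, mul_assoc _ u u, huu, mul_one]
  · exact e

include h h1 hn in
theorem nonempty_equiv_SL :
    Nonempty (Matrix.SpecialLinearGroup (Fin 3) (ZMod 3) ≃* G) := by
  obtain ⟨c, hc3, hcT, hcS, hcTS⟩ := exists_rotation h h1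
  obtain ⟨P, hP, hPc, huniq⟩ := exists_P h h1 hn
  set Z := ψ qZ with hZ
  set W := ψ qL with hW
  have hZ3 : Z ^ 3 = 1 := cube_of_qcube h qZ_good root_facts.1
  have hW3 : W ^ 3 = 1 := cube_of_qcube h qL_good root_facts.2.1
  have hZ1 : Z ≠ 1 := fun e => absurd (psi_eq_one h qZ_good e) (by decide)
  have hW1 : W ≠ 1 := fun e => absurd (psi_eq_one h qL_good e) (by decide)
  have hTZ : Commute (ψ qT) Z := (commute_T h qZ_good).symm
  have hTW : Commute (ψ qT) W := (commute_T h qL_good).symm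
  have hSZ : ψ qS * Z * ψ qS = Z⁻¹ := S_conj_Z h
  have hSW : ψ qS * W * ψ qS = W⁻¹ := by
    rw [hW, ← h.map_mul _ qS_good _ qL_good,
      ← h.map_mul _ (good_mul _ qS_good _ qL_good) _ qS_good, root_facts.2.2.2, map_inv' h qL_good]
  have hZZ := not_commute_rot h hn hc3 hcT hcS hZ3 hZ1 hTZ hSZ
  have hWW := not_commute_rot h hn hc3 hcT hcS hW3 hW1 hTW hSW
  have hc' : ∀ y : G, c * (c * (c * y * c⁻¹) * c⁻¹) * c⁻¹ = y := fun y => by
    calc c * (c * (c * y * c⁻¹) * c⁻¹) * c⁻¹ = (c * c * c) * y * (c * c * c)⁻¹ := by group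
      _ = y := by rw [← pow_two, ← pow_succ, hc3]; group
  have hinvar : ∀ u : G, u * u = 1 → (u * Z * u = Z ∨ u * Z * u = Z⁻¹) →
      ∀ x ∈ P, u * x * u ∈ P := by
    intro u hu huZ x hx
    have hu' : u⁻¹ = u := inv_eq_of_mul_eq_one_right hu
    refine huniq _ ?_ ?_
    · have := (hPc x hx).conj u
      rw [hu'] at this
      rcases huZ with e | e <;> rw [e] at this
      · exact this
      · exact Commute.inv_left_iff.1 this
    · calc (u * x * u) ^ 27 = (u * x * u⁻¹) ^ 27 := by rw [hu']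
        _ = 1 := by
            rw [conj_pow, orderOf_dvd_iff_pow_eq_one.1 (hP ▸ Subgroup.orderOf_dvd_natCard P hx)]
            group
  have hTZ' : ψ qT * Z * ψ qT = Z := by rw [hTZ.eq, mul_assoc, T_sq h, mul_one]
  have hPT := hinvar _ (T_sq h) (Or.inl hTZ')
  have hPS := hinvar _ (S_sq h) (Or.inr hSZ)
  have hPTS := hinvar _ (TS_sq h) (Or.inr (by
    calc ψ qT * ψ qS * Z * (ψ qT * ψ qS) = ψ qT * ψ qS * Z * (ψ qS * ψ qT) := by rw [TS_comm h]
      _ = ψ qT * (ψ qS * Z * ψ qS) * ψ qT := by group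
      _ = (ψ qT * Z * ψ qT)⁻¹ := by rw [hSZ, mul_inv_rev, mul_inv_rev, T_inv_eq h, mul_assoc]
      _ = Z⁻¹ := by rw [hTZ']))
  have hdiag : ∀ x : G, x ^ 3 = 1 → Commute (ψ qT) x → Commute (ψ qS) x → x = 1 := by
    intro x hx hxT hxS
    obtain ⟨q, hq, rfl⟩ := (h.mem_iff x).1 hxT.eq.symm
    rw [cube_diag q hq (qcube_of_cube h hq hx) (h.inj _ (good_mul _ hq _ qS_good) _
      (good_mul _ qS_good _ hq) (by
        rw [h.map_mul _ hq _ qS_good, h.map_mul _ qS_good _ hq]; exact hxS.eq.symm)), map_I h]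
  -- first neighbour
  have hTS_T : ψ qT * (ψ qT * ψ qS) = (ψ qT * ψ qS) * ψ qT := by
    rw [mul_assoc (ψ qT) (ψ qS), ← TS_comm h]
  have hTTS : ψ qT * (ψ qT * ψ qS) = ψ qS := by rw [← mul_assoc, T_sq h, one_mul]
  have hb1 : Commute Z (c * W * c⁻¹) := by
    obtain ⟨Y, hY, hY1, hY3, hSY⟩ := exists_fixed_in h h1 P hP (orderOf_T h) (S_sq h) (TS_comm h)
      (orderOf_TS h) hPT hPS
    have hTY : ψ qT * Y * ψ qT = Y⁻¹ := conj_neg_eq_inv h h1 P hP (orderOf_T h) (orderOf_S h)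
      (TS_comm h) hY (hPT Y hY) hSY hY1 fun hc => hY1 (hdiag Y hY3 hc hSY)
    set x := c⁻¹ * Y * c with hx
    have hYx : Y = c * x * c⁻¹ := by rw [hx]; group
    have hx3 : x ^ 3 = 1 := by
      have : (c⁻¹ * Y * c) ^ 3 = c⁻¹ * Y ^ 3 * c := by
        simpa using (conj_pow (i := 3) (a := c⁻¹) (b := Y))
      rw [hx, this, hY3]; group
    have hxT : Commute (ψ qT) x := by
      have := hSY.conj c⁻¹
      rwa [inv_inv, ← hx, show c⁻¹ * ψ qS * c = ψ qT by rw [← hcT]; group] at this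
    have hxS : ψ qS * x * ψ qS = x⁻¹ := by
      calc ψ qS * x * ψ qS
          = c⁻¹ * ((c * ψ qS * c⁻¹) * Y * (c * ψ qS * c⁻¹)) * c := by rw [hx]; group
        _ = c⁻¹ * (ψ qT * ψ qS * Y * (ψ qS * ψ qT)) * c := by rw [hcS]; nth_rewrite 2 [TS_comm h]; rfl
        _ = c⁻¹ * (ψ qT * (ψ qS * Y * ψ qS) * ψ qT) * c := by group
        _ = c⁻¹ * Y⁻¹ * c := by rw [hSY.eq, mul_assoc Y, S_sq h, mul_one, hTY]
        _ = x⁻¹ := by rw [hx]; group
    have hZY : Commute Z Y := hPc Y hY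
    rw [hYx] at hZY
    rcases eq_root h hx3 hxT hxS with e | e | e | e | e <;> rw [e] at hZY
    · exfalso; apply hY1; rw [hYx, e]; group
    · exact absurd hZY hZZ
    · rw [← conj_inv] at hZY; exact absurd (Commute.inv_right_iff.1 hZY) hZZ
    · exact hZY
    · rw [← conj_inv] at hZY; exact Commute.inv_right_iff.1 hZY
  -- second neighbour
  have hb2 : Commute Z (c * (c * W * c⁻¹) * c⁻¹) := by
    obtain ⟨Y, hY, hY1, hY3, hVY⟩ := exists_fixed_in h h1 P hP (orderOf_T h) (TS_sq h) hTS_T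
      (by rw [hTTS]; exact orderOf_S h) hPT hPTS
    have hTY : ψ qT * Y * ψ qT = Y⁻¹ := conj_neg_eq_inv h h1 P hP (orderOf_T h) (orderOf_TS h)
      hTS_T hY (hPT Y hY) hVY hY1 fun hc => hY1 (hdiag Y hY3 hc (by
        have := hc.mul_left hVY
        rwa [hTTS] at this))
    set x := c⁻¹ * (c⁻¹ * Y * c) * c with hx
    have hYx : Y = c * (c * x * c⁻¹) * c⁻¹ := by rw [hx]; group
    have hcp : ∀ y : G, (c⁻¹ * y * c) ^ 3 = c⁻¹ * y ^ 3 * c := fun y => by
      simpa using (conj_pow (i := 3) (a := c⁻¹) (b := y))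
    have hx3 : x ^ 3 = 1 := by rw [hx, hcp, hcp, hY3]; group
    have hxT : Commute (ψ qT) x := by
      have := (hVY.conj c⁻¹).conj c⁻¹
      rwa [inv_inv, ← hx, show c⁻¹ * (c⁻¹ * (ψ qT * ψ qS) * c) * c = ψ qT by
        rw [← hcS]; rw [show c⁻¹ * (c⁻¹ * (c * ψ qS * c⁻¹) * c) * c = c⁻¹ * ψ qS * c by group,
          ← hcT]; group] at this
    have hxS : ψ qS * x * ψ qS = x⁻¹ := by
      calc ψ qS * x * ψ qS
          = c⁻¹ * (c⁻¹ * ((c * (c * ψ qS * c⁻¹) * c⁻¹) * Y * (c * (c * ψ qS * c⁻¹) * c⁻¹)) * c) * c := by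
            rw [hx]; group
        _ = c⁻¹ * (c⁻¹ * (ψ qT * Y * ψ qT) * c) * c := by rw [hcS, hcTS]
        _ = x⁻¹ := by rw [hTY, hx, mul_inv_rev, mul_inv_rev, mul_inv_rev, mul_inv_rev, inv_inv]; simp only [mul_assoc]
    have hZY : Commute Z Y := hPc Y hY
    rw [hYx] at hZY
    have hbad : ¬ Commute Z (c * (c * Z * c⁻¹) * c⁻¹) := fun hh => by
      have := hh.conj c
      rw [hc'] at this
      exact hZZ this.symm
    rcases eq_root h hx3 hxT hxS with e | e | e | e | e <;> rw [e] at hZY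
    · exfalso; apply hY1; rw [hYx, e]; group
    · exact absurd hZY hbad
    · rw [← conj_inv, ← conj_inv] at hZY; exact absurd (Commute.inv_right_iff.1 hZY) hbad
    · exact hZY
    · rw [← conj_inv, ← conj_inv] at hZY; exact Commute.inv_right_iff.1 hZY
  -- the generators
  set a0 := c * W * c⁻¹ with ha0
  set b0 := c * a0 * c⁻¹ with hb0
  have ha03 : a0 ^ 3 = 1 := by rw [ha0, conj_pow, hW3]; group
  have hb03 : b0 ^ 3 = 1 := by rw [hb0, conj_pow, ha03]; group
  set y := a0 * b0 * a0⁻¹ * b0⁻¹ with hy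
  have hyZ : y ∈ zpowers Z := comm_mem h h1 hn (IsConj.refl _) ha03 hb03 hb1 hb2
  have hy1 : y ≠ 1 := by
    intro e
    apply hWW
    have hab : Commute a0 b0 := commutatorElement_eq_one_iff_mul_comm.1 (by rw [commutatorElement_def]; exact e)
    have := hab.conj c⁻¹
    rwa [inv_inv, show c⁻¹ * b0 * c = a0 by rw [hb0]; group,
      show c⁻¹ * a0 * c = W by rw [ha0]; group] at this
  have hyc : y = Z ∨ y = Z⁻¹ := (zpowers_three_cases hZ3 hyZ).resolve_left hy1
  have hyT : Commute (ψ qT) y := by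
    rcases hyc with e | e <;> rw [e]
    · exact hTZ
    · exact hTZ.inv_right
  have hyS : ψ qS * y * ψ qS = y⁻¹ := by
    rcases hyc with e | e <;> rw [e]
    · exact hSZ
    · calc ψ qS * Z⁻¹ * ψ qS = (ψ qS * Z * ψ qS)⁻¹ := by
            rw [mul_inv_rev, mul_inv_rev, S_inv_eq h, mul_assoc]
        _ = Z⁻¹⁻¹ := by rw [hSZ]
  have hy3 : y ^ 3 = 1 := by rcases hyc with e | e <;> rw [e] <;> simp [inv_pow, hZ3]
  have hya : Commute a0 y := by
    rcases hyc with e | e <;> rw [e]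
    · exact hb1.symm
    · exact hb1.symm.inv_right
  have hyb : Commute b0 y := by
    rcases hyc with e | e <;> rw [e]
    · exact hb2.symm
    · exact hb2.symm.inv_right
  set z := c * (c * y * c⁻¹) * c⁻¹ with hz
  have hz3 : z ^ 3 = 1 := by rw [hz, conj_pow, conj_pow, hy3]; group
  have hza : Commute a0 z := by
    have h0 : Commute a0 (c * (c * Z * c⁻¹) * c⁻¹) := by
      have := (hb2.conj c).conj c
      rw [hc' a0] at this
      exact this.symm
    rcases hyc with e | e <;> rw [hz, e]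
    · exact h0
    · rw [← conj_inv, ← conj_inv]; exact h0.inv_right
  have hyz : ¬ Commute y z := fun hh => by
    have := hh.conj c
    rw [hz, hc'] at this
    exact not_commute_rot h hn hc3 hcT hcS hy3 hy1 hyT hyS this.symm
  have hconj0 : IsConj Z a0 := by
    refine isConj_Z_of_invol h h1 ha03 (fun e => hW1 (by rw [ha0] at e; exact conj_eq_one_iff.1 e))
      (orderOf_S h) ?_
    have := hTW.conj c
    rwa [hcT] at this
  set a := y * z * y⁻¹ * z⁻¹ with ha
  have haZ : a ∈ zpowers a0 := comm_mem h h1 hn hconj0 hy3 hz3 hya hza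
  have ha1 : a ≠ 1 := fun e => hyz (commutatorElement_eq_one_iff_mul_comm.1
    (by rw [commutatorElement_def]; exact e))
  have hac : a = a0 ∨ a = a0⁻¹ := (zpowers_three_cases ha03 haZ).resolve_left ha1
  have hab' : a * (c * a * c⁻¹) * a⁻¹ = y * (c * a * c⁻¹) := by
    rcases hac with e | e <;> rw [e]
    · rw [← hb0, hy]; group
    · rw [← conj_inv, ← hb0]
      have e1 : a0⁻¹ * b0⁻¹ * a0 * b0 = y := by
        calc a0⁻¹ * b0⁻¹ * a0 * b0 = a0⁻¹ * b0⁻¹ * (y * b0 * a0) := by rw [hy]; group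
          _ = a0⁻¹ * (b0⁻¹ * y * b0) * a0 := by group
          _ = a0⁻¹ * y * a0 := by rw [hyb.inv_left.eq, inv_mul_cancel_right]
          _ = y := by rw [hya.inv_left.eq, inv_mul_cancel_right]
      conv_rhs => rw [← e1]
      group
  refine RootRel.nonempty_equiv hn (c := c) (a := a) (y := y) ?_ ha1
  refine ⟨hc3, ?_, hy3, hab', ?_, ?_, ?_⟩
  · rcases hac with e | e <;> rw [e] <;> simp [inv_pow, ha03]
  · rcases hac with e | e <;> rw [e]
    · exact hya
    · exact hya.inv_left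
  · rcases hac with e | e <;> rw [e, ← hz]
    · exact hza
    · exact hza.inv_left
  · rw [← hz, ha]; group

end CfsgLib.GLTwoThree
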