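import Mathlib
import Cfsg.Agent.Lib.GLTwoThree.Reduce
import Cfsg.Agent.Lib.GLTwoThree.RootsMain
import Cfsg.Agent.S3304

/-!
# Recovering the involution centralizer from the commuting graph of a group of order `5616`
-/

set_option autoImplicit false
set_option synthInstance.maxSize 1024

namespace CfsgLib.GLTwoThree

open Subgroup

universe u v

theorem cls_zero : ∀ x ∈ good, cls x = 0 → x = qI := by decide +kernel

theorem cls_one : ∀ x ∈ good, cls x = 1 → x = qT := by decide +kernel

theorem four_of_refl : ∀ x ∈ good, cls x = 2 →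
    (good.filter fun y => qmul x y = qmul y x).card = 4 := by decide +kernel

theorem cent_sizes : ∀ x ∈ good, x ≠ qI → x ≠ qT →
    (good.filter fun y => qmul x y = qmul y x).card = 4 ∨
    (good.filter fun y => qmul x y = qmul y x).card = 6 ∨
    (good.filter fun y => qmul x y = qmul y x).card = 8 := by decide +kernel

theorem root_T : ∀ x ∈ good, x ≠ qI → cls x ≠ 2 → cls x ≠ 3 →
    x = qT ∨ qmul x x = qT ∨ qmul (qmul x x) x = qT ∨ qmul (qmul x x) (qmul x x) = qT := by
  decide +kernel

theorem refl_not_commute : ∀ x ∈ good, cls x = 2 → ∀ y ∈ good, y ≠ qI → y ≠ qT → cls y ≠ 2 →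
    cls y ≠ 3 → qmul x y ≠ qmul y x := by decide +kernel

/-- The involution commuting with two non-conjugate involutions. -/
theorem exists_invol_between {H : Type u} [Group H] [Finite H] {r v : H} (hr : orderOf r = 2)
    (hv : orderOf v = 2) (hne : ¬ IsConj r v) :
    ∃ i : H, orderOf i = 2 ∧ Commute i r ∧ Commute i v := by
  have hrr : r * r = 1 := by rw [← pow_two, ← hr, pow_orderOf_eq_one]
  have hvv : v * v = 1 := by rw [← pow_two, ← hv, pow_orderOf_eq_one]
  have hri : r⁻¹ = r := inv_eq_of_mul_eq_one_right hrr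
  have hvi : v⁻¹ = v := inv_eq_of_mul_eq_one_right hvv
  set d := r * v with hd
  have hconj : ∀ n : ℕ, r * d ^ n * r = (d ^ n)⁻¹ := by
    intro n
    have h1 : r * d * r⁻¹ = d⁻¹ := by
      rw [hd, mul_inv_rev, hri, hvi, ← mul_assoc r r, hrr, one_mul]
    calc r * d ^ n * r = r * d ^ n * r⁻¹ := by rw [hri]
      _ = (r * d * r⁻¹) ^ n := conj_pow.symm
      _ = (d ^ n)⁻¹ := by rw [h1, inv_pow]
  rcases Nat.even_or_odd (orderOf d) with ⟨m, hm⟩ | ⟨m, hm⟩
  · have hd0 : 0 < orderOf d := orderOf_pos d
    have hmm : d ^ m * d ^ m = 1 := by rw [← pow_add, ← hm, pow_orderOf_eq_one]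
    have hne1 : d ^ m ≠ 1 := fun e => by
      have := Nat.le_of_dvd (by omega) (orderOf_dvd_of_pow_eq_one e)
      omega
    have hcr : Commute (d ^ m) r := by
      have h1 := hconj m
      rw [inv_eq_of_mul_eq_one_right hmm] at h1
      show d ^ m * r = r * d ^ m
      conv_lhs => rw [← h1]
      rw [mul_assoc, hrr, mul_one]
    refine ⟨d ^ m, orderOf_eq_prime (by rw [pow_two]; exact hmm) hne1, hcr, ?_⟩
    rw [show v = r * d by rw [hd, ← mul_assoc, hrr, one_mul]]
    exact hcr.mul_right (Commute.pow_self d m)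
  · exfalso
    apply hne
    refine isConj_iff.2 ⟨d ^ m, ?_⟩
    have h2 : d ^ m * d ^ m = v * r := by
      have e : d ^ m * d ^ m * d = 1 := by
        rw [← pow_add, ← pow_succ, show m + m + 1 = orderOf d by omega, pow_orderOf_eq_one]
      rw [eq_inv_of_mul_eq_one_left e, hd, mul_inv_rev, hri, hvi]
    have hre : r * (d ^ m)⁻¹ = d ^ m * r := by
      rw [← hconj, ← mul_assoc, ← mul_assoc, hrr, one_mul]
    calc d ^ m * r * (d ^ m)⁻¹ = d ^ m * (r * (d ^ m)⁻¹) := mul_assoc _ _ _
      _ = d ^ m * d ^ m * r := by rw [hre, mul_assoc]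
      _ = v := by rw [h2, mul_assoc, hrr, mul_one]

section

variable {H : Type u} {L : Type v} [Group H] [Group L] (e : H ≃ L)

theorem card_cent_map (he : ∀ x y, e x * e y = e y * e x ↔ x * y = y * x) (x : H) :
    Nat.card (centralizer ({x} : Set H)) = Nat.card (centralizer ({e x} : Set L)) :=
  Nat.card_congr (e.subtypeEquiv fun g => by
    rw [mem_centralizer_singleton_iff, mem_centralizer_singleton_iff, he])

theorem card_cent_inf_map (he : ∀ x y, e x * e y = e y * e x ↔ x * y = y * x) (x y : H) :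
    Nat.card (centralizer ({x} : Set H) ⊓ centralizer ({y} : Set H) : Subgroup H) =
      Nat.card (centralizer ({e x} : Set L) ⊓ centralizer ({e y} : Set L) : Subgroup L) :=
  Nat.card_congr (e.subtypeEquiv fun g => by
    rw [mem_inf, mem_inf, mem_centralizer_singleton_iff, mem_centralizer_singleton_iff,
      mem_centralizer_singleton_iff, mem_centralizer_singleton_iff, he, he])

end

variable {L : Type v} [Group L] [Finite L] [IsSimpleGroup L] {φ : Q → L}
  (h : Loc φ) (h1 : OneClass φ) (hn : Nat.card L = 5616)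

include h in
omit [IsSimpleGroup L] in
theorem card_inf_model {x : Q} (hx : x ∈ good) :
    Nat.card (centralizer ({φ qT} : Set L) ⊓ centralizer ({φ x} : Set L) : Subgroup L) =
      (good.filter fun y => qmul x y = qmul y x).card := by
  rw [← Nat.card_eq_finsetCard]
  symm
  refine Nat.card_eq_of_bijective (fun y => ⟨φ y.1, ?_⟩) ⟨?_, ?_⟩
  · obtain ⟨hy, hc⟩ := Finset.mem_filter.1 y.2
    refine mem_inf.2 ⟨mem_centralizer_singleton_iff.2 (commute_T h hy), mem_centralizer_singleton_iff.2 ?_⟩
    rw [← h.map_mul _ hy _ hx, ← h.map_mul _ hx _ hy, hc]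
  · intro a b eab
    exact Subtype.ext (h.inj _ (Finset.mem_filter.1 a.2).1 _ (Finset.mem_filter.1 b.2).1
      (congrArg Subtype.val eab))
  · rintro ⟨g, hg⟩
    obtain ⟨hg1, hg2⟩ := mem_inf.1 hg
    obtain ⟨y, hy, rfl⟩ := (h.mem_iff g).1 (mem_centralizer_singleton_iff.1 hg1)
    refine ⟨⟨y, Finset.mem_filter.2 ⟨hy, h.inj _ (good_mul _ hx _ hy) _ (good_mul _ hy _ hx) ?_⟩⟩, rfl⟩
    rw [h.map_mul _ hy _ hx, h.map_mul _ hx _ hy]
    exact (mem_centralizer_singleton_iff.1 hg2).symm

include h h1 in
omit [IsSimpleGroup L] in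
theorem orderOf_two_of_sixteen {g : L} (hg : g ≠ 1)
    (h16 : 16 ∣ Nat.card (centralizer ({g} : Set L))) : orderOf g = 2 := by
  haveI : Fact (Nat.Prime 2) := ⟨Nat.prime_two⟩
  obtain ⟨P, hP⟩ := exists_sylow h
  obtain ⟨K, hK⟩ := Sylow.exists_subgroup_card_pow_prime (G := centralizer ({g} : Set L)) 2 (n := 4)
    (by simpa using h16)
  have hKp : IsPGroup 2 (K.map (centralizer ({g} : Set L)).subtype) :=
    (IsPGroup.of_card hK).map _
  obtain ⟨R, hR⟩ := hKp.exists_le_sylow
  have hPc : Nat.card (P : Subgroup L) = 16 := by rw [hP, sdSub, card_image, card_sd]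
  have hRK : (R : Subgroup L) = K.map (centralizer ({g} : Set L)).subtype := by
    refine (eq_of_le_of_card_ge hR ?_).symm
    rw [R.card_eq_multiplicity, ← P.card_eq_multiplicity, hPc,
      ← Nat.card_congr (K.equivMapOfInjective _ (subtype_injective _)).toEquiv, hK]
    norm_num
  obtain ⟨c, hc⟩ := MulAction.exists_smul_eq L R P
  have hcom : ∀ a ∈ sdSub h, (c * g * c⁻¹) * a = a * (c * g * c⁻¹) := by
    intro a ha
    rw [← hP, ← hc] at ha
    obtain ⟨b, hb, rfl⟩ := ha
    have hbC : b ∈ centralizer ({g} : Set L) := map_subtype_le K (hRK ▸ hb)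
    show c * g * c⁻¹ * (c * b * c⁻¹) = c * b * c⁻¹ * (c * g * c⁻¹)
    calc c * g * c⁻¹ * (c * b * c⁻¹) = c * (g * b) * c⁻¹ := by group
      _ = c * (b * g) * c⁻¹ := by rw [mem_centralizer_singleton_iff.1 hbC]
      _ = _ := by group
  obtain ⟨x, hx, hxe⟩ := (h.mem_iff (c * g * c⁻¹)).1 (hcom _ ⟨qT, qT_sd, rfl⟩)
  have hxc : ∀ y ∈ sd, qmul x y = qmul y x := fun y hy => by
    refine h.inj _ (good_mul _ hx _ (sd_good _ hy)) _ (good_mul _ (sd_good _ hy) _ hx) ?_
    rw [h.map_mul _ hx _ (sd_good _ hy), h.map_mul _ (sd_good _ hy) _ hx, hxe]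
    exact hcom _ ⟨y, hy, rfl⟩
  have hxsd : x ∈ sd := by
    have hsd : ∀ z ∈ good, qmul z qA = qmul qA z → z ∈ sd := by decide +kernel
    exact hsd x hx (hxc _ qA_sd)
  rcases sd_central x hxsd (hxc _ qA_sd) (hxc _ qS_sd) with e | e <;> rw [e] at hxe
  · rw [map_I h] at hxe
    exact absurd (conj_eq_one_iff.1 hxe.symm) hg
  · rw [← (MulAut.conj c).orderOf_eq g]
    show orderOf (c * g * c⁻¹) = 2
    rw [← hxe]
    exact orderOf_T h

include h h1 hn in
theorem centralizer_cases {x : Q} (hx : x ∈ good) (hxI : x ≠ qI) :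
    (cls x = 2 ∧ Nat.card (centralizer ({φ x} : Set L)) = 48) ∨
    (cls x = 3 ∧ Nat.card (centralizer ({φ x} : Set L)) = 54) ∨
    (cls x ≠ 2 ∧ cls x ≠ 3 ∧ centralizer ({φ x} : Set L) ≤ centralizer ({φ qT} : Set L)) := by
  by_cases e2 : cls x = 2
  · refine Or.inl ⟨e2, ?_⟩
    have hc := isConj_rep h hx
    rw [e2, rep_vals.2.2.1] at hc
    rw [CfsgLib.Invol.card_centralizer_of_isConj hc.symm]
    exact card_centralizer_invol h h1 (orderOf_S h)
  by_cases e3 : cls x = 3
  · refine Or.inr (Or.inl ⟨e3, ?_⟩)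
    have hc := isConj_rep h hx
    rw [e3, rep_vals.2.2.2.1] at hc
    rw [CfsgLib.Invol.card_centralizer_of_isConj hc.symm]
    exact card_centralizer_Z h h1 hn
  refine Or.inr (Or.inr ⟨e2, e3, fun g hg => ?_⟩)
  have hgc : Commute g (φ x) := mem_centralizer_singleton_iff.1 hg
  rw [mem_centralizer_singleton_iff]
  have h2 := good_mul _ hx _ hx
  rcases root_T x hx hxI e2 e3 with e | e | e | e <;> rw [← e]
  · exact hgc.eq
  · rw [h.map_mul _ hx _ hx]; exact (hgc.mul_right hgc).eq
  · rw [h.map_mul _ h2 _ hx, h.map_mul _ hx _ hx]; exact ((hgc.mul_right hgc).mul_right hgc).eq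
  · rw [h.map_mul _ h2 _ h2, h.map_mul _ hx _ hx]
    exact ((hgc.mul_right hgc).mul_right (hgc.mul_right hgc)).eq

include h h1 hn in
theorem loc_of_commuting {H : Type u} [Group H] [Finite H] (e : H ≃ L) (he1 : e 1 = 1)
    (he : ∀ x y, e x * e y = e y * e x ↔ x * y = y * x) :
    ∃ ψ : Q → H, Loc ψ ∧ OneClass ψ ∧ Nat.card H = 5616 := by
  classical
  haveI : Fact (Nat.Prime 2) := ⟨Nat.prime_two⟩
  haveI : Fact (Nat.Prime 3) := ⟨Nat.prime_three⟩
  have hH : Nat.card H = 5616 := (Nat.card_congr e).trans hn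
  have hne1 : ∀ x : H, x ≠ 1 → e x ≠ 1 := fun x hx hh => hx (e.injective (hh.trans he1.symm))
  -- the central involution of a Sylow subgroup
  obtain ⟨S⟩ : Nonempty (Sylow 2 H) := inferInstance
  have hS : Nat.card (S : Subgroup H) = 16 := by
    have a1 := (Nat.prime_two.pow_dvd_iff_le_factorization (by norm_num : 5616 ≠ 0)).1
      (by norm_num : 2 ^ 4 ∣ 5616)
    have a2 := mt (Nat.prime_two.pow_dvd_iff_le_factorization (by norm_num : 5616 ≠ 0)).2
      (by norm_num : ¬ 2 ^ 5 ∣ 5616)
    rw [S.card_eq_multiplicity, hH, show (5616 : ℕ).factorization 2 = 4 by omega]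
    norm_num
  haveI : Nontrivial (S : Subgroup H) := by
    rw [← Finite.one_lt_card_iff_nontrivial, hS]; norm_num
  have hnc := S.isPGroup'.center_nontrivial
  obtain ⟨m, hm0, hm⟩ :=
    (S.isPGroup'.to_subgroup (Subgroup.center (S : Subgroup H))).nontrivial_iff_card.1 hnc
  obtain ⟨w0, hw0⟩ := exists_prime_orderOf_dvd_card' (G := Subgroup.center (S : Subgroup H)) 2
    (by rw [hm]; exact dvd_pow_self 2 hm0.ne')
  set w : H := (w0.1 : H) with hwdef
  have hw : orderOf w = 2 := by rw [hwdef, Subgroup.orderOf_coe, Subgroup.orderOf_coe, hw0]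
  have hw1 : w ≠ 1 := fun hh => by rw [hh, orderOf_one] at hw; omega
  have hSw : (S : Subgroup H) ≤ centralizer ({w} : Set H) := fun a ha =>
    mem_centralizer_singleton_iff.2 (congrArg Subtype.val (Subgroup.mem_center_iff.1 w0.2 ⟨a, ha⟩))
  -- vertices of valency 48 are the conjugates of `w`
  have h48L : ∀ x : H, x ≠ 1 → 16 ∣ Nat.card (centralizer ({x} : Set H)) → orderOf (e x) = 2 := by
    intro x hx h16
    rw [card_cent_map e he] at h16
    exact orderOf_two_of_sixteen h h1 (hne1 x hx) h16
  have hew : orderOf (e w) = 2 := h48L w hw1 (hS ▸ Subgroup.card_dvd_of_le hSw)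
  have hw48 : Nat.card (centralizer ({w} : Set H)) = 48 := by
    rw [card_cent_map e he, card_centralizer_invol h h1 hew]
  have hclass : Nat.card {x : H // IsConj w x} = 117 := by
    have h2 := MulAction.index_stabilizer (ConjAct H) w
    rw [ConjAct.orbit_eq_carrier_conjClasses] at h2
    have h3 : (MulAction.stabilizer (ConjAct H) w).index * 48 = 5616 := by
      rw [← hw48, ← hH]
      have := Subgroup.index_mul_card (MulAction.stabilizer (ConjAct H) w)
      have hc : Nat.card (MulAction.stabilizer (ConjAct H) w)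
          = Nat.card (centralizer ({w} : Set H)) := by
        rw [ConjAct.stabilizer_eq_centralizer]; rfl
      rw [hc] at this
      exact this
    have : Nat.card {x : H // IsConj w x} = (ConjClasses.mk w).carrier.ncard := by
      rw [← Nat.card_coe_set_eq]
      exact Nat.card_congr (Equiv.subtypeEquivRight fun x => by
        rw [ConjClasses.mem_carrier_iff_mk_eq, ConjClasses.mk_eq_mk_iff_isConj, isConj_comm])
    omega
  have hLclass : Nat.card {y : L // orderOf y = 2} = 117 := by
    have h2 := MulAction.index_stabilizer (ConjAct L) (φ qT)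
    rw [ConjAct.orbit_eq_carrier_conjClasses] at h2
    have h3 : (MulAction.stabilizer (ConjAct L) (φ qT)).index * 48 = 5616 := by
      rw [← card_centralizer_T h, ← hn]
      have := Subgroup.index_mul_card (MulAction.stabilizer (ConjAct L) (φ qT))
      have hc : Nat.card (MulAction.stabilizer (ConjAct L) (φ qT))
          = Nat.card (centralizer ({φ qT} : Set L)) := by
        rw [ConjAct.stabilizer_eq_centralizer]; rfl
      rw [hc] at this
      exact this
    have : Nat.card {y : L // orderOf y = 2} = (ConjClasses.mk (φ qT)).carrier.ncard := by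
      rw [← Nat.card_coe_set_eq]
      refine Nat.card_congr (Equiv.subtypeEquivRight fun y => ?_)
      rw [ConjClasses.mem_carrier_iff_mk_eq, ConjClasses.mk_eq_mk_iff_isConj, isConj_comm]
      refine ⟨h1 y, fun hc => ?_⟩
      obtain ⟨c, rfl⟩ := isConj_iff.1 hc
      exact ((MulAut.conj c).orderOf_eq (φ qT)).trans (orderOf_T h)
    omega
  have hiff : ∀ x : H, orderOf (e x) = 2 ↔ IsConj w x := by
    have hsub : ∀ x : H, IsConj w x → orderOf (e x) = 2 := by
      intro x hx
      have hx1 : x ≠ 1 := by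
        rintro rfl
        exact hw1 (isConj_one_left.1 hx)
      refine h48L x hx1 ?_
      rw [show Nat.card (centralizer ({x} : Set H)) = 48 from
        (CfsgLib.Invol.card_centralizer_of_isConj hx).trans hw48]
      norm_num
    let F : {x : H // IsConj w x} → {y : L // orderOf y = 2} := fun x => ⟨e x.1, hsub x.1 x.2⟩
    have hF : Function.Bijective F := (Nat.bijective_iff_injective_and_card F).2
      ⟨fun a b hab => Subtype.ext (e.injective (congrArg Subtype.val hab)), hclass.trans hLclass.symm⟩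
    refine fun x => ⟨fun hx => ?_, hsub x⟩
    obtain ⟨⟨y, hy⟩, hye⟩ := hF.2 ⟨e x, hx⟩
    rwa [← e.injective (congrArg Subtype.val hye)]
  -- position of the conjugates
  obtain ⟨c, hc⟩ := isConj_iff.1 (h1 (e w) hew)
  have hcw : ∀ y : H, y * w = w * y → ∃ q ∈ good, e y = c * φ q * c⁻¹ := by
    intro y hy
    have h2 := (he y w).2 hy
    rw [← hc] at h2
    obtain ⟨q, hq, hqe⟩ := (h.mem_iff (c⁻¹ * e y * c)).1 (by
      calc c⁻¹ * e y * c * φ qT = c⁻¹ * (e y * (c * φ qT * c⁻¹)) * c := by group
        _ = c⁻¹ * (c * φ qT * c⁻¹ * e y) * c := by rw [h2]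
        _ = _ := by group)
    exact ⟨q, hq, by rw [hqe]; group⟩
  have hcent : ∀ q : Q, Nat.card (centralizer ({c * φ q * c⁻¹} : Set L))
      = Nat.card (centralizer ({φ q} : Set L)) := fun q =>
    CfsgLib.Invol.card_centralizer_of_isConj (isConj_iff.2 ⟨c, rfl⟩)
  -- every involution is conjugate to `w`
  have not54 : ∀ i : H, orderOf i = 2 → Nat.card (centralizer ({i} : Set H)) ≠ 54 := by
    intro i hi h54
    have hnot : ¬ IsConj w i := fun hh => by
      rw [CfsgLib.Invol.card_centralizer_of_isConj hh, hw48] at h54; norm_num at h54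
    have honly : ∀ j : H, orderOf j = 2 → Commute j i → j = i := by
      intro j hj hji
      by_contra hne
      have hK : ∀ a ∈ ({i, j} : Set H), ∀ b ∈ ({i, j} : Set H), a * b = b * a := by
        intro a ha b hb
        rcases ha with rfl | rfl <;> rcases hb with rfl | rfl <;>
          first | rfl | exact hji.eq | exact hji.eq.symm
      have hii : i * i = 1 := by rw [← pow_two, ← hi, pow_orderOf_eq_one]
      have hjj : j * j = 1 := by rw [← pow_two, ← hj, pow_orderOf_eq_one]
      have hpg : IsPGroup 2 (zpowers j ⊔ zpowers i : Subgroup H) := by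
        refine IsPGroup.to_sup_of_normal_left' (IsPGroup.of_card (n := 1) (by rw [Nat.card_zpowers, hj, pow_one]))
          (IsPGroup.of_card (n := 1) (by rw [Nat.card_zpowers, hi, pow_one])) ?_
        rw [zpowers_le]
        refine centralizer_le_normalizer _ (mem_centralizer_iff.2 fun a ha => ?_)
        obtain ⟨k, rfl⟩ := mem_zpowers_iff.1 ha
        exact (hji.zpow_left k).eq
      obtain ⟨k, hk⟩ := IsPGroup.iff_card.1 hpg
      have hle : zpowers j ⊔ zpowers i ≤ centralizer ({i} : Set H) := sup_le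
        (zpowers_le.2 (mem_centralizer_singleton_iff.2 hji.eq))
        (zpowers_le.2 (mem_centralizer_singleton_iff.2 rfl))
      have hd : 2 ^ k ∣ 54 := h54 ▸ hk ▸ Subgroup.card_dvd_of_le hle
      have hk1 : k ≤ 1 := by
        by_contra hlt
        have : 2 ^ 2 ∣ 54 := (pow_dvd_pow 2 (by omega : 2 ≤ k)).trans hd
        norm_num at this
      have heq : zpowers i = zpowers j ⊔ zpowers i := eq_of_le_of_card_ge le_sup_right (by
        rw [hk, Nat.card_zpowers, hi]
        exact (Nat.pow_le_pow_right (by norm_num) hk1).trans (by norm_num))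
      have hjm : j ∈ zpowers i := heq ▸ (le_sup_left : zpowers j ≤ _) (mem_zpowers j)
      obtain ⟨n, rfl⟩ := mem_zpowers_iff.1 hjm
      have hm2 : n % 2 = 0 ∨ n % 2 = 1 := by omega
      have hn2 : i ^ n = i ^ (n % 2) := by
        rw [zpow_eq_zpow_iff_modEq, hi]
        exact (Int.mod_modEq n 2).symm
      rcases hm2 with hh | hh <;> rw [hh] at hn2
      · rw [hn2, zpow_zero, orderOf_one] at hj; norm_num at hj
      · exact hne (hn2.trans (zpow_one i))
    have hall : ∀ v : H, IsConj w v → v * i = i * v := by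
      intro v hv
      have hv2 : orderOf v = 2 := by
        obtain ⟨a, rfl⟩ := isConj_iff.1 hv
        exact ((MulAut.conj a).orderOf_eq w).trans hw
      obtain ⟨j, hj, hji, hjv⟩ := exists_invol_between hi hv2 fun hh => hnot (hv.trans hh.symm)
      rw [honly j hj hji] at hjv
      exact hjv.eq.symm
    have := Nat.card_le_card_of_injective
      (fun v : {x : H // IsConj w x} =>
        (⟨v.1, mem_centralizer_singleton_iff.2 (hall v.1 v.2)⟩ : centralizer ({i} : Set H)))
      (fun a b hab => Subtype.ext (congrArg (fun t : centralizer ({i} : Set H) => (t : H)) hab))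
    omega
  have hone : ∀ r : H, orderOf r = 2 → IsConj w r := by
    intro r0 hr0
    obtain ⟨R, hR⟩ := (IsPGroup.of_card (n := 1) (by rw [Nat.card_zpowers, hr0, pow_one]) :
      IsPGroup 2 (zpowers r0)).exists_le_sylow
    obtain ⟨g, hg⟩ := MulAction.exists_smul_eq H R S
    set r := g * r0 * g⁻¹ with hrdef
    suffices IsConj w r from this.trans (isConj_iff.2 ⟨g, rfl⟩ : IsConj r0 r).symm
    have hr : orderOf r = 2 := ((MulAut.conj g).orderOf_eq r0).trans hr0
    have hrS : r ∈ (S : Subgroup H) := by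
      rw [← hg]; exact ⟨r0, hR (mem_zpowers r0), rfl⟩
    have hrw : r * w = w * r := mem_centralizer_singleton_iff.1 (hSw hrS)
    have hr1 : r ≠ 1 := fun hh => by rw [hh, orderOf_one] at hr; omega
    by_contra hnot
    obtain ⟨q, hq, hqe⟩ := hcw r hrw
    have hqI : q ≠ qI := fun hh => hne1 r hr1 (by rw [hqe, hh, map_I h]; group)
    have hqT : q ≠ qT := fun hh => hnot (by
      rw [hh, hc] at hqe
      rw [e.injective hqe])
    rcases centralizer_cases h h1 hn hq hqI with ⟨hq2, -⟩ | ⟨-, hq54⟩ | ⟨hq2, hq3, hqle⟩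
    · apply hnot
      refine (hiff r).1 ?_
      rw [hqe]
      refine ((MulAut.conj c).orderOf_eq (φ q)).trans ?_
      have hh := isConj_rep h hq
      rw [hq2, rep_vals.2.2.1] at hh
      obtain ⟨a, ha⟩ := isConj_iff.1 hh
      rw [← orderOf_S h, ← ha]
      exact ((MulAut.conj a).orderOf_eq (φ q)).symm
    · exact not54 r hr (by rw [card_cent_map e he, hqe, hcent, hq54])
    · have hmain : ∀ i : H, orderOf i = 2 → Commute i r →
          centralizer ({i} : Set H) ≤ centralizer ({w} : Set H) := by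
        intro i hi hir y hy
        have hi1 : i ≠ 1 := fun hh => by rw [hh, orderOf_one] at hi; omega
        have hiw : e i * (c * φ qT * c⁻¹) = (c * φ qT * c⁻¹) * e i := by
          have h2 := (he i r).2 hir.eq
          rw [hqe] at h2
          have h3 : c⁻¹ * e i * c ∈ centralizer ({φ q} : Set L) := by
            rw [mem_centralizer_singleton_iff]
            calc c⁻¹ * e i * c * φ q = c⁻¹ * (e i * (c * φ q * c⁻¹)) * c := by group
              _ = c⁻¹ * (c * φ q * c⁻¹ * e i) * c := by rw [h2]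
              _ = _ := by group
          have h4 := mem_centralizer_singleton_iff.1 (hqle h3)
          calc e i * (c * φ qT * c⁻¹) = c * (c⁻¹ * e i * c * φ qT) * c⁻¹ := by group
            _ = c * (φ qT * (c⁻¹ * e i * c)) * c⁻¹ := by rw [h4]
            _ = _ := by group
        rw [hc] at hiw
        obtain ⟨p, hp, hpe⟩ := hcw i ((he i w).1 hiw)
        have hpI : p ≠ qI := fun hh => hne1 i hi1 (by rw [hpe, hh, map_I h]; group)
        rcases centralizer_cases h h1 hn hp hpI with ⟨hp2, -⟩ | ⟨-, hp54⟩ | ⟨-, -, hple⟩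
        · exfalso
          refine refl_not_commute p hp hp2 q hq hqI hqT hq2 hq3 ?_
          refine h.inj _ (good_mul _ hp _ hq) _ (good_mul _ hq _ hp) ?_
          have h2 := (he i r).2 hir.eq
          rw [hpe, hqe] at h2
          rw [h.map_mul _ hp _ hq, h.map_mul _ hq _ hp]
          calc φ p * φ q = c⁻¹ * (c * φ p * c⁻¹ * (c * φ q * c⁻¹)) * c := by group
            _ = c⁻¹ * (c * φ q * c⁻¹ * (c * φ p * c⁻¹)) * c := by rw [h2]
            _ = _ := by group
        · exact absurd (by rw [card_cent_map e he, hpe, hcent, hp54]) (not54 i hi)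
        · rw [mem_centralizer_singleton_iff] at hy ⊢
          have h2 := (he y i).2 hy
          rw [hpe] at h2
          have h3 : c⁻¹ * e y * c ∈ centralizer ({φ p} : Set L) := by
            rw [mem_centralizer_singleton_iff]
            calc c⁻¹ * e y * c * φ p = c⁻¹ * (e y * (c * φ p * c⁻¹)) * c := by group
              _ = c⁻¹ * (c * φ p * c⁻¹ * e y) * c := by rw [h2]
              _ = _ := by group
          have h4 := mem_centralizer_singleton_iff.1 (hple h3)
          refine (he y w).1 ?_
          rw [← hc]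
          calc e y * (c * φ qT * c⁻¹) = c * (c⁻¹ * e y * c * φ qT) * c⁻¹ := by group
            _ = c * (φ qT * (c⁻¹ * e y * c)) * c⁻¹ := by rw [h4]
            _ = _ := by group
      have hall : ∀ v : H, IsConj w v → v ∈ centralizer ({w} : Set H) := by
        intro v hv
        have hv2 : orderOf v = 2 := by
          obtain ⟨a, rfl⟩ := isConj_iff.1 hv
          exact ((MulAut.conj a).orderOf_eq w).trans hw
        obtain ⟨j, hj, hjr, hjv⟩ := exists_invol_between hr hv2 fun hh => hnot (hv.trans hh.symm)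
        exact hmain j hj hjr (mem_centralizer_singleton_iff.2 hjv.eq.symm)
      have := Nat.card_le_card_of_injective
        (fun v : {x : H // IsConj w x} => (⟨v.1, hall v.1 v.2⟩ : centralizer ({w} : Set H)))
        (fun a b hab => Subtype.ext (congrArg (fun t : centralizer ({w} : Set H) => (t : H)) hab))
      omega
  -- the centralizer of `w`
  set C := centralizer ({w} : Set H) with hCdef
  have hC48 : Nat.card C = 48 := hw48
  let w' : C := ⟨w, mem_centralizer_singleton_iff.2 rfl⟩
  have hinC : ∀ x : C, Nat.card (centralizer ({x} : Set C)) =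
      Nat.card (centralizer ({w} : Set H) ⊓ centralizer ({(x : H)} : Set H) : Subgroup H) := by
    intro x
    refine Nat.card_congr ?_
    exact
      { toFun := fun y => ⟨y.1.1, mem_inf.2 ⟨y.1.2, mem_centralizer_singleton_iff.2
          (congrArg Subtype.val (mem_centralizer_singleton_iff.1 y.2))⟩⟩
        invFun := fun y => ⟨⟨y.1, (mem_inf.1 y.2).1⟩, mem_centralizer_singleton_iff.2
          (Subtype.ext (mem_centralizer_singleton_iff.1 (mem_inf.1 y.2).2))⟩
        left_inv := fun y => rfl
        right_inv := fun y => rfl }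
  have hmodel : ∀ x : C, ∃ q ∈ good, e (x : H) = c * φ q * c⁻¹ ∧
      Nat.card (centralizer ({x} : Set C)) = (good.filter fun y => qmul q y = qmul y q).card := by
    intro x
    obtain ⟨q, hq, hqe⟩ := hcw (x : H) (mem_centralizer_singleton_iff.1 x.2)
    refine ⟨q, hq, hqe, ?_⟩
    rw [hinC, card_cent_inf_map e he, hqe, ← hc, ← card_inf_model h hq]
    symm
    refine Nat.card_congr ((MulAut.conj c).toEquiv.subtypeEquiv fun y => ?_)
    show _ ↔ c * y * c⁻¹ ∈ _
    rw [mem_inf, mem_inf, mem_centralizer_singleton_iff, mem_centralizer_singleton_iff,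
      mem_centralizer_singleton_iff, mem_centralizer_singleton_iff]
    have key : ∀ z : L, c * y * c⁻¹ * (c * z * c⁻¹) = c * z * c⁻¹ * (c * y * c⁻¹) ↔ y * z = z * y := by
      intro z
      have a1 : c * y * c⁻¹ * (c * z * c⁻¹) = c * (y * z) * c⁻¹ := by group
      have a2 : c * z * c⁻¹ * (c * y * c⁻¹) = c * (z * y) * c⁻¹ := by group
      rw [a1, a2]
      exact ⟨fun hh => mul_left_cancel (mul_right_cancel hh), fun hh => by rw [hh]⟩
    rw [key, key]
  have hrefl : ∀ x : C, orderOf x = 2 → x ≠ w' → Nat.card (centralizer ({x} : Set C)) = 4 := by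
    intro x hx hxw
    obtain ⟨q, hq, hqe, hqc⟩ := hmodel x
    rw [hqc]
    have hx2 : orderOf (e (x : H)) = 2 := (hiff _).2 (hone _ (by rwa [Subgroup.orderOf_coe]))
    rw [hqe] at hx2
    have hx2' : orderOf (φ q) = 2 := ((MulAut.conj c).orderOf_eq (φ q)).symm.trans hx2
    have hqq : qmul q q = qI := psi_eq_one h (good_mul _ hq _ hq) (by
      rw [h.map_mul _ hq _ hq, ← pow_two, ← hx2', pow_orderOf_eq_one])
    rcases invol_cases q hq hqq with hh | hh | hh
    · rw [hh, map_I h, orderOf_one] at hx2'; norm_num at hx2'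
    · exfalso
      rw [hh, hc] at hqe
      exact hxw (Subtype.ext (e.injective hqe))
    · exact four_of_refl q hq hh
  have hw'2 : orderOf w' = 2 := by rw [← Subgroup.orderOf_coe]; exact hw
  have hw'c : ∀ y : C, y * w' = w' * y := fun y =>
    Subtype.ext (mem_centralizer_singleton_iff.1 y.2)
  have hthree : ∀ z : C, orderOf z = 3 → Nat.card (centralizer ({z} : Set C)) = 6 := by
    intro z hz
    obtain ⟨q, hq, hqe, hqc⟩ := hmodel z
    have hmemw : w' ∈ centralizer ({z} : Set C) := mem_centralizer_singleton_iff.2 (hw'c z).symm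
    have hmemz : z ∈ centralizer ({z} : Set C) := mem_centralizer_singleton_iff.2 rfl
    have h2 : 2 ∣ Nat.card (centralizer ({z} : Set C)) := hw'2 ▸ Subgroup.orderOf_dvd_natCard _ hmemw
    have h3 : 3 ∣ Nat.card (centralizer ({z} : Set C)) := hz ▸ Subgroup.orderOf_dvd_natCard _ hmemz
    have hqI : q ≠ qI := fun hh => by
      rw [hh, map_I h, mul_one, mul_inv_cancel] at hqe
      have : (z : H) = 1 := e.injective (hqe.trans he1.symm)
      rw [← Subgroup.orderOf_coe, this, orderOf_one] at hz; omega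
    have hqT : q ≠ qT := fun hh => by
      rw [hh, hc] at hqe
      have : z = w' := Subtype.ext (e.injective hqe)
      rw [this, hw'2] at hz; omega
    rw [hqc] at h2 h3 ⊢
    rcases cent_sizes q hq hqI hqT with hh | hh | hh <;> rw [hh] at h3 ⊢ <;> norm_num at h3
  -- Sylow subgroups of the centralizer
  have hSyl : ∀ P : Sylow 2 C, Nat.card (P : Subgroup C) = 16 := by
    intro P
    have a1 := (Nat.prime_two.pow_dvd_iff_le_factorization (by norm_num : 48 ≠ 0)).1
      (by norm_num : 2 ^ 4 ∣ 48)
    have a2 := mt (Nat.prime_two.pow_dvd_iff_le_factorization (by norm_num : 48 ≠ 0)).2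
      (by norm_num : ¬ 2 ^ 5 ∣ 48)
    rw [P.card_eq_multiplicity, hC48, show (48 : ℕ).factorization 2 = 4 by omega]
    norm_num
  obtain ⟨z, hz⟩ := exists_prime_orderOf_dvd_card' (G := C) 3 (by rw [hC48]; norm_num)
  have hnot : ∀ P : Sylow 2 C, ¬ (P : Subgroup C).Normal := by
    intro P hPn
    haveI := hPn
    let act : MulAction (zpowers z) (P : Subgroup C) :=
      MulAction.compHom _ ((MulAut.conjNormal : C →* MulAut (P : Subgroup C)).comp (zpowers z).subtype)
    have hZp : IsPGroup 3 (zpowers z) :=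
      IsPGroup.of_card (n := 1) (by rw [Nat.card_zpowers, hz, pow_one])
    have hmod := hZp.card_modEq_card_fixedPoints (P : Subgroup C)
    have hfix : Nat.card (MulAction.fixedPoints (zpowers z) (P : Subgroup C)) = 2 := by
      have hP' : w' ∈ (P : Subgroup C) := by
        obtain ⟨R, hR⟩ := (IsPGroup.of_card (n := 1) (by rw [Nat.card_zpowers, hw'2, pow_one]) :
          IsPGroup 2 (zpowers w')).exists_le_sylow
        haveI := Sylow.unique_of_normal P hPn
        exact (Subsingleton.elim R P) ▸ hR (mem_zpowers w')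
      let K : Subgroup C := (P : Subgroup C) ⊓ centralizer ({z} : Set C)
      have hfp : ∀ x : (P : Subgroup C),
          x ∈ MulAction.fixedPoints (zpowers z) (P : Subgroup C) ↔ (x : C) ∈ K := by
        intro x
        constructor
        · intro hx
          refine mem_inf.2 ⟨x.2, mem_centralizer_singleton_iff.2 ?_⟩
          have h2 : z * (x : C) * z⁻¹ = x := congrArg Subtype.val (hx ⟨z, mem_zpowers z⟩)
          exact (mul_inv_eq_iff_eq_mul.1 h2).symm
        · intro hx g
          obtain ⟨g, hg⟩ := g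
          refine Subtype.ext ?_
          show g * (x : C) * g⁻¹ = x
          obtain ⟨n, rfl⟩ := mem_zpowers_iff.1 hg
          rw [mul_inv_eq_iff_eq_mul]
          exact ((show Commute z (x : C) from
            (mem_centralizer_singleton_iff.1 (mem_inf.1 hx).2).symm).zpow_left n).eq
      have hK : Nat.card K = 2 := by
        have d1 : Nat.card K ∣ 16 := hSyl P ▸ Subgroup.card_dvd_of_le inf_le_left
        have d2 : Nat.card K ∣ 6 := hthree z hz ▸ Subgroup.card_dvd_of_le inf_le_right
        have d3 : Nat.card K ∣ 2 := (Nat.dvd_gcd d1 d2).trans (by norm_num)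
        have d4 : 2 ∣ Nat.card K := hw'2 ▸ Subgroup.orderOf_dvd_natCard K
          (mem_inf.2 ⟨hP', mem_centralizer_singleton_iff.2 (hw'c z).symm⟩)
        exact Nat.dvd_antisymm d3 d4
      refine Eq.trans ?_ hK
      exact Nat.card_congr
        { toFun := fun x => ⟨x.1.1, (hfp x.1).1 x.2⟩
          invFun := fun y => ⟨⟨y.1, (mem_inf.1 y.2).1⟩, (hfp _).2 y.2⟩
          left_inv := fun x => rfl
          right_inv := fun y => rfl }
    simp only [hfix, hSyl P] at hmod
    exact absurd hmod (by decide)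
  have hinter : ∀ P R : Sylow 2 C, P ≠ R →
      ((P : Subgroup C) ⊓ (R : Subgroup C)).Normal ∧
        Nat.card ((P : Subgroup C) ⊓ (R : Subgroup C) : Subgroup C) = 8 := by
    intro P R hPR
    set D := (P : Subgroup C) ⊓ (R : Subgroup C) with hD
    have hd : Nat.card D ∣ 16 := hSyl P ▸ Subgroup.card_dvd_of_le inf_le_left
    have hlt : Nat.card D ≠ 16 := by
      intro h16
      have e1 : D = (P : Subgroup C) := eq_of_le_of_card_ge inf_le_left (by rw [h16, hSyl P])
      have e2 : D = (R : Subgroup C) := eq_of_le_of_card_ge inf_le_right (by rw [h16, hSyl R])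
      exact hPR (Sylow.ext (e1.symm.trans e2))
    have hge : 5 < Nat.card D := by
      have e1 : (P : Subgroup C).index = 3 := by
        have := (P : Subgroup C).index_mul_card
        rw [hSyl P, hC48] at this
        omega
      have e2 : ((P : Subgroup C).relIndex (R : Subgroup C)) * Nat.card D = 16 := by
        rw [← inf_relIndex_right, ← hD, ← hSyl R]
        have := (D.subgroupOf (R : Subgroup C)).index_mul_card
        rwa [Nat.card_congr (subgroupOfEquivOfLe (inf_le_right : D ≤ (R : Subgroup C))).toEquiv] at this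
      have e3 : (P : Subgroup C).relIndex (R : Subgroup C) ≤ 3 :=
        (relIndex_le_of_le_right le_top (by rw [relIndex_top_right]; omega)).trans
          (by rw [relIndex_top_right, e1])
      nlinarith
    have h8 : Nat.card D = 8 := by
      have hlist : ∀ k ∈ Nat.divisors 16, k ≠ 16 → 5 < k → k = 8 := by decide +kernel
      exact hlist _ (Nat.mem_divisors.2 ⟨hd, by norm_num⟩) hlt hge
    refine ⟨?_, h8⟩
    rw [← normalizer_eq_top_iff]
    have hle : ∀ T : Sylow 2 C, D ≤ (T : Subgroup C) → (T : Subgroup C) ≤ normalizer (D : Set C) := by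
      intro T hT
      have hidx : (D.subgroupOf (T : Subgroup C)).index = 2 := by
        have := (D.subgroupOf (T : Subgroup C)).index_mul_card
        rw [Nat.card_congr (subgroupOfEquivOfLe hT).toEquiv, h8, hSyl T] at this
        omega
      haveI := normal_of_index_eq_two hidx
      exact (normal_subgroupOf_iff_le_normalizer hT).1 inferInstance
    refine eq_top_of_card_eq _ (Nat.dvd_antisymm (card_subgroup_dvd_card _) ?_)
    have hd16 : 16 ∣ Nat.card (normalizer (D : Set C)) := hSyl P ▸ Subgroup.card_dvd_of_le (hle P inf_le_left)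
    have hne16 : Nat.card (normalizer (D : Set C)) ≠ 16 := by
      intro h16
      have e1 := eq_of_le_of_card_ge (hle P inf_le_left) (by rw [h16, hSyl P])
      have e2 := eq_of_le_of_card_ge (hle R inf_le_right) (by rw [h16, hSyl R])
      exact hPR (Sylow.ext (e1.trans e2.symm))
    have hd48 : Nat.card (normalizer (D : Set C)) ∣ 48 := hC48 ▸ card_subgroup_dvd_card _
    have hlist : ∀ k ∈ Nat.divisors 48, 16 ∣ k → k ≠ 16 → k = 48 := by decide +kernel
    rw [hC48, hlist _ (Nat.mem_divisors.2 ⟨hd48, by norm_num⟩) hd16 hne16]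
  have hnoinv : ∀ (D : Subgroup C), D.Normal → Nat.card D ≤ 8 → ∀ r ∈ D, orderOf r = 2 → r = w' := by
    intro D hDn hD8 r hrD hr
    by_contra hrw
    have hidx : (centralizer ({r} : Set C)).index = 12 := by
      have := (centralizer ({r} : Set C)).index_mul_card
      rw [hrefl r hr hrw, hC48] at this
      omega
    have h2 := MulAction.index_stabilizer (ConjAct C) r
    rw [ConjAct.orbit_eq_carrier_conjClasses] at h2
    have hle : (ConjClasses.mk r).carrier ⊆ (D : Set C) := by
      intro y hy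
      rw [ConjClasses.mem_carrier_iff_mk_eq, ConjClasses.mk_eq_mk_iff_isConj, isConj_comm] at hy
      obtain ⟨a, rfl⟩ := isConj_iff.1 hy
      exact hDn.conj_mem r hrD a
    have h12 := Set.ncard_le_ncard hle (Set.toFinite _)
    rw [← Nat.card_coe_set_eq (D : Set C)] at h12
    have hstab : (MulAction.stabilizer (ConjAct C) r).index = 12 := by
      rw [ConjAct.stabilizer_eq_centralizer]
      exact hidx
    have hD8' : Nat.card (↑(D : Set C)) ≤ 8 := hD8
    omega
  obtain ⟨P, R, hPR⟩ : ∃ P R : Sylow 2 C, P ≠ R := by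
    obtain ⟨P⟩ : Nonempty (Sylow 2 C) := inferInstance
    by_contra hall
    simp only [not_exists, not_not] at hall
    haveI : Subsingleton (Sylow 2 C) := ⟨hall⟩
    exact hnot P P.normal_of_subsingleton
  have hcore : Nat.card (Cfsg.pCore 2 C) = 8 := by
    haveI := (hinter P R hPR).1
    have hle : (P : Subgroup C) ⊓ (R : Subgroup C) ≤ Cfsg.pCore 2 C :=
      le_sSup ⟨(hinter P R hPR).1, P.isPGroup'.to_le inf_le_left⟩
    refine le_antisymm ?_ ((hinter P R hPR).2 ▸ Subgroup.card_le_of_le hle)
    rw [← (hinter P R hPR).2]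
    refine Subgroup.card_le_of_le (le_inf ?_ ?_) <;> exact CfsgLib.Cores.pCore_le_sylow _
  have hAn : (Cfsg.pCore 2 C).Normal := Subgroup.sSup_normal _ fun N hN => hN.1
  have hcen : centralizer (Cfsg.pCore 2 C : Set C) ≤ Cfsg.pCore 2 C := by
    haveI := hAn
    refine le_sSup ⟨inferInstance, ?_⟩
    have hd3 : ¬ 3 ∣ Nat.card (centralizer (Cfsg.pCore 2 C : Set C)) := by
      intro hd
      obtain ⟨y, hy⟩ := exists_prime_orderOf_dvd_card' (G := centralizer (Cfsg.pCore 2 C : Set C)) 3 hd
      rw [← Subgroup.orderOf_coe] at hy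
      have hle : Cfsg.pCore 2 C ≤ centralizer ({(y : C)} : Set C) := fun a ha =>
        mem_centralizer_singleton_iff.2 (mem_centralizer_iff.1 y.2 a ha)
      have := Subgroup.card_dvd_of_le hle
      rw [hcore, hthree _ hy] at this
      norm_num at this
    have hdvd : Nat.card (centralizer (Cfsg.pCore 2 C : Set C)) ∣ 2 ^ 4 := by
      refine (Nat.Coprime.dvd_of_dvd_mul_right ?_ (show
        Nat.card (centralizer (Cfsg.pCore 2 C : Set C)) ∣ 2 ^ 4 * 3 by
          rw [show 2 ^ 4 * 3 = 48 by norm_num, ← hC48]; exact card_subgroup_dvd_card _))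
      exact ((Nat.prime_three.coprime_iff_not_dvd).2 hd3).symm
    obtain ⟨k, -, hk⟩ := (Nat.dvd_prime_pow Nat.prime_two).1 hdvd
    exact IsPGroup.of_card hk
  have hu : ∀ P R : Sylow 2 C, P ≠ R → ∀ x y, x ∈ (P : Subgroup C) ⊓ (R : Subgroup C) →
      y ∈ (P : Subgroup C) ⊓ (R : Subgroup C) → orderOf x = 2 → orderOf y = 2 → x ∈ zpowers y := by
    intro P R hPR x y hx hy hx2 hy2
    obtain ⟨hn', h8⟩ := hinter P R hPR
    rw [hnoinv _ hn' h8.le x hx hx2, hnoinv _ hn' h8.le y hy hy2]
    exact mem_zpowers _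
  rcases Cfsg.Agent.S3304.main C hcen hu with ⟨P, hP⟩ | ⟨⟨ec⟩⟩ | ⟨-, -, -, hQ⟩
  · exact absurd hP (hnot P)
  · obtain ⟨ψ, hψ, hψw⟩ := exists_loc hw ec
    exact ⟨ψ, hψ, fun x hx => hψw.symm ▸ hone x hx, hH⟩
  · exfalso
    obtain ⟨eP⟩ := hQ (S.subtype hSw)
    obtain ⟨r, hr, hrw⟩ : ∃ r : H, orderOf r = 2 ∧ r ∈ (S : Subgroup H) ∧ r ≠ w := by
      obtain ⟨q, hq, hq2⟩ : ∃ q ∈ good, cls q = 2 := by decide +kernel
      set r0 := e.symm (c * φ q * c⁻¹) with hr0
      have hr0e : e r0 = c * φ q * c⁻¹ := e.apply_symm_apply _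
      have hq2' : orderOf (e r0) = 2 := by
        rw [hr0e]
        refine ((MulAut.conj c).orderOf_eq (φ q)).trans ?_
        have hh := isConj_rep h hq
        rw [hq2, rep_vals.2.2.1] at hh
        obtain ⟨a, ha⟩ := isConj_iff.1 hh
        rw [← orderOf_S h, ← ha]
        exact ((MulAut.conj a).orderOf_eq (φ q)).symm
      have hr2 : orderOf r0 = 2 := by
        obtain ⟨a, ha⟩ := isConj_iff.1 ((hiff r0).1 hq2')
        rw [← ha]; exact ((MulAut.conj a).orderOf_eq w).trans hw
      have hcomm : r0 * w = w * r0 := by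
        refine (he r0 w).1 ?_
        rw [hr0e, ← hc]
        calc c * φ q * c⁻¹ * (c * φ qT * c⁻¹) = c * (φ q * φ qT) * c⁻¹ := by group
          _ = c * (φ qT * φ q) * c⁻¹ := by rw [commute_T h hq]
          _ = _ := by group
      have hr0C : r0 ∈ C := mem_centralizer_singleton_iff.2 hcomm
      obtain ⟨R, hR⟩ := (IsPGroup.of_card (n := 1) (by
        rw [Nat.card_zpowers, ← Subgroup.orderOf_coe, pow_one]; exact hr2) :
        IsPGroup 2 (zpowers (⟨r0, hr0C⟩ : C))).exists_le_sylow
      obtain ⟨g, hg⟩ := MulAction.exists_smul_eq C R (S.subtype hSw)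
      have hmem : g * ⟨r0, hr0C⟩ * g⁻¹ ∈ ((S.subtype hSw : Sylow 2 C) : Subgroup C) := by
        rw [← hg]; exact ⟨⟨r0, hr0C⟩, hR (mem_zpowers _), rfl⟩
      refine ⟨(g : H) * r0 * (g : H)⁻¹, ((MulAut.conj (g : H)).orderOf_eq r0).trans hr2, hmem, fun hh => ?_⟩
      have hgw := mem_centralizer_singleton_iff.1 g.2
      have hr0w : r0 = w := by
        calc r0 = (g : H)⁻¹ * ((g : H) * r0 * (g : H)⁻¹) * g := by group
          _ = (g : H)⁻¹ * (w * g) := by rw [hh, mul_assoc]
          _ = w := by rw [← hgw]; group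
      rw [hr0w, ← hc] at hr0e
      have hqT : q = qT := h.inj _ hq _ qT_good (mul_left_cancel (mul_right_cancel hr0e)).symm
      exact absurd (hqT ▸ hq2) (by decide)
    have hQ2 : ∀ a : QuaternionGroup 4, a * a = 1 → a = 1 ∨ a = QuaternionGroup.a 4 := by decide +kernel
    let rP : ((S.subtype hSw : Sylow 2 C) : Subgroup C) := ⟨⟨r, hSw hrw.1⟩, hrw.1⟩
    let wP : ((S.subtype hSw : Sylow 2 C) : Subgroup C) := ⟨w', w0.1.2⟩
    have hrr : rP * rP = 1 := Subtype.ext (Subtype.ext (show r * r = 1 by
      rw [← pow_two, ← hr, pow_orderOf_eq_one]))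
    have hww : wP * wP = 1 := Subtype.ext (Subtype.ext (show w * w = 1 by
      rw [← pow_two, ← hw, pow_orderOf_eq_one]))
    rcases hQ2 (eP rP) (by rw [← map_mul, hrr, map_one]) with hh | hh
    · have : rP = 1 := eP.injective (hh.trans (map_one eP).symm)
      have hr1 : r = 1 := congrArg (fun t : ((S.subtype hSw : Sylow 2 C) : Subgroup C) => ((t : C) : H)) this
      rw [hr1, orderOf_one] at hr; omega
    · rcases hQ2 (eP wP) (by rw [← map_mul, hww, map_one]) with hh' | hh'
      · have : wP = 1 := eP.injective (hh'.trans (map_one eP).symm)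
        exact hw1 (congrArg (fun t : ((S.subtype hSw : Sylow 2 C) : Subgroup C) => ((t : C) : H)) this)
      · have : rP = wP := eP.injective (hh.trans hh'.symm)
        exact hrw.2 (congrArg (fun t : ((S.subtype hSw : Sylow 2 C) : Subgroup C) => ((t : C) : H)) this)

end CfsgLib.GLTwoThree
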